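import Cfsg.Agent.Lib.Jordan.RankThree.Commutator

/-!
# Power maps for a regular unipotent automorphism

In a group of class two with three generators and a regular unipotent automorphism `θ`, whose
`p`-th power is inner, the `p`-th power of a generator is read off from the commutators.
-/

set_option autoImplicit false
set_option linter.style.haveILetI false
set_option linter.unusedSectionVars false

namespace CfsgLib.Jordan.RankThree

open Cfsg
open scoped commutatorElement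

variable {Q : Type*} [Group Q] [Finite Q] {p : ℕ} [hp : Fact p.Prime] (h5 : 5 ≤ p)
  {M : Subgroup Q} (hMc : M ≤ Subgroup.center Q) (hMe : ∀ m ∈ M, m ^ p = 1)
  (hcm : ∀ a b : Q, ⁅a, b⁆ ∈ M) (hpm : ∀ a : Q, a ^ p ∈ M)
  (hidx : M.index = p ^ 3) (hQ : IsPGroup p Q) (hbd : ElemBound p 3 Q)

theorem dvd_of_zpow_eq_one {G : Type*} [Group G] {x : G} (hx : x ^ p = 1) (hx1 : x ≠ 1) {k : ℤ}
    (hk : x ^ k = 1) : (p : ℤ) ∣ k :=
  orderOf_eq_prime hx hx1 ▸ orderOf_dvd_iff_zpow_eq_one.2 hk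

theorem mem_of_zpow_mem {G : Type*} [Group G] {R : Subgroup G} {x : G} (hx : x ^ p ∈ R) {k : ℤ}
    (hk : ¬(p : ℤ) ∣ k) (h : x ^ k ∈ R) : x ∈ R := by
  obtain ⟨u, v, huv⟩ := ((Nat.prime_iff_prime_int.1 hp.out).coprime_iff_not_dvd).2 hk
  have : x = (x ^ p) ^ u * (x ^ k) ^ v := by
    rw [← zpow_natCast x p, ← zpow_mul, ← zpow_mul, ← zpow_add, mul_comm (p : ℤ) u, mul_comm k v,
      huv, zpow_one]
  rw [this]
  exact R.mul_mem (R.zpow_mem hx u) (R.zpow_mem h v)

theorem zpow_mem_of_pow_mem {G : Type*} [Group G] {R : Subgroup G} {x : G} (hx : x ^ p ∈ R) {k : ℤ}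
    (hk : (p : ℤ) ∣ k) : x ^ k ∈ R := by
  obtain ⟨j, rfl⟩ := hk
  rw [zpow_mul, zpow_natCast]
  exact R.zpow_mem hx j

theorem dec_apply {G : Type*} [CommGroup G] (x y z : G) (a b c : ℤ) :
    (x * y * z) ^ a * (y * z) ^ b * z ^ c = x ^ a * y ^ b * z ^ c * (y ^ a * z ^ (a + b)) := by
  rw [mul_zpow, mul_zpow, mul_zpow, zpow_add]
  ac_rfl

include h5 hMc hMe hcm hpm hidx hQ hbd in
theorem block_three {ι : Type*} (σ : ι → MulAut Q) (hσM : ∀ i, ∀ m ∈ M, σ i m ∈ M)
    (hirr : ∀ U : Subgroup Q, M ≤ U → (∀ i, ∀ v ∈ U, σ i v ∈ U) → U = M ∨ U = ⊤)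
    {θ : MulAut Q} (hθM : ∀ m ∈ M, θ m ∈ M) {q : Q} (hθp : ∀ v, (θ ^ p) v = q * v * q⁻¹)
    (hθq : θ q = q) {F' : Subgroup Q} (hMF : M ≤ F') (hF : F'.index = p) (hqF : q ∈ F')
    (hθF : ∀ v, v⁻¹ * θ v ∈ F') (hne : ∃ a b : Q, ⁅a, b⁆ ≠ 1)
    {y w l : Q} (hy : y ∉ F') (hw : w = y⁻¹ * θ y) (hl : l = w⁻¹ * θ w) (hlM : l ∉ M)
    (hμ : l⁻¹ * θ l ∈ M) :
    ∃ r : ℤ, ¬(p : ℤ) ∣ r ∧ (l ^ r)⁻¹ * q ∈ M ∧
      ∀ R : Subgroup Q, (∀ v ∈ F', v ^ p ∈ R) → y ^ p * ⁅y, w⁆ ^ r ∈ R := by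
  have hθy : θ y = y * w := by rw [hw, mul_inv_cancel_left]
  have hθw : θ w = w * l := by rw [hl, mul_inv_cancel_left]
  obtain ⟨μ, hμM, hθl⟩ : ∃ μ ∈ M, θ l = l * μ := ⟨_, hμ, by rw [mul_inv_cancel_left]⟩
  have hwF : w ∈ F' := hw ▸ hθF y
  have hlF : l ∈ F' := hl ▸ hθF w
  haveI : M.Normal := ⟨fun m hm g => by rw [comm_of_mem hMc hm g, mul_inv_cancel_right]; exact hm⟩
  -- the flag `M < L' < F'`
  set L' := M ⊔ Subgroup.zpowers l with hL'
  set W' := L' ⊔ Subgroup.zpowers w with hW'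
  have hL'F : L' ≤ F' := sup_le hMF (Subgroup.zpowers_le.2 hlF)
  have hW'F : W' ≤ F' := sup_le hL'F (Subgroup.zpowers_le.2 hwF)
  haveI : L'.Normal := ⟨fun n hn g => by
    rw [show g * n * g⁻¹ = ⁅g, n⁆ * n by simp [commutatorElement_def]]
    exact L'.mul_mem (Subgroup.mem_sup_left (hcm g n)) hn⟩
  have hθL : ∀ v ∈ L', v⁻¹ * θ v ∈ M := by
    intro v hv
    obtain ⟨m, hm, b, hb, rfl⟩ := Subgroup.mem_sup_of_normal_left.1 hv
    obtain ⟨k, rfl⟩ := Subgroup.mem_zpowers_iff.1 hb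
    rw [map_mul, map_zpow, hθl, (show Commute l μ from comm_of_mem hMc hμM l).mul_zpow, mul_inv_rev]
    have hx : m⁻¹ * θ m ∈ M := M.mul_mem (M.inv_mem hm) (hθM m hm)
    rw [show (l ^ k)⁻¹ * m⁻¹ * (θ m * (l ^ k * μ ^ k)) =
      (l ^ k)⁻¹ * (m⁻¹ * θ m) * l ^ k * μ ^ k by simp only [mul_assoc],
      comm_of_mem hMc hx (l ^ k)⁻¹, inv_mul_cancel_right]
    exact M.mul_mem hx (M.zpow_mem hμM k)
  have hwL : w ∉ L' := fun h => hlM (by rw [hl]; exact hθL w h)
  have hl1 : M < L' := left_lt_sup.2 fun h => hlM (h (Subgroup.mem_zpowers l))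
  have hl2 : L' < W' := left_lt_sup.2 fun h => hwL (h (Subgroup.mem_zpowers w))
  have hWF : W' = F' := by
    refine le_antisymm hW'F ?_
    by_contra hne'
    have b1 := mul_relIndex_le hQ le_rfl hl1
    have b2 := mul_relIndex_le hQ hl1.le hl2
    have b3 := mul_relIndex_le hQ (hl1.trans hl2).le (lt_of_le_not_ge hW'F hne')
    have e := Subgroup.relIndex_mul_index hMF
    rw [hF, hidx] at e
    rw [Subgroup.relIndex_self] at b1
    have c2 := (Nat.mul_le_mul_left p ((Nat.mul_le_mul_left p b1).trans b2)).trans b3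
    have c3 := Nat.mul_le_mul_right p c2
    rw [e, show p * (p * (p * 1)) * p = p ^ 4 by ring] at c3
    exact absurd c3 (not_le.2 (Nat.pow_lt_pow_right hp.out.one_lt (by norm_num)))
  -- commutators
  set c1 := ⁅w, l⁆ with hc1
  set c2 := ⁅y, l⁆ with hc2
  set c3 := ⁅y, w⁆ with hc3
  have hμ1 : ∀ x, ⁅x, μ⁆ = 1 := fun x => (comm_eq_one_of_mem hMc hμM x).2
  have hθ1 : θ c1 = c1 := by
    rw [hc1, map_commutatorElement, hθw, hθl, comm_mul_left hMc hcm, comm_mul_right hMc hcm,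
      comm_mul_right hMc hcm, hμ1, hμ1, commutatorElement_self, mul_one, mul_one, mul_one]
  have hθ2 : θ c2 = c2 * c1 := by
    rw [hc2, map_commutatorElement, hθy, hθl, comm_mul_left hMc hcm, comm_mul_right hMc hcm,
      comm_mul_right hMc hcm, hμ1, hμ1, mul_one, mul_one]
  have hθ3 : θ c3 = c3 * c2 * c1 := by
    rw [hc3, map_commutatorElement, hθy, hθw, comm_mul_left hMc hcm, comm_mul_right hMc hcm,
      comm_mul_right hMc hcm, commutatorElement_self, one_mul]
  have hc1M : c1 ∈ M := hcm _ _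
  have hc2M : c2 ∈ M := hcm _ _
  have hc3M : c3 ∈ M := hcm _ _
  -- `c1` is nontrivial
  have hc1ne : c1 ≠ 1 := by
    intro h1
    have habel : ∀ a ∈ F', ∀ b ∈ F', a * b = b * a := by
      have hgen : F' ≤ Subgroup.closure ((M : Set Q) ∪ {l, w}) := hWF ▸ sup_le (sup_le
        (fun m hm => Subgroup.subset_closure (Or.inl hm))
        (Subgroup.zpowers_le.2 (Subgroup.subset_closure (Or.inr (by simp)))))
        (Subgroup.zpowers_le.2 (Subgroup.subset_closure (Or.inr (by simp))))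
      have hwl : w * l = l * w := commutatorElement_eq_one_iff_mul_comm.1 h1
      have hcc : ∀ a ∈ (M : Set Q) ∪ {l, w}, ∀ b ∈ (M : Set Q) ∪ {l, w}, a * b = b * a := by
        rintro a (ha | rfl | rfl) b (hb | rfl | rfl) <;> first
          | exact (comm_of_mem hMc ha _).symm
          | exact comm_of_mem hMc hb _
          | rfl
          | exact hwl
          | exact hwl.symm
      intro a ha b hb
      have h' : a ∈ Subgroup.centralizer ((M : Set Q) ∪ {l, w}) :=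
        (Subgroup.closure_le _).2 (fun x hx => Subgroup.mem_centralizer_iff.2 fun z hz => hcc z hz x hx)
          (hgen ha)
      have h'' : b ∈ Subgroup.centralizer ({a} : Set Q) :=
        (Subgroup.closure_le _).2 (fun x hx => Subgroup.mem_centralizer_iff.2 fun z hz => by
          rw [Set.mem_singleton_iff.1 hz]
          exact (Subgroup.mem_centralizer_iff.1 h' x hx).symm) (hgen hb)
      exact Subgroup.mem_centralizer_iff.1 h'' a rfl
    obtain ⟨i, hi⟩ : ∃ i, ¬∀ v ∈ F', σ i v ∈ F' := by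
      by_contra h
      push Not at h
      rcases hirr F' hMF h with h' | h'
      · exact hlM (h' ▸ hlF)
      · rw [h', Subgroup.index_top] at hF
        exact hp.out.one_lt.ne hF
    set G' := F'.map (σ i).toMonoidHom with hG'
    have hsup : F' ⊔ G' = ⊤ := by
      have hlt : F' < F' ⊔ G' := left_lt_sup.2 fun h => hi fun v hv => h ⟨v, hv, rfl⟩
      have e := Subgroup.relIndex_mul_index hlt.le
      rw [hF] at e
      rcases hp.out.eq_one_or_self_of_dvd _ (Dvd.intro _ e) with h | h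
      · exact absurd (Subgroup.relIndex_eq_one.1 h) hlt.not_ge
      · rw [h] at e
        exact Subgroup.index_eq_one.1 (by simpa [hp.out.ne_zero] using e)
    have hG'F : ∀ a ∈ G', ∀ b ∈ G', a * b = b * a := by
      rintro _ ⟨a, ha, rfl⟩ _ ⟨b, hb, rfl⟩
      simp only [MulEquiv.coe_toMonoidHom]
      rw [← map_mul, ← map_mul, habel a ha b hb]
    have hIc : F' ⊓ G' ≤ Subgroup.center Q := fun x hx => Subgroup.mem_center_iff.2 fun g => by
      have : (⊤ : Subgroup Q) ≤ Subgroup.centralizer ({x} : Set Q) := hsup ▸ sup_le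
        (fun a ha => Subgroup.mem_centralizer_iff.2 fun z hz => by
          rw [Set.mem_singleton_iff.1 hz]; exact habel x hx.1 a ha)
        (fun a ha => Subgroup.mem_centralizer_iff.2 fun z hz => by
          rw [Set.mem_singleton_iff.1 hz]; exact hG'F x hx.2 a ha)
      exact (Subgroup.mem_centralizer_iff.1 (this (Subgroup.mem_top g)) x rfl).symm
    rcases hirr (Subgroup.center Q) hMc (fun j v hv => Subgroup.mem_center_iff.2 fun g => by
      have := congrArg (σ j) (Subgroup.mem_center_iff.1 hv ((σ j).symm g))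
      simpa using this) with h | h
    · have hG'i : G'.index = p := by rw [hG']; exact (Subgroup.index_map_equiv F' (σ i)).trans hF
      have h2 : (F' ⊓ G').index ≤ p * p := by
        simpa [hF, hG'i] using Subgroup.index_inf_le (H := F') (K := G')
      have h3 := Nat.le_of_dvd (Nat.pos_of_ne_zero Subgroup.index_ne_zero_of_finite)
        (Subgroup.index_dvd_of_le (h ▸ hIc : F' ⊓ G' ≤ M))
      rw [hidx] at h3
      have : p * p < p ^ 3 := by
        rw [← sq]; exact Nat.pow_lt_pow_right hp.out.one_lt (by norm_num)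
      omega
    · obtain ⟨a, b, hab⟩ := hne
      exact hab (commutatorElement_eq_one_iff_mul_comm.2
        (Subgroup.mem_center_iff.1 (h ▸ Subgroup.mem_top b) a))
  -- independence
  set C1 := Subgroup.zpowers c1 with hC1
  set C2 := C1 ⊔ Subgroup.zpowers c2 with hC2
  set C3 := C2 ⊔ Subgroup.zpowers c3 with hC3
  have hnormal : ∀ N : Subgroup Q, N ≤ M → N.Normal := fun N hN => ⟨fun n hn g => by
    rw [comm_of_mem hMc (hN hn) g, mul_inv_cancel_right]; exact hn⟩
  have hC1M : C1 ≤ M := Subgroup.zpowers_le.2 hc1M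
  have hC2M : C2 ≤ M := sup_le hC1M (Subgroup.zpowers_le.2 hc2M)
  have hC3M : C3 ≤ M := sup_le hC2M (Subgroup.zpowers_le.2 hc3M)
  haveI := hnormal C1 hC1M
  haveI := hnormal C2 hC2M
  have hC1fix : ∀ x ∈ C1, θ x = x := fun x hx => by
    obtain ⟨k, rfl⟩ := Subgroup.mem_zpowers_iff.1 hx
    rw [map_zpow, hθ1]
  have hc2C : c2 ∉ C1 := fun h => hc1ne (by
    have := hC1fix _ h
    rwa [hθ2, mul_eq_left] at this)
  have hC2θ : ∀ x ∈ C2, x⁻¹ * θ x ∈ C1 := fun x hx => by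
    obtain ⟨a, ha, b, hb, rfl⟩ := Subgroup.mem_sup_of_normal_left.1 hx
    obtain ⟨k, rfl⟩ := Subgroup.mem_zpowers_iff.1 hb
    rw [map_mul, hC1fix a ha, map_zpow, hθ2, (show Commute c2 c1 from comm_of_mem hMc hc1M c2).mul_zpow,
      mul_inv_rev, show (c2 ^ k)⁻¹ * a⁻¹ * (a * (c2 ^ k * c1 ^ k)) = c1 ^ k by group]
    exact C1.zpow_mem (Subgroup.mem_zpowers c1) k
  have hc3C : c3 ∉ C2 := fun h => hc2C (by
    have := hC2θ _ h
    rw [hθ3, ← mul_assoc, ← mul_assoc, inv_mul_cancel, one_mul] at this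
    exact (C1.mul_mem_cancel_right (Subgroup.mem_zpowers c1)).1 this)
  have hcard : p ^ 3 ≤ Nat.card C3 := by
    have b1 := mul_relIndex_le hQ le_rfl
      (bot_lt_iff_ne_bot.2 (Subgroup.zpowers_ne_bot.2 hc1ne) : ⊥ < C1)
    have b2 := mul_relIndex_le hQ bot_le
      (left_lt_sup.2 fun h => hc2C (h (Subgroup.mem_zpowers c2)) : C1 < C2)
    have b3 := mul_relIndex_le hQ bot_le
      (left_lt_sup.2 fun h => hc3C (h (Subgroup.mem_zpowers c3)) : C2 < C3)
    rw [Subgroup.relIndex_self] at b1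
    rw [← Subgroup.relIndex_bot_left C3]
    have := (Nat.mul_le_mul_left p ((Nat.mul_le_mul_left p b1).trans b2)).trans b3
    rwa [show p * (p * (p * 1)) = p ^ 3 by ring] at this
  have hC3eq : C3 = M :=
    Subgroup.eq_of_le_of_card_ge hC3M ((card_le_cube hMc hMe hQ hbd).trans hcard)
  have hcc : ∀ {m m' : Q}, m ∈ M → Commute m m' := fun {m m'} hm => (comm_of_mem hMc hm m').symm
  have hdec : ∀ m ∈ M, ∃ a b c : ℤ, m = c3 ^ a * c2 ^ b * c1 ^ c := fun m hm => by
    obtain ⟨u, hu, v, hv, rfl⟩ := Subgroup.mem_sup_of_normal_left.1 (hC3eq.symm ▸ hm : m ∈ C3)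
    obtain ⟨s, hs, t, ht, rfl⟩ := Subgroup.mem_sup_of_normal_left.1 hu
    obtain ⟨c, rfl⟩ := Subgroup.mem_zpowers_iff.1 hs
    obtain ⟨b, rfl⟩ := Subgroup.mem_zpowers_iff.1 ht
    obtain ⟨a, rfl⟩ := Subgroup.mem_zpowers_iff.1 hv
    refine ⟨a, b, c, ?_⟩
    rw [(hcc (M.zpow_mem hc1M c) (m' := c2 ^ b)).eq,
      (hcc (M.zpow_mem hc3M a) (m' := c2 ^ b * c1 ^ c)).eq.symm, mul_assoc]
  have hθdec : ∀ a b c : ℤ, θ (c3 ^ a * c2 ^ b * c1 ^ c) =
      c3 ^ a * c2 ^ b * c1 ^ c * (c2 ^ a * c1 ^ (a + b)) := by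
    intro a b c
    letI : CommGroup M := { (inferInstance : Group M) with
      mul_comm := fun u v => Subtype.ext (hcc u.2).eq }
    rw [map_mul, map_mul, map_zpow, map_zpow, map_zpow, hθ1, hθ2, hθ3]
    exact congrArg Subtype.val
      (dec_apply (⟨c3, hc3M⟩ : M) ⟨c2, hc2M⟩ ⟨c1, hc1M⟩ a b c)
  -- the power map
  have hπ : ∀ a b : Q, (a * b) ^ p = a ^ p * b ^ p := mul_pow_classTwo h5 hMc hMe hcm
  let π : Q →* Q := MonoidHom.mk' (fun v => v ^ p) hπ
  have hker : π.ker = M := by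
    rcases hirr π.ker (fun m hm => hMe m hm) (fun i v hv => by
      show σ i v ^ p = 1
      rw [← map_pow, show v ^ p = 1 from hv, map_one]) with h | h
    · exact h
    · exfalso
      have hexp : ∀ v : Q, v ^ p = 1 := fun v => (h ▸ Subgroup.mem_top v : v ∈ π.ker)
      have hyM : y ∉ M := fun hm => hy (hMF hm)
      have := hbd (M ⊔ Subgroup.zpowers y) ⊥ bot_le (fun a ha b hb => by
          obtain ⟨m, hm, s, hs, rfl⟩ := Subgroup.mem_sup_of_normal_left.1 ha
          obtain ⟨m', hm', t, ht, rfl⟩ := Subgroup.mem_sup_of_normal_left.1 hb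
          obtain ⟨i, rfl⟩ := Subgroup.mem_zpowers_iff.1 hs
          obtain ⟨j, rfl⟩ := Subgroup.mem_zpowers_iff.1 ht
          rw [comm_mul_left hMc hcm, (comm_eq_one_of_mem hMc hm _).1, one_mul,
            comm_mul_right hMc hcm, (comm_eq_one_of_mem hMc hm' _).2, one_mul, Subgroup.mem_bot,
            commutatorElement_eq_one_iff_mul_comm]
          exact (Commute.zpow_zpow_self y i j).eq)
        (fun a _ => hexp a)
      have b1 := mul_relIndex_le hQ (bot_le : ⊥ ≤ M)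
        (left_lt_sup.2 fun h' => hyM (h' (Subgroup.mem_zpowers y)) : M < M ⊔ Subgroup.zpowers y)
      rw [Subgroup.relIndex_bot_left, Subgroup.relIndex_bot_left] at b1
      rw [Subgroup.relIndex_bot_left] at this
      rw [hC3eq] at hcard
      have := (Nat.mul_le_mul_left p hcard).trans (b1.trans this)
      rw [← pow_succ'] at this
      exact absurd this (not_le.2 (Nat.pow_lt_pow_right hp.out.one_lt (by norm_num)))
  obtain ⟨a, b, c, hπy⟩ := hdec _ (hpm y)
  have hπw : w ^ p = c2 ^ a * c1 ^ (a + b) := by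
    have := congrArg θ hπy
    rw [map_pow, hθy, hπ, hθdec, ← hπy] at this
    exact mul_left_cancel this
  have hπl : l ^ p = c1 ^ a := by
    have := congrArg θ hπw
    rw [map_pow, hθw, hπ, hπw, map_mul, map_zpow, map_zpow, hθ1, hθ2,
      (hcc hc2M (m' := c1)).mul_zpow, mul_assoc (c2 ^ a) (c1 ^ a),
      (hcc (M.zpow_mem hc1M a) (m' := c1 ^ (a + b))).eq, ← mul_assoc] at this
    exact mul_left_cancel this
  have ha : ¬(p : ℤ) ∣ a := fun hd => hlM (by
    rw [← hker]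
    show l ^ p = 1
    rw [hπl]
    exact Subgroup.mem_bot.1 (zpow_mem_of_pow_mem (R := ⊥) (Subgroup.mem_bot.2 (hMe c1 hc1M)) hd))
  -- `q` lies in `⟨l⟩M`
  obtain ⟨r, hr⟩ : ∃ r : ℤ, (l ^ r)⁻¹ * q ∈ M := by
    obtain ⟨u, hu, v, hv, huv⟩ := Subgroup.mem_sup_of_normal_left.1 (hWF.symm ▸ hqF : q ∈ W')
    obtain ⟨j, rfl⟩ := Subgroup.mem_zpowers_iff.1 hv
    obtain ⟨m, hm, s, hs, rfl⟩ := Subgroup.mem_sup_of_normal_left.1 hu
    obtain ⟨k, rfl⟩ := Subgroup.mem_zpowers_iff.1 hs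
    refine ⟨k, ?_⟩
    have hj : (p : ℤ) ∣ j := by
      by_contra hj
      refine hlM (mem_of_zpow_mem (hpm l) hj ((QuotientGroup.eq_one_iff _).1 ?_))
      set ψ := QuotientGroup.mk' M
      have hab : Commute (ψ w) (ψ l) := by
        refine commutatorElement_eq_one_iff_mul_comm.1 ?_
        rw [← map_commutatorElement]
        exact (QuotientGroup.eq_one_iff _).2 (hcm w l)
      have h := congrArg ψ hθq
      rw [← huv] at h
      simp only [map_mul, map_zpow, hθw, hθl] at h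
      rw [show ψ (θ m) = 1 from (QuotientGroup.eq_one_iff _).2 (hθM m hm),
        show ψ m = 1 from (QuotientGroup.eq_one_iff _).2 hm,
        show ψ μ = 1 from (QuotientGroup.eq_one_iff _).2 hμM, hab.mul_zpow] at h
      simp only [one_mul, mul_one] at h
      rw [← mul_assoc, mul_eq_left] at h
      rw [← h]
      exact map_zpow ψ l j
    rw [← huv, (hcc hm (m' := l ^ k)).eq, mul_assoc, inv_mul_cancel_left]
    exact M.mul_mem hm (zpow_mem_of_pow_mem (hpm w) hj)
  -- the power of `θ`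
  have har : (p : ℤ) ∣ a + r := by
    set ψ := QuotientGroup.mk' C1 with hψ
    have hC1θ : C1 ≤ C1.comap θ.toMonoidHom := fun x hx => by
      show θ x ∈ C1
      rwa [hC1fix x hx]
    set Θ := QuotientGroup.map C1 C1 θ.toMonoidHom hC1θ with hΘ
    have hΘψ : ∀ x, Θ (ψ x) = ψ (θ x) := fun x => rfl
    obtain ⟨i, j, k, hμdec⟩ := hdec μ hμM
    set μ' := c2 ^ i * c1 ^ (i + j) with hμ'
    have hμ'M : μ' ∈ M := M.mul_mem (M.zpow_mem hc2M _) (M.zpow_mem hc1M _)
    have hθμ : θ μ = μ * μ' := by rw [hμdec, hθdec]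
    have hc1q : ψ c1 = 1 := (QuotientGroup.eq_one_iff _).2 (Subgroup.mem_zpowers c1)
    have hθμ' : ψ (θ μ') = ψ μ' := by
      simp only [hμ', map_mul, map_zpow, hθ1, hθ2, hc1q, mul_one]
    have hWL : Commute (ψ w) (ψ l) := by
      refine commutatorElement_eq_one_iff_mul_comm.1 ?_
      rw [← map_commutatorElement]
      exact (QuotientGroup.eq_one_iff _).2 (Subgroup.mem_zpowers _)
    have hμq : ∀ {m : Q} (x : Q), m ∈ M → Commute (ψ x) (ψ m) := fun x hm =>
      ((hcc hm).map ψ).symm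
    have key : ∀ n : ℕ, ψ ((θ ^ n) y) = ψ y * ψ w ^ n * ψ l ^ n.choose 2 * ψ μ ^ n.choose 3 *
        ψ μ' ^ n.choose 4 := by
      intro n
      induction n with
      | zero => simp
      | succ n ih =>
        rw [pow_succ', MulAut.mul_apply, ← hΘψ, ih]
        simp only [map_mul, map_pow, hΘψ, hθy, hθw, hθl, hθμ, hθμ']
        rw [hWL.mul_pow, (hμq l hμM).mul_pow, (hμq μ hμ'M).mul_pow,
          Nat.choose_succ_succ' n 1, Nat.choose_succ_succ' n 2, Nat.choose_succ_succ' n 3,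
          Nat.choose_one_right, pow_succ', pow_add, pow_add, pow_add]
        simp only [mul_assoc]
    have hlp : ψ l ^ p = 1 := by rw [← map_pow, hπl, map_zpow, hc1q, one_zpow]
    have hMp : ∀ m ∈ M, ψ m ^ p = 1 := fun m hm => by rw [← map_pow, hMe m hm, map_one]
    have hkey := key p
    rw [dvd_choose_of_lt (by norm_num) (by omega) hlp,
      dvd_choose_of_lt (by norm_num) (by omega) (hMp μ hμM),
      dvd_choose_of_lt (by norm_num) (by omega) (hMp μ' hμ'M), mul_one, mul_one, mul_one, hθp,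
      show q * y * q⁻¹ = y * ⁅y⁻¹, q⁆ by simp [commutatorElement_def, mul_assoc],
      ← map_pow ψ w, hπw] at hkey
    simp only [map_mul, map_zpow, hc1q, one_zpow, mul_one, mul_right_inj] at hkey
    let L1 : Q →* Q := MonoidHom.mk' (fun x => ⁅x, q⁆) (fun u v => comm_mul_left hMc hcm u v q)
    let R1 : Q →* Q := MonoidHom.mk' (fun x => ⁅y, x⁆) (comm_mul_right hMc hcm y)
    have e1 : ⁅y⁻¹, q⁆ = (c2 ^ r)⁻¹ := by
      have e2 : ⁅y, q⁆ = c2 ^ r := by
        conv_lhs => rw [← mul_inv_cancel_left (l ^ r) q]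
        rw [comm_mul_right hMc hcm, (comm_eq_one_of_mem hMc hr y).2, mul_one]
        exact map_zpow R1 l r
      exact (map_inv L1 y).trans (congrArg _ e2)
    rw [e1, map_inv, map_zpow, inv_eq_iff_mul_eq_one, ← zpow_add, add_comm] at hkey
    exact dvd_of_zpow_eq_one (hMp c2 hc2M)
      (fun h => hc2C ((QuotientGroup.eq_one_iff _).1 h)) hkey
  have hrp : ¬(p : ℤ) ∣ r := fun h => ha (by simpa using dvd_sub har h)
  refine ⟨r, hrp, hr, fun R hR => ?_⟩
  have hm1 : ∀ x ∈ M, x ^ p ∈ R := fun x hx => by rw [hMe x hx]; exact R.one_mem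
  have hc1R : c1 ∈ R := mem_of_zpow_mem (hm1 c1 hc1M) ha (hπl ▸ hR l hlF)
  have hc2R : c2 ∈ R := by
    refine mem_of_zpow_mem (hm1 c2 hc2M) ha ?_
    have := R.mul_mem (hR w hwF) (R.inv_mem (R.zpow_mem hc1R (a + b)))
    rwa [hπw, mul_inv_cancel_right] at this
  rw [hπy, show c3 ^ a * c2 ^ b * c1 ^ c * c3 ^ r = c3 ^ (a + r) * (c2 ^ b * c1 ^ c) by
    rw [zpow_add, mul_assoc, mul_assoc, mul_assoc, ← mul_assoc (c2 ^ b),
      (hcc (M.zpow_mem hc3M r) (m' := c2 ^ b * c1 ^ c)).eq]]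
  exact R.mul_mem (zpow_mem_of_pow_mem (hm1 c3 hc3M) har)
    (R.mul_mem (R.zpow_mem hc2R b) (R.zpow_mem hc1R c))

end CfsgLib.Jordan.RankThree
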