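import Cfsg.Agent.Lib.Jordan.RankThree.Pairs
import Cfsg.Agent.Lib.Jordan.RankThree.BlockThree

/-!
# A conjugate with noncentral intersection
-/

set_option autoImplicit false
set_option linter.style.haveILetI false
set_option linter.unusedSectionVars false

open scoped commutatorElement

namespace CfsgLib.Jordan.RankThree

open Cfsg Cfsg.FusionSystem CfsgLib.Alperin

variable {Ω : Type*} [Group Ω] {S : Subgroup Ω} [Finite S] {p : ℕ} [hp : Fact p.Prime]
  {F : FusionSystem S} {E : Subgroup Ω}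

namespace Setting

variable (h : Setting p F E) {g : Ω} (hg : Mover S E g)
include h hg

/-- The largest invariant subgroup of `E` inside both Frattini subgroups. -/
theorem exists_invariant : ∃ (K : Subgroup E) (_ : K.Normal),
    K ≤ frattini E ∧ K ≤ (phi E ⊓ cj g (phi E)).subgroupOf E ∧
      (∀ α ∈ F.autGroup E, ∀ x ∈ K, α x ∈ K) ∧
      (∀ a : E, ∀ m ∈ frattini E, ⁅a, m⁆ ∈ K) ∧ (∀ m ∈ frattini E, m ^ p ∈ K) ∧
      ((∀ x : E, (x : Ω) ^ p ∈ phi E ⊓ cj g (phi E)) → ∀ x : E, x ^ p ∈ K) := by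
  set D' := (phi E ⊓ cj g (phi E)).subgroupOf E with hD'
  haveI hD'n : D'.Normal := ⟨fun x hx n => h.inter_phi_conj hg (le_normalizerIn h.le n.2) hx⟩
  set K : Subgroup E := ⨅ α : F.autGroup E, D'.comap (α : MulAut E).toMonoidHom with hK
  have hmem : ∀ x, x ∈ K ↔ ∀ α : F.autGroup E, (α : MulAut E) x ∈ D' := fun x => by
    simp [hK, Subgroup.mem_iInf]
  have hKD : K ≤ D' := fun x hx => by simpa using (hmem x).1 hx 1
  have hchar : ∀ (α : MulAut E), ∀ m ∈ frattini E, α m ∈ frattini E := fun α m hm =>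
    ((Subgroup.characteristic_iff_map_eq.mp (inferInstance : (frattini E).Characteristic)) α).le
      ⟨m, hm, rfl⟩
  refine ⟨K, Subgroup.normal_iInf_normal fun α => hD'n.comap _, fun x hx => mem_phi.1 (hKD hx).1,
    hKD, fun α hα x hx => (hmem _).2 fun β => by simpa using (hmem x).1 hx (β * ⟨α, hα⟩),
    fun a m hm => (hmem _).2 fun β => ?_, fun m hm => (hmem _).2 fun β => ?_,
    fun hall x => (hmem _).2 fun β => ?_⟩
  · rw [map_commutatorElement]
    exact h.comm_phi_mem hg (le_normalizerIn h.le ((β : MulAut E) a).2)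
      (Or.inl (mem_phi.2 (hchar β m hm)))
  · rw [map_pow]
    exact h.pow_inter hg ⟨((β : MulAut E) m).2, h.phi_le_cj hg (mem_phi.2 (hchar β m hm))⟩
  · rw [map_pow]
    exact hall _

theorem not_quad_case (hnq : ¬∀ m ∈ normalizerIn S E, QuadAt E m) {y₀ f₀ : Ω} (hy₀ : y₀ ∈ E)
    (hf₀ : f₀ ∈ E ⊓ cj g E) (hne : ⁅y₀, f₀⁆ ∉ cj g (phi E)) : False := by
  haveI := h.finE
  haveI := h.finN
  haveI := finite_autGroup F h.le
  have hg2 := h.sq_mover hg
  -- elements
  obtain ⟨z, hz2, hzE, hzB⟩ : ∃ z ∈ cj (g * g) E, z ∉ E ∧ z ∉ cj g E := by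
    have hne2 : cj (g * g) E ≠ cj g E := fun he => h.cj_ne hg (by
      have := congrArg (cj g⁻¹) he
      rwa [cj_cj, cj_cj, inv_mul_cancel_left, inv_mul_cancel, cj_one] at this)
    haveI := finite_of_le ((h.cj_le hg).trans (normalizerIn_le S E))
    have h2B : ¬cj (g * g) E ≤ cj g E := fun hle => hne2
      (Subgroup.eq_of_le_of_card_ge hle (by rw [card_cj, card_cj]))
    obtain ⟨z1, hz1, hz1E⟩ := SetLike.not_le_iff_exists.1 (h.cj_not_le hg2)
    obtain ⟨z2, hz2, hz2B⟩ := SetLike.not_le_iff_exists.1 h2B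
    by_contra hall
    push Not at hall
    have hz1B := hall z1 hz1 hz1E
    have hz2E : z2 ∈ E := by_contra fun h' => hz2B (hall z2 hz2 h')
    refine hz2B ?_
    have h12 : z1 * z2 ∉ E := fun h' => hz1E (by simpa using E.mul_mem h' (E.inv_mem hz2E))
    simpa using (cj g E).mul_mem ((cj g E).inv_mem hz1B) (hall _ (Subgroup.mul_mem _ hz1 hz2) h12)
  obtain ⟨a, haE, b, hbB, rfl⟩ := h.exists_decomp hg ((h.cj_le hg2) hz2)
  have haB : a ∉ cj g E := fun h' => hzB (Subgroup.mul_mem _ h' hbB)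
  have hbE : b ∉ E := fun h' => hzE (E.mul_mem haE h')
  have hbN : b ∈ normalizerIn S E := h.cj_le hg hbB
  have haN : a ∈ normalizerIn S E := le_normalizerIn h.le haE
  have hnqb : ¬QuadAt E b := fun hq => hnq fun m hm =>
    h.quadAt_of_quadAt (n₀ := ⟨b, hbN⟩) hbE hq hm
  set θ := conjAut E b hbN.2 with hθ
  set F' := (cj g E).subgroupOf E with hF'
  set D := phi E ⊓ cj g (phi E) with hD
  set D' := D.subgroupOf E with hD'
  have hF'i : F'.index = p := h.index_cj_subgroupOf hg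
  have hΦF : frattini E ≤ F' := frattini_le_of_index_prime hp.out hF'i
  have hθF : ∀ x : E, x⁻¹ * θ x ∈ F' := fun x => by
    show (x : Ω)⁻¹ * (b * (x : Ω) * b⁻¹) ∈ cj g E
    rw [show (x : Ω)⁻¹ * (b * x * b⁻¹) = (x : Ω)⁻¹ * b * (x : Ω)⁻¹⁻¹ * b⁻¹ by
      simp [mul_assoc]]
    exact Subgroup.mul_mem _ (h.cj_conj hg ((normalizerIn S E).inv_mem (le_normalizerIn h.le x.2)) hbB)
      (Subgroup.inv_mem _ hbB)
  set y : E := ⟨a, haE⟩ with hy
  set w : E := y⁻¹ * θ y with hw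
  set l : E := w⁻¹ * θ w with hl
  obtain ⟨hlΦ, hμ⟩ := h.flag_of_not_quad (n := ⟨b, hbN⟩) hbE hnqb hΦF hF'i hθF (y := y) haB hw hl
  have hwF : w ∈ F' := hθF y
  have hlF : l ∈ F' := hθF w
  -- `F'` is generated by `w`, `l` and the Frattini subgroup
  set L' := frattini E ⊔ Subgroup.zpowers l with hL'
  set W' := L' ⊔ Subgroup.zpowers w with hW'
  have hW'F : W' = F' := by
    have hle : W' ≤ F' :=
      sup_le (sup_le hΦF (Subgroup.zpowers_le.2 hlF)) (Subgroup.zpowers_le.2 hwF)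
    set ν := act S E (⟨b, hbN⟩ : normalizerIn S E)
    set q := QuotientGroup.mk' (frattini E)
    set Fix := (ν.toMonoidHom.eqLocus (MonoidHom.id _)).comap q with hFix
    have hfix : ∀ x, x ∈ Fix ↔ x⁻¹ * θ x ∈ frattini E := fun x => by
      rw [← inv_mem_iff (H := frattini E) (x := x⁻¹ * θ x), mul_inv_rev, inv_inv, ← QuotientGroup.eq]
      rfl
    have hwL : w ∉ L' := fun h' => hlΦ ((hfix w).1 ((sup_le (fun m hm => (hfix m).2 (mul_mem
      (inv_mem hm) (((Subgroup.characteristic_iff_map_eq.mp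
        (inferInstance : (frattini E).Characteristic)) θ).le ⟨m, hm, rfl⟩)))
      (Subgroup.zpowers_le.2 ((hfix l).2 hμ))) h'))
    have l1 : frattini E < L' := left_lt_sup.2 fun h' => hlΦ (h' (Subgroup.mem_zpowers l))
    have l2 : L' < W' := left_lt_sup.2 fun h' => hwL (h' (Subgroup.mem_zpowers w))
    refine le_antisymm hle ?_
    by_contra hne'
    have b1 := mul_relIndex_le h.pE le_rfl l1
    have b2 := mul_relIndex_le h.pE l1.le l2
    have b3 := mul_relIndex_le h.pE (l1.trans l2).le (lt_of_le_not_ge hle hne')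
    rw [Subgroup.relIndex_self] at b1
    have e := Subgroup.relIndex_mul_index hΦF
    rw [hF'i, h.hrk] at e
    have c2 := Nat.mul_le_mul_right p ((Nat.mul_le_mul_left p ((Nat.mul_le_mul_left p b1).trans b2)).trans b3)
    rw [e, show p * (p * (p * 1)) * p = p ^ 4 by ring] at c2
    exact absurd c2 (not_le.2 (Nat.pow_lt_pow_right hp.out.one_lt (by norm_num)))
  have hwlΩ : (w : Ω) = a⁻¹ * (b * a * b⁻¹) ∧ (l : Ω) = (w : Ω)⁻¹ * (b * w * b⁻¹) := ⟨rfl, rfl⟩
  -- the quotient by the largest invariant subgroup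
  obtain ⟨K, hKn, hKΦ, hKD, hKinv, hKcm, hKp, -⟩ := h.exists_invariant hg
  set mk := QuotientGroup.mk' K with hmk
  set M := (frattini E).map mk with hM
  have hbdE : ElemBound p 3 E := (h.bound.subgroup (E.subgroupOf S)).of_surjective
    (Subgroup.subgroupOfEquivOfLe h.le).toMonoidHom (Subgroup.subgroupOfEquivOfLe h.le).surjective
  let σ : F.autGroup E → MulAut (E ⧸ K) := fun α => QuotientGroup.congr K K (α : MulAut E) (by
    refine Subgroup.eq_of_le_of_card_ge ?_ ?_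
    · rintro _ ⟨x, hx, rfl⟩
      exact hKinv _ α.2 x hx
    · exact (Subgroup.card_map_of_injective (MulEquiv.injective _)).ge)
  have hσ : ∀ α x, σ α (mk x) = mk ((α : MulAut E) x) := fun α x => rfl
  have hchar : ∀ (α : MulAut E), ∀ m ∈ frattini E, α m ∈ frattini E := fun α m hm =>
    ((Subgroup.characteristic_iff_map_eq.mp (inferInstance : (frattini E).Characteristic)) α).le
      ⟨m, hm, rfl⟩
  have hσM : ∀ α, ∀ v ∈ M, σ α v ∈ M := by
    rintro α _ ⟨x, hx, rfl⟩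
    exact ⟨_, hchar α x hx, (hσ α x).symm⟩
  have hbA : θ ∈ F.autGroup E := autInducedBy_le_autGroup F h.le (conjAut_mem hbN.1 hbN.2)
  set θQ := σ ⟨θ, hbA⟩ with hθQ
  have hbpE : b ^ p ∈ E := h.cj_phi_le hg (h.pow_mem_cj_phi hg hbB)
  set bp : E := ⟨b ^ p, hbpE⟩ with hbp
  have hpowθ : ∀ (n : ℕ) (x : E), (((θ ^ n) x : E) : Ω) = b ^ n * x * (b ^ n)⁻¹ := by
    intro n
    induction n with
    | zero => intro x; simp
    | succ n ih => intro x; rw [pow_succ, MulAut.mul_apply, ih, hθ, conjAut_apply, pow_succ]; group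
  have hθQp : ∀ v, (θQ ^ p) v = mk bp * v * (mk bp)⁻¹ := by
    have hit : ∀ (n : ℕ) (x : E), (θQ ^ n) (mk x) = mk ((θ ^ n) x) := by
      intro n
      induction n with
      | zero => intro x; rfl
      | succ n ih => intro x; rw [pow_succ, pow_succ, MulAut.mul_apply, MulAut.mul_apply, hσ, ih]
    intro v
    obtain ⟨x, rfl⟩ := QuotientGroup.mk'_surjective K v
    rw [hit, ← map_inv, ← map_mul, ← map_mul]
    exact congrArg mk (Subtype.ext (hpowθ p x))
  have hsur := QuotientGroup.mk'_surjective K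
  have hmem : ∀ {U : Subgroup E}, K ≤ U → ∀ x, mk x ∈ U.map mk ↔ x ∈ U :=
    fun hU x => mk_mem_map hU x
  have hne' : ∃ u v : E ⧸ K, ⁅u, v⁆ ≠ 1 := by
    refine ⟨mk ⟨y₀, hy₀⟩, mk ⟨f₀, hf₀.1⟩, fun h1 => hne ?_⟩
    rw [← map_commutatorElement] at h1
    exact (hKD ((QuotientGroup.eq_one_iff _).1 h1)).2
  obtain ⟨r, hrp, hrM, hR⟩ := block_three (Q := E ⧸ K) (p := p) (M := M) h.h5
    (by
      rintro _ ⟨m, hm, rfl⟩
      refine Subgroup.mem_center_iff.2 fun v => ?_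
      obtain ⟨x, rfl⟩ := hsur v
      refine commutatorElement_eq_one_iff_mul_comm.1 ?_
      rw [← map_commutatorElement]
      exact (QuotientGroup.eq_one_iff _).2 (hKcm x m hm))
    (by
      rintro _ ⟨m, hm, rfl⟩
      rw [← map_pow]
      exact (QuotientGroup.eq_one_iff _).2 (hKp m hm))
    (fun u v => by
      obtain ⟨x, rfl⟩ := hsur u
      obtain ⟨x', rfl⟩ := hsur v
      rw [← map_commutatorElement]
      exact ⟨_, mem_phi.1 (h.comm_mem_phi x.2 x'.2), rfl⟩)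
    (fun u => by
      obtain ⟨x, rfl⟩ := hsur u
      rw [← map_pow]
      exact ⟨_, mem_phi.1 (h.pow_mem_phi x.2), rfl⟩)
    (by
      rw [hM, Subgroup.index_map_eq _ hsur (by rw [QuotientGroup.ker_mk']; exact hKΦ), h.hrk])
    (h.pE.to_quotient K) (hbdE.of_surjective mk hsur) σ hσM
    (fun U hMU hU => by
      have := h.irreducible_lift (n := ⟨b, hbN⟩) hbE hnqb (U.comap mk)
        (fun m hm => hMU ⟨m, hm, rfl⟩) (fun α hα x hx => by
          show mk (α x) ∈ U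
          rw [← hσ ⟨α, hα⟩]
          exact hU _ _ hx)
      rcases this with h' | h'
      · exact Or.inl (by rw [hM, ← h', Subgroup.map_comap_eq_self_of_surjective hsur])
      · exact Or.inr (by
          rw [← Subgroup.map_comap_eq_self_of_surjective hsur U, h', Subgroup.map_top_of_surjective _ hsur]))
    (θ := θQ) (hσM _) (q := mk bp) hθQp
    (by
      rw [hθQ, hσ]
      refine congrArg mk (Subtype.ext ?_)
      show b * b ^ p * b⁻¹ = b ^ p
      rw [← pow_succ', pow_succ, mul_inv_cancel_right])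
    (F' := F'.map mk) (Subgroup.map_mono hΦF)
    (by rw [Subgroup.index_map_eq _ hsur (by rw [QuotientGroup.ker_mk']; exact hKΦ.trans hΦF), hF'i])
    ⟨bp, Subgroup.pow_mem _ hbB p, rfl⟩
    (fun v => by
      obtain ⟨x, rfl⟩ := hsur v
      rw [hθQ, hσ, ← map_inv, ← map_mul]
      exact ⟨_, hθF x, rfl⟩)
    hne' (y := mk y) (w := mk w) (l := mk l)
    (fun h' => haB ((hmem (hKΦ.trans hΦF) y).1 h'))
    (by rw [hw, map_mul, map_inv, hθQ, hσ])
    (by rw [hl, map_mul, map_inv, hθQ, hσ])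
    (fun h' => hlΦ ((hmem hKΦ l).1 h'))
    (by rw [hθQ, hσ, ← map_inv, ← map_mul]; exact ⟨_, hμ, rfl⟩)
  rw [← map_zpow, ← map_inv, ← map_mul] at hrM
  have hbl : ((l : Ω) ^ r)⁻¹ * b ^ p ∈ phi E := by
    have := mem_phi.2 ((hmem hKΦ _).1 hrM)
    simpa using this
  have haw : a ^ p * ⁅a, (w : Ω)⁆ ^ r ∈ D := by
    have := hR (D'.map mk) (by
      rintro _ ⟨x, hx, rfl⟩
      rw [← map_pow]
      exact ⟨_, h.pow_inter hg ⟨x.2, hx⟩, rfl⟩)
    rw [← map_pow, ← map_commutatorElement, ← map_zpow, ← map_mul] at this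
    have := (hmem hKD _).1 this
    exact this
  -- work in the normalizer modulo `D`
  set N := normalizerIn S E with hN
  set D'' := D.subgroupOf N with hD''
  haveI : D''.Normal := ⟨fun x hx n => h.inter_phi_conj hg n.2 hx⟩
  set ψ := QuotientGroup.mk' D'' with hψ
  have hwI : (w : Ω) ∈ E ⊓ cj g E := ⟨w.2, hwF⟩
  have hlI : (l : Ω) ∈ E ⊓ cj g E := ⟨l.2, hlF⟩
  have hEN : E ≤ N := le_normalizerIn h.le
  set aN : N := ⟨a, haN⟩
  set bN : N := ⟨b, hbN⟩
  set wN : N := ⟨w, hEN w.2⟩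
  set lN : N := ⟨l, hEN l.2⟩
  have hone : ∀ x : N, ψ x = 1 ↔ (x : Ω) ∈ D := fun x => QuotientGroup.eq_one_iff x
  have hcentral : ∀ (m x : N), ((x : Ω) ∈ phi E ∨ (x : Ω) ∈ cj g (phi E)) → Commute (ψ m) (ψ x) :=
    fun m x hx => commutatorElement_eq_one_iff_mul_comm.1 (by
      rw [← map_commutatorElement, hone]
      exact h.comm_phi_mem hg m.2 hx)
  have hlPB : (l : Ω) ∈ cj g (phi E) := by
    rw [hwlΩ.2, show (w : Ω)⁻¹ * (b * w * b⁻¹) = ⁅(w : Ω)⁻¹, b⁆ by
      simp [commutatorElement_def, mul_assoc]]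
    exact h.comm_mem_cj_phi hg (Subgroup.inv_mem _ hwF) hbB
  set f : N := wN⁻¹ * aN * wN * aN⁻¹ with hf
  have hfPE : (f : Ω) ∈ phi E := by
    show (w : Ω)⁻¹ * a * w * a⁻¹ ∈ phi E
    rw [show (w : Ω)⁻¹ * a * w * a⁻¹ = ⁅(w : Ω)⁻¹, a⁆ by simp [commutatorElement_def, mul_assoc]]
    exact h.comm_mem_phi (E.inv_mem w.2) haE
  set Y := ψ aN with hY
  set X := ψ bN with hX
  set W := ψ wN with hW
  have hWY : W = Y⁻¹ * (X * Y * X⁻¹) := by
    rw [hW, show wN = aN⁻¹ * (bN * aN * bN⁻¹) from Subtype.ext rfl]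
    simp only [map_mul, map_inv, hY, hX]
  have hLW : ψ lN = W⁻¹ * (X * W * X⁻¹) := by
    rw [show lN = wN⁻¹ * (bN * wN * bN⁻¹) from Subtype.ext rfl]
    simp only [map_mul, map_inv, hW, hX]
  have hbwPB : ⁅b, (w : Ω)⁆ ∈ cj g (phi E) := h.comm_mem_cj_phi hg hbB hwF
  have hG : Commute Y ⁅X, W⁆ := by
    rw [hX, hW, ← map_commutatorElement]
    exact hcentral aN _ (Or.inr hbwPB)
  have hC : ∀ m, Commute (ψ m) ⁅Y, W⁆ := fun m => by
    rw [hY, hW, ← map_commutatorElement]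
    exact hcentral m _ (Or.inl (h.comm_mem_phi haE w.2))
  have hYp : Y ^ p * ⁅Y, W⁆ ^ r = 1 := by
    rw [hY, hW, ← map_pow, ← map_commutatorElement, ← map_zpow, ← map_mul, hone]
    exact haw
  have hXp : X ^ p = ⁅X, W⁆ ^ r := by
    rw [← inv_mul_eq_one, hX, hW, ← map_pow, ← map_commutatorElement, ← map_zpow, ← map_inv,
      ← map_mul, hone]
    show (b ^ p)⁻¹ * ⁅b, (w : Ω)⁆ ^ r ∈ D
    refine ⟨?_, Subgroup.mul_mem _ (Subgroup.inv_mem _ (h.pow_mem_cj_phi hg hbB))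
      (Subgroup.zpow_mem _ hbwPB r)⟩
    rw [show ⁅b, (w : Ω)⁆ = (w : Ω) * l * (w : Ω)⁻¹ by
      rw [hwlΩ.2]; simp [commutatorElement_def, mul_assoc], conj_zpow,
      show (b ^ p)⁻¹ * ((w : Ω) * (l : Ω) ^ r * (w : Ω)⁻¹) =
        (((l : Ω) ^ r)⁻¹ * b ^ p)⁻¹ * ⁅((l : Ω) ^ r)⁻¹, (w : Ω)⁆ by
      simp [commutatorElement_def, mul_assoc]]
    exact Subgroup.mul_mem _ (Subgroup.inv_mem _ hbl)
      (h.comm_mem_phi (E.inv_mem (E.zpow_mem l.2 r)) w.2)
  have hWYf : Y * W * Y⁻¹ = W * ψ f := by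
    rw [hf]; simp only [map_mul, map_inv, hY, hW]; group
  have hprod : (Y * X) ^ p = Y ^ p * X ^ p := by
    have hkill : ∀ x : N, (x : Ω) ∈ E ⊓ cj g E → ψ x ^ p = 1 := fun x hx => by
      rw [← map_pow, hone]
      exact h.pow_inter hg hx
    refine mul_pow_prime h.h5 (d := W) (e := ψ lN) (f := ψ f) ?_ ?_
      (hcentral bN lN (Or.inr hlPB)) hWYf (hcentral aN lN (Or.inr hlPB))
      (hcentral aN f (Or.inl hfPE)) (hcentral wN lN (Or.inr hlPB)) (hcentral wN f (Or.inl hfPE))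
      (hcentral lN f (Or.inl hfPE)) (hkill wN hwI) (hkill lN hlI)
      (hkill f ⟨phi_le E hfPE, h.phi_le_cj hg hfPE⟩)
    · rw [hWY, mul_inv_cancel_left]
    · rw [hLW, mul_inv_cancel_left]
  -- the commutator of `a` and `w` is nontrivial
  have hC1 : ⁅Y, W⁆ ≠ 1 := by
    intro hC0
    have hYW : Commute Y W := commutatorElement_eq_one_iff_mul_comm.1 hC0
    set fN : N := ⟨f₀, hEN hf₀.1⟩
    set C0 := (((Subgroup.centralizer {ψ fN}).comap ψ).comap (Subgroup.inclusion hEN)) with hC0'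
    have hC0mem : ∀ x : E, x ∈ C0 ↔ ψ fN * ψ ⟨x, hEN x.2⟩ = ψ ⟨x, hEN x.2⟩ * ψ fN := fun x => by
      rw [hC0', Subgroup.mem_comap, Subgroup.mem_comap, Subgroup.mem_centralizer_iff]
      exact ⟨fun h' => h' _ rfl, fun h' u hu => by rw [Set.mem_singleton_iff.1 hu]; exact h'⟩
    have hFC : F' ≤ C0 := fun x hx => (hC0mem x).2 (commutatorElement_eq_one_iff_mul_comm.1 (by
      rw [← map_commutatorElement, hone]
      exact h.comm_inter hg hf₀ ⟨x.2, hx⟩))
    set Ca := (((Subgroup.centralizer {Y}).comap ψ).comap (Subgroup.inclusion hEN)) with hCa'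
    have hCamem : ∀ x : E, x ∈ Ca ↔ Y * ψ ⟨x, hEN x.2⟩ = ψ ⟨x, hEN x.2⟩ * Y := fun x => by
      rw [hCa', Subgroup.mem_comap, Subgroup.mem_comap, Subgroup.mem_centralizer_iff]
      exact ⟨fun h' => h' _ rfl, fun h' u hu => by rw [Set.mem_singleton_iff.1 hu]; exact h'⟩
    have hWC : W' ≤ Ca := by
      refine sup_le (sup_le (fun m hm => (hCamem m).2 ?_) (Subgroup.zpowers_le.2 ((hCamem l).2 ?_)))
        (Subgroup.zpowers_le.2 ((hCamem w).2 ?_))
      · exact (hcentral aN ⟨m, hEN m.2⟩ (Or.inl (mem_phi.2 hm))).eq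
      · exact (hcentral aN lN (Or.inr hlPB)).eq
      · exact hYW.eq
    have haC : y ∈ C0 := (hC0mem y).2 ((hCamem ⟨f₀, hf₀.1⟩).1 (hWC (hW'F.ge hf₀.2))).symm
    have hlt : F' < C0 := lt_of_le_not_ge hFC fun hle => haB (hle haC)
    have htop : C0 = ⊤ := by
      have e := Subgroup.relIndex_mul_index hlt.le
      rw [hF'i] at e
      rcases hp.out.eq_one_or_self_of_dvd _ (Dvd.intro _ e) with h1 | h1
      · exact absurd (Subgroup.relIndex_eq_one.1 h1) hlt.not_ge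
      · rw [h1] at e
        exact Subgroup.index_eq_one.1 (by simpa [hp.out.ne_zero] using e)
    refine hne ((hone ⁅(⟨y₀, hEN hy₀⟩ : N), fN⁆).1 ?_).2
    rw [map_commutatorElement, commutatorElement_eq_one_iff_mul_comm]
    exact ((hC0mem ⟨y₀, hy₀⟩).1 (htop ▸ Subgroup.mem_top _)).symm
  -- the Frattini subgroup of the third conjugate
  set PE2 := cj (g * g) (phi E) with hPE2
  have hFE2 : ∀ x ∈ E ⊓ cj g E, x ∈ cj (g * g) E := by
    have hle : W' ≤ (cj (g * g) E).subgroupOf E := by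
      refine sup_le (sup_le (fun m hm => h.phi_le_cj hg2 (mem_phi.2 hm))
        (Subgroup.zpowers_le.2 ?_)) (Subgroup.zpowers_le.2 ?_)
      · show (l : Ω) ∈ cj (g * g) E
        rw [hwlΩ.2, show (w : Ω)⁻¹ * (b * w * b⁻¹) = ⁅b, (w : Ω)⁻¹⁆⁻¹ by
          simp [commutatorElement_def, mul_assoc]]
        exact Subgroup.inv_mem _ (h.comm_normalizer_mem hg2 hbN (E.inv_mem w.2)).2
      · show (w : Ω) ∈ cj (g * g) E
        rw [hwlΩ.1, show a⁻¹ * (b * a * b⁻¹) = ⁅b, a⁻¹⁆⁻¹ by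
          simp [commutatorElement_def, mul_assoc]]
        exact Subgroup.inv_mem _ (h.comm_normalizer_mem hg2 hbN (E.inv_mem haE)).2
    exact fun x hx => hle (hW'F.ge (show (⟨x, hx.1⟩ : E) ∈ F' from hx.2))
  have hDI : D ≤ E ⊓ cj g E := inf_le_inf (phi_le E) (h.cj_phi_le_cj hg)
  have hDPE2 : D ≤ PE2 := by
    have hsmall := h.bound_le (H := E ⊓ cj g E) (N := D ⊓ PE2) (inf_le_left.trans h.le)
      (inf_le_left.trans hDI)
      (fun u hu v hv => ⟨h.comm_inter hg hu hv, h.comm_mem_cj_phi hg2 (hFE2 u hu) (hFE2 v hv)⟩)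
      (fun u hu => ⟨h.pow_inter hg hu, h.pow_mem_cj_phi hg2 (hFE2 u hu)⟩)
    rw [← Subgroup.relIndex_mul_relIndex (D ⊓ PE2) D _ inf_le_left hDI,
      ← Subgroup.relIndex_mul_relIndex D (phi E) _ inf_le_left
        (le_inf (phi_le E) (h.phi_le_cj hg)), h.relIndex_phi_inter hg] at hsmall
    have h1 : D.relIndex (phi E) ≠ 1 := fun h' => hC1 (by
      rw [hY, hW, ← map_commutatorElement, hone]
      exact Subgroup.relIndex_eq_one.1 h' (h.comm_mem_phi haE w.2))
    have h2 : p ≤ D.relIndex (phi E) := by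
      haveI := finite_of_le ((phi_le E).trans h.le)
      obtain ⟨k, hk⟩ := (h.hS.of_injective (Subgroup.inclusion ((phi_le E).trans h.le))
        (Subgroup.inclusion_injective _)).index (D.subgroupOf (phi E))
      rw [← Subgroup.relIndex] at hk
      rw [hk] at h1 ⊢
      exact Nat.le_self_pow (fun hk0 => h1 (by rw [hk0, pow_zero])) p
    intro x hx
    refine ((Subgroup.relIndex_eq_one (H := D ⊓ PE2) (K := D)).1 ?_ hx).2
    have h3 : (D ⊓ PE2).relIndex D * p ^ 3 ≤ 1 * p ^ 3 := by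
      rw [one_mul]
      refine le_trans (Nat.mul_le_mul_left _ ?_) hsmall
      rw [pow_succ' p 2]
      exact Nat.mul_le_mul_right _ h2
    have h4 := Nat.le_of_mul_le_mul_right h3 (pow_pos hp.out.pos 3)
    have h5 : (D ⊓ PE2).relIndex D ≠ 0 := by
      haveI := finite_of_le (hDI.trans (inf_le_left.trans h.le))
      exact Subgroup.index_ne_zero_of_finite
    omega
  have hPE2N : PE2 ≤ N := (h.cj_phi_le hg2).trans hEN
  set P2 := (PE2.subgroupOf N).map ψ with hP2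
  have hcardP2 : Nat.card P2 ≤ p := by
    rw [hP2, ← Subgroup.relIndex_ker, QuotientGroup.ker_mk', hD'', Subgroup.relIndex_subgroupOf hPE2N]
    have e1 := relIndex_mul_card hDPE2
    have e2 := relIndex_mul_card (inf_le_left : D ≤ phi E)
    rw [card_cj, ← e2] at e1
    haveI := finite_of_le (hDI.trans (inf_le_left.trans h.le))
    rw [Nat.eq_of_mul_eq_mul_left Nat.card_pos e1]
    exact h.relIndex_small hg
  have hzE2 : ((aN * bN : N) : Ω) ∈ cj (g * g) E := hz2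
  have hP2a : (Y * X) ^ p ∈ P2 := ⟨(aN * bN) ^ p, h.pow_mem_cj_phi hg2 hzE2, by
    rw [map_pow, map_mul]⟩
  have hP2b : ⁅Y * X, W⁆ ∈ P2 := ⟨⁅aN * bN, wN⁆, h.comm_mem_cj_phi hg2 hzE2 (hFE2 _ hwI), by
    rw [map_commutatorElement, map_mul]⟩
  set G := ⁅X, W⁆ with hGdef
  set C := ⁅Y, W⁆ with hCdef
  have hGC : Commute G C := by
    rw [hGdef, hX, hW, ← map_commutatorElement]
    exact hC _
  have hzW : ⁅Y * X, W⁆ = G * C := by
    rw [commutatorElement_mul_left_eq_conj_mul, hG.eq, mul_inv_cancel_right]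
  have hGr : G ^ r * G ^ r ∈ P2 := by
    have := P2.mul_mem hP2a (P2.zpow_mem hP2b r)
    rw [hprod, hzW, hXp, hGC.mul_zpow, eq_inv_of_mul_eq_one_left hYp] at this
    rw [show (C ^ r)⁻¹ * G ^ r * (G ^ r * C ^ r) = G ^ r * G ^ r by
      rw [((hGC.zpow_zpow r r).inv_right).symm.eq, mul_assoc, ← mul_assoc (C ^ r)⁻¹,
        ((hGC.zpow_zpow r r).inv_right).symm.eq, mul_assoc, inv_mul_cancel, mul_one]] at this
    exact this
  have hGp : G ^ p = 1 := by
    rw [hGdef, hX, hW, ← map_commutatorElement, ← map_pow, hone]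
    exact h.pow_inter hg ⟨h.cj_phi_le hg hbwPB, h.cj_phi_le_cj hg hbwPB⟩
  have hGP2 : G ∈ P2 := by
    refine mem_of_zpow_mem (p := p) (k := r + r) (by rw [hGp]; exact one_mem _) (fun hd => ?_)
      (by rw [zpow_add]; exact hGr)
    rw [← two_mul] at hd
    rcases (Nat.prime_iff_prime_int.1 hp.out).dvd_or_dvd hd with h' | h'
    · have := Int.le_of_dvd (by norm_num) h'
      have := h.h5
      omega
    · exact hrp h'
  have hCP2 : C ∈ P2 := by
    have := P2.mul_mem (P2.inv_mem hGP2) (hzW ▸ hP2b)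
    rwa [inv_mul_cancel_left] at this
  have hCp : C ^ p = 1 := by
    rw [hCdef, hY, hW, ← map_commutatorElement, ← map_pow, hone]
    have h1 := h.comm_mem_phi haE w.2
    exact h.pow_inter hg ⟨phi_le E h1, h.phi_le_cj hg h1⟩
  have hlt : Subgroup.zpowers C < P2 := lt_of_le_not_ge (Subgroup.zpowers_le.2 hCP2) fun hle => by
    obtain ⟨i, hi⟩ := hle hGP2
    simp only at hi
    rw [hGdef, hCdef, hY, hX, hW, ← map_commutatorElement, ← map_commutatorElement, ← map_zpow,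
      eq_comm, ← inv_mul_eq_one, ← map_inv, ← map_mul, hone] at hi
    refine hlΦ (mem_phi.1 ?_)
    have h1 : ⁅b, (w : Ω)⁆ ∈ phi E := by
      have h2 := Subgroup.mul_mem _ hi.1 (Subgroup.inv_mem _ (Subgroup.zpow_mem _ (h.comm_mem_phi haE w.2) i))
      have h3 : ((⁅bN, wN⁆⁻¹ * ⁅aN, wN⁆ ^ i : N) : Ω) * (⁅a, (w : Ω)⁆ ^ i)⁻¹ = ⁅b, (w : Ω)⁆⁻¹ := by
        show ⁅b, (w : Ω)⁆⁻¹ * ⁅a, (w : Ω)⁆ ^ i * (⁅a, (w : Ω)⁆ ^ i)⁻¹ = _
        rw [mul_inv_cancel_right]
      rw [h3] at h2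
      simpa using Subgroup.inv_mem _ h2
    rw [show (l : Ω) = (w : Ω)⁻¹ * ⁅b, (w : Ω)⁆ * (w : Ω)⁻¹⁻¹ by
      rw [hwlΩ.2]; simp [commutatorElement_def, mul_assoc]]
    exact h.phi_conj (Subgroup.le_normalizer (E.inv_mem w.2)) h1
  have hcard : Nat.card (Subgroup.zpowers C) = p := by
    rw [Nat.card_zpowers, orderOf_eq_prime hCp hC1]
  refine hlt.ne (Subgroup.eq_of_le_of_card_ge hlt.le ?_)
  rw [hcard]
  exact hcardP2

end Setting

end CfsgLib.Jordan.RankThree
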