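import Cfsg.Agent.Lib.Jordan.RankThree.CaseOne

/-!
# A conjugate with noncentral intersection: the quadratic case
-/

set_option autoImplicit false
set_option linter.style.haveILetI false
set_option linter.unusedSectionVars false

open scoped commutatorElement

namespace CfsgLib.Jordan.RankThree

open Cfsg Cfsg.FusionSystem CfsgLib.Alperin

/-- A chain of three proper steps above a subgroup of index `p ^ 3` reaches the top, and its middle
has index at most `p`. -/
theorem chain_three {G : Type*} [Group G] [Finite G] {p : ℕ} [hp : Fact p.Prime] (hG : IsPGroup p G)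
    {A B C D : Subgroup G} (hA : A.index = p ^ 3) (h1 : A < B) (h2 : B < C) (h3 : C < D) :
    D = ⊤ ∧ C.index = p := by
  have b1 := mul_relIndex_le hG le_rfl h1
  rw [Subgroup.relIndex_self, mul_one] at b1
  have b2 := mul_relIndex_le hG h1.le h2
  have b3 := mul_relIndex_le hG (h1.trans h2).le h3
  have eD := Subgroup.relIndex_mul_index ((h1.trans h2).trans h3).le
  have eC := Subgroup.relIndex_mul_index (h1.trans h2).le
  rw [hA] at eD eC
  have hC2 : p ^ 2 ≤ A.relIndex C := by rw [sq]; exact (Nat.mul_le_mul_left p b1).trans b2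
  have hD3 : p ^ 3 ≤ A.relIndex D := by rw [pow_succ']; exact (Nat.mul_le_mul_left p hC2).trans b3
  have hDle : A.relIndex D ≤ p ^ 3 :=
    Nat.le_of_dvd (pow_pos hp.out.pos 3) (Dvd.intro _ eD)
  have hDeq : A.relIndex D = p ^ 3 := le_antisymm hDle hD3
  have hDtop : D = ⊤ := by
    refine Subgroup.index_eq_one.1 ?_
    rw [hDeq] at eD
    exact Nat.eq_of_mul_eq_mul_left (pow_pos hp.out.pos 3) (by rw [eD, mul_one])
  refine ⟨hDtop, ?_⟩
  obtain ⟨k, hk⟩ := hG.index C
  have hCle : C.index ≤ p := by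
    have h' : p ^ 2 * C.index ≤ p ^ 2 * p := by
      rw [← pow_succ]
      calc p ^ 2 * C.index ≤ A.relIndex C * C.index := Nat.mul_le_mul_right _ hC2
        _ = p ^ 3 := eC
    exact Nat.le_of_mul_le_mul_left h' (pow_pos hp.out.pos 2)
  rcases k with _ | k
  · rw [pow_zero, Subgroup.index_eq_one] at hk
    exact absurd h3 (by rw [hk]; exact not_top_lt)
  · exact le_antisymm hCle (hk ▸ Nat.le_self_pow (Nat.succ_ne_zero k) p)

variable {Ω : Type*} [Group Ω] {S : Subgroup Ω} [Finite S] {p : ℕ} [hp : Fact p.Prime]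
  {F : FusionSystem S} {E : Subgroup Ω}

namespace Setting

variable (h : Setting p F E) {g : Ω} (hg : Mover S E g)
include h hg

theorem exists_mem_cj_notMem : ∃ b ∈ cj g E, b ∉ E :=
  SetLike.not_le_iff_exists.1 (h.cj_not_le hg)

theorem quad_cj (hq : ∀ m ∈ normalizerIn S E, QuadAt E m) {m : Ω} (hm : m ∈ normalizerIn S E)
    {v : Ω} (hv : v ∈ cj g E) : ⁅m, ⁅m, v⁆⁆ ∈ cj g (phi E) := by
  obtain ⟨x, hx, rfl⟩ := hv
  refine ⟨_, hq _ (hg.conj_mem' hm) x hx, ?_⟩
  simp [commutatorElement_def, mul_assoc]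

theorem pow_mem_inter (hq : ∀ m ∈ normalizerIn S E, QuadAt E m) {n : Ω}
    (hn : n ∈ normalizerIn S E) : n ^ p ∈ phi E ⊓ cj g (phi E) := by
  refine ⟨h.pow_mem_phi_of_quad hq hn, mem_cj.2 ?_⟩
  have := h.pow_mem_phi_of_quad hq (hg.conj_mem' hn)
  rwa [show g⁻¹ * n * g = g⁻¹ * n * g⁻¹⁻¹ by rw [inv_inv], conj_pow, inv_inv] at this

theorem quad_case (hq : ∀ m ∈ normalizerIn S E, QuadAt E m) {y₀ f₀ : Ω} (hy₀ : y₀ ∈ E)
    (hf₀ : f₀ ∈ E ⊓ cj g E) (hne : ⁅y₀, f₀⁆ ∉ cj g (phi E)) : False := by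
  haveI := h.finE
  haveI := h.finN
  haveI := finite_autGroup F h.le
  obtain ⟨b, hbB, hbE⟩ := h.exists_mem_cj_notMem hg
  have hbN : b ∈ normalizerIn S E := h.cj_le hg hbB
  obtain ⟨e, f, z, U₁, U₂, a1, a2, a3, b1, b2, b3, heΦ, hze, hf, hker, hran, htor⟩ :=
    h.frame (n := ⟨b, hbN⟩) hbE (hq b hbN)
  obtain ⟨α, ha0, ha1, ha2, -, -⟩ := exists_alpha (p := p) h.h5
  obtain ⟨hh, c1, c2, c3, -⟩ := htor α ha0
  set D := phi E ⊓ cj g (phi E) with hD
  set D' := D.subgroupOf E with hD'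
  haveI : D'.Normal := ⟨fun x hx n => h.inter_phi_conj hg (le_normalizerIn h.le n.2) hx⟩
  set F' := (cj g E).subgroupOf E with hF'
  have hF'i : F'.index = p := h.index_cj_subgroupOf hg
  have hΦF : frattini E ≤ F' := frattini_le_of_index_prime hp.out hF'i
  haveI : (frattini E).Normal := inferInstance
  set Pe := frattini E ⊔ Subgroup.zpowers e with hPe
  set C := Pe ⊔ Subgroup.zpowers z with hC
  set T := C ⊔ Subgroup.zpowers f with hT
  have l1 : frattini E < Pe := left_lt_sup.2 fun h' => heΦ (h' (Subgroup.mem_zpowers e))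
  have l2 : Pe < C := left_lt_sup.2 fun h' => hze (h' (Subgroup.mem_zpowers z))
  have l3 : C < T := left_lt_sup.2 fun h' => hf (h' (Subgroup.mem_zpowers f))
  obtain ⟨hTtop, hCi⟩ := chain_three h.pE h.hrk l1 l2 l3
  obtain ⟨K, hKn, hKΦ, hKD, hKinv, hKcm, hKp, hKexp⟩ := h.exists_invariant hg
  have hexpK := hKexp fun x => h.pow_mem_inter hg hq (le_normalizerIn h.le x.2)
  -- some commutator with `z` survives
  have hnz : ¬(⁅e, z⁆ ∈ K ∧ ⁅f, z⁆ ∈ K) := by
    rintro ⟨hez, hfz⟩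
    set ψ := QuotientGroup.mk' D' with hψ
    have hone : ∀ x : E, ψ x = 1 ↔ (x : Ω) ∈ D := fun x => QuotientGroup.eq_one_iff x
    let Z : E → Subgroup E := fun x => (Subgroup.centralizer {ψ x}).comap ψ
    have hZ : ∀ x u : E, u ∈ Z x ↔ ⁅u, x⁆ ∈ D' := fun x u => by
      show ψ u ∈ Subgroup.centralizer {ψ x} ↔ _
      rw [Subgroup.mem_centralizer_singleton_iff, ← commutatorElement_eq_one_iff_mul_comm,
        ← map_commutatorElement, hone]
      rfl
    have hZself : ∀ x, x ∈ Z x := fun x => (hZ x x).2 (by rw [commutatorElement_self]; exact one_mem _)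
    have hZsymm : ∀ x u : E, u ∈ Z x → x ∈ Z u := fun x u hu => (hZ u x).2 (by
      rw [← commutatorElement_inv]; exact inv_mem ((hZ x u).1 hu))
    have hZΦ : ∀ x, frattini E ≤ Z x := fun x m hm => hZsymm _ _ ((hZ m x).2
      (h.comm_phi_mem hg (le_normalizerIn h.le x.2) (Or.inl (mem_phi.2 hm))))
    have hzc : ∀ u : E, u ∈ Z z := by
      intro u
      have hle : T ≤ Z z := sup_le (sup_le (sup_le (hZΦ z)
        (Subgroup.zpowers_le.2 ((hZ z e).2 (hKD hez)))) (Subgroup.zpowers_le.2 (hZself z)))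
        (Subgroup.zpowers_le.2 ((hZ z f).2 (hKD hfz)))
      exact hle (hTtop ▸ Subgroup.mem_top u)
    have hc : f ∉ Z e := by
      intro hfe
      have hZe : ∀ u, u ∈ Z e := fun u => (show T ≤ Z e from sup_le (sup_le (sup_le (hZΦ e)
        (Subgroup.zpowers_le.2 (hZself e))) (Subgroup.zpowers_le.2 (hZsymm _ _ (hzc e))))
        (Subgroup.zpowers_le.2 hfe)) (hTtop ▸ Subgroup.mem_top u)
      have hZf : ∀ u, u ∈ Z f := fun u => (show T ≤ Z f from sup_le (sup_le (sup_le (hZΦ f)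
        (Subgroup.zpowers_le.2 (hZsymm _ _ hfe))) (Subgroup.zpowers_le.2 (hZsymm _ _ (hzc f))))
        (Subgroup.zpowers_le.2 (hZself f))) (hTtop ▸ Subgroup.mem_top u)
      have hall : T ≤ Z ⟨f₀, hf₀.1⟩ := sup_le (sup_le (sup_le (hZΦ _)
        (Subgroup.zpowers_le.2 (hZsymm _ _ (hZe _)))) (Subgroup.zpowers_le.2 (hZsymm _ _ (hzc _))))
        (Subgroup.zpowers_le.2 (hZsymm _ _ (hZf _)))
      exact hne ((hZ ⟨f₀, hf₀.1⟩ ⟨y₀, hy₀⟩).1 (hall (hTtop ▸ Subgroup.mem_top _))).2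
    obtain ⟨rΩ, hrPB, hrPE⟩ := SetLike.not_le_iff_exists.1 (show ¬cj g (phi E) ≤ phi E from fun hle => hne (by
      haveI := finite_of_le ((phi_le E).trans h.le)
      rw [Subgroup.eq_of_le_of_card_ge hle (card_cj g _).ge]
      exact h.comm_mem_phi hy₀ hf₀.1))
    set rr : E := ⟨rΩ, h.cj_phi_le hg hrPB⟩ with hrr
    have hrc : ∀ u, u ∈ Z rr := fun u => (hZ rr u).2
      (h.comm_phi_mem hg (le_normalizerIn h.le u.2) (Or.inr hrPB))
    have hCle : C ≤ Z e := sup_le (sup_le (hZΦ e) (Subgroup.zpowers_le.2 (hZself e)))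
      (Subgroup.zpowers_le.2 (hZsymm _ _ (hzc e)))
    have hrC : rr ∈ C := by
      by_contra hrC
      have hlt : C < C ⊔ Subgroup.zpowers rr := left_lt_sup.2 fun h' => hrC (h' (Subgroup.mem_zpowers _))
      exact hc ((show C ⊔ Subgroup.zpowers rr ≤ Z e from sup_le hCle
        (Subgroup.zpowers_le.2 (hZsymm _ _ (hrc e))))
        ((chain_three h.pE h.hrk l1 l2 hlt).1.symm ▸ Subgroup.mem_top f))
    -- remove the `e` part
    set Pz := frattini E ⊔ Subgroup.zpowers z with hPz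
    haveI hPzn : Pz.Normal := ⟨fun x hx n => by
      rw [show n * x * n⁻¹ = ⁅n, x⁆ * x by simp [commutatorElement_def, mul_assoc]]
      exact Pz.mul_mem (Subgroup.mem_sup_left (mem_phi.1 (h.comm_mem_phi n.2 x.2))) hx⟩
    have hrPz : rr ∈ Pz := by
      have hCeq : C = Pz ⊔ Subgroup.zpowers e := by
        rw [hC, hPe, hPz, sup_assoc, sup_assoc, sup_comm (Subgroup.zpowers e)]
      obtain ⟨u, hu, _, ⟨i, rfl⟩, hr'⟩ := Subgroup.mem_sup_of_normal_left.1 (hCeq ▸ hrC)
      simp only at hr'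
      rw [← hr']
      refine mul_mem hu (Subgroup.mem_sup_left (zpow_mem_of_pow_mem (mem_phi.1 (h.pow_mem_phi e.2)) ?_))
      by_contra hi
      refine hc (hZsymm _ _ (mem_of_zpow_mem (p := p) (hZΦ f (mem_phi.1 (h.pow_mem_phi e.2))) hi ?_))
      have h1 := (Z f).mul_mem ((Z f).inv_mem ((sup_le (hZΦ f)
        (Subgroup.zpowers_le.2 (hZsymm _ _ (hzc f))) : Pz ≤ Z f) hu)) (hZsymm _ _ (hrc f))
      rwa [← hr', inv_mul_cancel_left] at h1
    have hzF : z ∈ F' := by
      obtain ⟨u, hu, _, ⟨i, rfl⟩, hr'⟩ := Subgroup.mem_sup_of_normal_left.1 hrPz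
      simp only at hr'
      refine mem_of_zpow_mem (p := p) (k := i) (hΦF (mem_phi.1 (h.pow_mem_phi z.2))) (fun hi => hrPE ?_) ?_
      · refine (mem_phi (x := rr)).2 ?_
        rw [← hr']
        exact mul_mem hu (zpow_mem_of_pow_mem (mem_phi.1 (h.pow_mem_phi z.2)) hi)
      · have hrF : rr ∈ F' := h.cj_phi_le_cj hg hrPB
        have := F'.mul_mem (F'.inv_mem (hΦF hu)) hrF
        rwa [← hr', inv_mul_cancel_left] at this
    set d : E := ⟨⁅b, (f : Ω)⁆, comm_mem hbN.2 f.2⟩ with hd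
    have hdF : d ∈ F' := (h.comm_normalizer_mem hg hbN f.2).2
    have hdΦ : d ∉ frattini E := fun h' => hf ((hker f).2 (mem_phi.2 h'))
    obtain ⟨u, hu, _, ⟨i, rfl⟩, hd'⟩ := Subgroup.mem_sup_of_normal_left.1 (hran f)
    simp only at hd'
    replace hd' : u * e ^ i = d := hd'
    have hi : ¬(p : ℤ) ∣ i := fun hi => hdΦ (by
      rw [← hd']
      exact mul_mem hu (zpow_mem_of_pow_mem (mem_phi.1 (h.pow_mem_phi e.2)) hi))
    have hdecomp : e ^ i = u⁻¹ * d := by rw [← hd', inv_mul_cancel_left]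
    have heF : e ∈ F' := mem_of_zpow_mem (p := p) (hΦF (mem_phi.1 (h.pow_mem_phi e.2))) hi
      (hdecomp ▸ mul_mem (inv_mem (hΦF hu)) hdF)
    have hdZ : d ∈ Z f := by
      rw [← inv_mem_iff]
      refine hZsymm _ _ ((hZ d⁻¹ f).2 ?_)
      have hfb : ⁅(f : Ω), b⁆ ∈ E := by
        have := inv_mem d.2
        rwa [hd, commutatorElement_inv] at this
      have e2 : (d⁻¹ : E) = ⟨⁅(f : Ω), b⁆, hfb⟩ := Subtype.ext (commutatorElement_inv _ _)
      rw [e2]
      exact ⟨h.comm_mem_phi f.2 hfb, h.quad_cj hg hq (le_normalizerIn h.le f.2) hbB⟩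
    exact hc (hZsymm _ _ (mem_of_zpow_mem (p := p) (hZΦ f (mem_phi.1 (h.pow_mem_phi e.2))) hi
      (hdecomp ▸ mul_mem (inv_mem (hZΦ f hu)) hdZ)))
  -- the quotient by `K`
  set mk := QuotientGroup.mk' K with hmk
  set M := (frattini E).map mk with hM
  have hsur := QuotientGroup.mk'_surjective K
  have hbdE : ElemBound p 3 E := (h.bound.subgroup (E.subgroupOf S)).of_surjective
    (Subgroup.subgroupOfEquivOfLe h.le).toMonoidHom (Subgroup.subgroupOfEquivOfLe h.le).surjective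
  let σ : F.autGroup E →* MulAut (E ⧸ K) := MonoidHom.mk'
    (fun α => QuotientGroup.congr K K (α : MulAut E) (by
      refine Subgroup.eq_of_le_of_card_ge ?_ ?_
      · rintro _ ⟨x, hx, rfl⟩
        exact hKinv _ α.2 x hx
      · exact (Subgroup.card_map_of_injective (MulEquiv.injective _)).ge))
    (fun α β => MulEquiv.ext fun x => by
      induction x using QuotientGroup.induction_on
      rfl)
  have hσ : ∀ α x, σ α (mk x) = mk ((α : MulAut E) x) := fun α x => rfl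
  have hM' : ∀ {u v : E} (U : F.autGroup E), u⁻¹ * (U : MulAut E) v ∈ frattini E →
      (mk u)⁻¹ * σ U (mk v) ∈ M := fun {u v} U hu => by
    rw [hσ, ← map_inv, ← map_mul]
    exact ⟨_, hu, rfl⟩
  refine false_of_frame (Q := E ⧸ K) (p := p) (M := M)
    (by
      rintro _ ⟨m, hm, rfl⟩
      refine Subgroup.mem_center_iff.2 fun v => ?_
      obtain ⟨x, rfl⟩ := hsur v
      refine commutatorElement_eq_one_iff_mul_comm.1 ?_
      rw [← map_commutatorElement]
      exact (QuotientGroup.eq_one_iff _).2 (hKcm x m hm))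
    (by
      rintro _ ⟨m, hm, rfl⟩
      rw [← map_pow]
      exact (QuotientGroup.eq_one_iff _).2 (hKp m hm))
    (fun u v => by
      obtain ⟨x, rfl⟩ := hsur u
      obtain ⟨x', rfl⟩ := hsur v
      rw [← map_commutatorElement]
      exact ⟨_, mem_phi.1 (h.comm_mem_phi x.2 x'.2), rfl⟩)
    (fun u => by
      obtain ⟨x, rfl⟩ := hsur u
      rw [← map_pow]
      exact ⟨_, mem_phi.1 (h.pow_mem_phi x.2), rfl⟩)
    (h.pE.to_quotient K) (hbdE.of_surjective mk hsur) σ
    (by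
      rintro α _ ⟨m, hm, rfl⟩
      exact ⟨_, ((Subgroup.characteristic_iff_map_eq.mp
        (inferInstance : (frattini E).Characteristic)) (α : MulAut E)).le ⟨m, hm, rfl⟩, (hσ α m).symm⟩)
    (fun v => by
      obtain ⟨x, rfl⟩ := hsur v
      rw [← map_pow]
      exact (QuotientGroup.eq_one_iff _).2 (hexpK x))
    (e := mk e) (f := mk f) (z := mk z) (U₁ := U₁) (U₂ := U₂) (h := hh) (α := α) ha1 ha2 ha0
    (hM' U₁ a1) (by rw [← map_mul]; exact hM' U₁ a2) (hM' U₁ a3)
    (by rw [← map_inv, ← map_mul]; exact hM' U₂ b1) (hM' U₂ b2) (hM' U₂ b3)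
    (by rw [← map_pow]; exact hM' hh c1) (by rw [← map_pow]; exact hM' hh c2) (hM' hh c3)
    (fun h' => heΦ ((mk_mem_map hKΦ e).1 h')) ?_ ?_
  · rw [← MonoidHom.map_zpowers, ← Subgroup.map_sup]
    exact fun h' => hf (Subgroup.mem_sup_left ((mk_mem_map (hKΦ.trans le_sup_left) f).1 h'))
  · by_contra hnot
    push Not at hnot
    rw [← map_commutatorElement, ← map_commutatorElement] at hnot
    exact hnz ⟨(QuotientGroup.eq_one_iff _).1 hnot.1, (QuotientGroup.eq_one_iff _).1 hnot.2⟩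

theorem false_of_case_one {y₀ f₀ : Ω} (hy₀ : y₀ ∈ E) (hf₀ : f₀ ∈ E ⊓ cj g E)
    (hne : ⁅y₀, f₀⁆ ∉ cj g (phi E)) : False := by
  by_cases hq : ∀ m ∈ normalizerIn S E, QuadAt E m
  · exact h.quad_case hg hq hy₀ hf₀ hne
  · exact h.not_quad_case hg hq hy₀ hf₀ hne

end Setting

end CfsgLib.Jordan.RankThree
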