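import Cfsg.Agent.Lib.Jordan.RankThree.TwoCore

/-!
# Central intersections give an elementary section of order `p ^ 4`
-/

set_option autoImplicit false
set_option linter.style.haveILetI false
set_option linter.unusedSectionVars false

open scoped commutatorElement

namespace CfsgLib.Jordan.RankThree

open Cfsg Cfsg.FusionSystem CfsgLib.Alperin

variable {Ω : Type*} [Group Ω] {S : Subgroup Ω} [Finite S] {p : ℕ} [hp : Fact p.Prime]
  {F : FusionSystem S} {E : Subgroup Ω}

theorem conjAut_pow_apply {P : Subgroup Ω} {g : Ω} (hg : g ∈ Subgroup.normalizer (P : Set Ω))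
    (x : P) : ∀ n : ℕ, (((conjAut P g hg ^ n) x : P) : Ω) = g ^ n * x * (g ^ n)⁻¹ := by
  intro n
  induction n with
  | zero => simp
  | succ n ih =>
    rw [pow_succ', MulAut.mul_apply, conjAut_apply, ih, pow_succ']
    group

namespace Setting

variable (h : Setting p F E)
include h

theorem false_of_case_two (hII : ∀ g, Mover S E g → ∀ y ∈ E, ∀ f ∈ E ⊓ cj g E,
    ⁅y, f⁆ ∈ cj g (phi E)) {g₀ : Ω} (hg₀ : Mover S E g₀) : False := by
  haveI := h.finE
  haveI := h.finN
  obtain ⟨C1, C, b, f, L⟩ := h.exists_layers hII hg₀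
  haveI := h.normal_phi L
  obtain ⟨α, ha0, ha1, ha2, ha3, ha5⟩ := exists_alpha (p := p) h.h5
  obtain ⟨ψ, hψA, -, hψΦ, hψ1, hψC, hψf, hψN⟩ := L.torus α ha0
  obtain ⟨wN, hw0, hspan, hEspan, hψw, -, hgw0, -⟩ :=
    h.core L hg₀ ha0 ha2 ha5 hψA hψΦ hψ1 hψC hψf hψN
  have hEN : E ≤ normalizerIn S E := le_normalizerIn h.le
  have hNR := normalizer_le_outerN S E
  set mkR := QuotientGroup.mk' ((phi E).subgroupOf (outerN S E)) with hmkR
  set ν := mkR.comp (Subgroup.inclusion hNR) with hν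
  have hν1 : ∀ x : normalizerIn S E, ν x = 1 ↔ (x : Ω) ∈ phi E := fun x =>
    QuotientGroup.eq_one_iff _
  have hνp : ∀ x : normalizerIn S E, ν x ^ p = 1 := fun x => by
    rw [← map_pow, hν1]
    exact L.pow x x.2
  have hker : ν.ker = (phi E).subgroupOf (normalizerIn S E) := by
    ext x
    exact hν1 x
  set ΦN := (phi E).subgroupOf (normalizerIn S E) with hΦN
  set C1N := C1.subgroupOf (normalizerIn S E) with hC1N
  set CN := C.subgroupOf (normalizerIn S E) with hCN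
  set fN : normalizerIn S E := ⟨f, hEN L.fE⟩ with hfN
  set Γ1 := C1N.map ν with hΓ1
  set ΓC := CN.map ν with hΓC
  set W := ν wN with hW
  set Fb := ν fN with hFb
  have hcen : ∀ (n x : normalizerIn S E), x ∈ CN → Commute (ν n) (ν x) := fun n x hx =>
    commutatorElement_eq_one_iff_mul_comm.1 (by
      rw [← map_commutatorElement, hν1]
      exact L.commC n n.2 x hx)
  have hdec : ∀ x : normalizerIn S E, ∃ i j : ℤ, ∃ c ∈ CN, x = fN ^ i * wN ^ j * c := fun x => by
    obtain ⟨i, j, hij⟩ := hspan x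
    refine ⟨i, j, (fN ^ i * wN ^ j)⁻¹ * x, ?_, by rw [mul_inv_cancel_left]⟩
    simpa [hCN, hfN, Subgroup.mem_subgroupOf] using hij
  set C0 := ⁅Fb, W⁆ with hC0
  have hC0ne : C0 ≠ 1 := by
    intro h0
    have hFW : Commute Fb W := commutatorElement_eq_one_iff_mul_comm.1 h0
    obtain ⟨i, j, c, hc, hbc⟩ := hdec ⟨b, L.bN⟩
    refine L.bf ((hν1 ⁅(⟨b, L.bN⟩ : normalizerIn S E), fN⁆).1 ?_)
    rw [map_commutatorElement, commutatorElement_eq_one_iff_mul_comm, hbc, map_mul, map_mul, map_zpow,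
      map_zpow]
    exact ((((Commute.refl Fb).zpow_left i).mul_left (hFW.symm.zpow_left j)).mul_left
      (hcen fN c hc).symm).eq
  have hnc : ¬Commute W Fb := fun hc => hC0ne (commutatorElement_eq_one_iff_mul_comm.2 hc.symm.eq)
  -- the centre
  have hjz : ∀ {i : ℤ}, Commute (W ^ i) Fb → (p : ℤ) ∣ i := fun {i} hc => by
    by_contra hi
    exact hnc (Subgroup.mem_centralizer_singleton_iff.1 (mem_of_zpow_mem (p := p)
      (R := Subgroup.centralizer {Fb}) (by rw [hνp]; exact one_mem _) hi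
      (Subgroup.mem_centralizer_singleton_iff.2 hc.eq)))
  have hiz : ∀ {i : ℤ}, Commute (Fb ^ i) W → (p : ℤ) ∣ i := fun {i} hc => by
    by_contra hi
    refine hnc (Commute.symm (Subgroup.mem_centralizer_singleton_iff.1 (mem_of_zpow_mem (p := p)
      (R := Subgroup.centralizer {W}) (by rw [hνp]; exact one_mem _) hi
      (Subgroup.mem_centralizer_singleton_iff.2 hc.eq))))
  have hpowC : ∀ (x : normalizerIn S E) {i : ℤ}, (p : ℤ) ∣ i → x ^ i ∈ CN := fun x i hi =>
    zpow_mem_of_pow_mem (show x ^ p ∈ CN from L.C1C (L.phiC1 (L.pow x x.2))) hi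
  have hcentre : ∀ m : normalizerIn S E, Commute (ν m) W →
      (∃ j : ℤ, ∃ c ∈ CN, m = wN ^ j * c) ∧ (Commute (ν m) Fb → m ∈ CN) := by
    intro m hmW
    obtain ⟨i, j, c, hc, rfl⟩ := hdec m
    have hνm : ν (fN ^ i * wN ^ j * c) = Fb ^ i * W ^ j * ν c := by
      rw [map_mul, map_mul, map_zpow, map_zpow]
    rw [hνm] at hmW
    have h1 : Commute (Fb ^ i) W := by
      have h2 := hmW.mul_left (hcen wN c hc).symm.inv_left
      rw [mul_inv_cancel_right] at h2
      have h3 := h2.mul_left (((Commute.refl W).zpow_left j).inv_left)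
      rwa [mul_inv_cancel_right] at h3
    have hi := hiz h1
    have hfi : fN ^ i ∈ CN := hpowC fN hi
    haveI : CN.Normal := ⟨fun x hx n => by
      show (n : Ω) * x * (n : Ω)⁻¹ ∈ C
      rw [show (n : Ω) * x * (n : Ω)⁻¹ = ⁅(n : Ω), (x : Ω)⁆ * x by simp [commutatorElement_def, mul_assoc]]
      exact mul_mem (L.C1C (L.phiC1 (L.commC n n.2 x hx))) hx⟩
    have hm' : ∃ c' ∈ CN, fN ^ i * wN ^ j * c = wN ^ j * c' :=
      ⟨(wN ^ j)⁻¹ * fN ^ i * (wN ^ j) * c, mul_mem (by
        have := (inferInstance : CN.Normal).conj_mem _ hfi (wN ^ j)⁻¹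
        rwa [inv_inv] at this) hc, by simp only [mul_assoc, mul_inv_cancel_left]⟩
    obtain ⟨c', hc', he⟩ := hm'
    refine ⟨⟨j, c', hc', he⟩, fun hmF => ?_⟩
    rw [he, map_mul, map_zpow] at hmF
    have h3 := hmF.mul_left (hcen fN c' hc').symm.inv_left
    rw [mul_inv_cancel_right] at h3
    rw [he]
    exact mul_mem (hpowC wN (hjz h3)) hc'
  -- the commutator generates the first layer
  have hcard1 : Nat.card Γ1 = p := by
    rw [hΓ1, ← Subgroup.relIndex_ker, hker, Subgroup.relIndex_subgroupOf ((L.C1C.trans L.CE).trans hEN)]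
    exact L.r1
  haveI : Finite Γ1 := Nat.finite_of_card_ne_zero (by rw [hcard1]; exact hp.out.ne_zero)
  haveI : Finite (outerN S E) := finite_of_le (normalizerIn_le S _)
  have hC0mem : C0 ∈ Γ1 := ⟨⁅fN, wN⁆, L.commN f (hEN L.fE) _ wN.2, map_commutatorElement ν _ _⟩
  have hzC0 := zpowers_eq_of_card hcard1 hC0mem hC0ne
  have hC0p : C0 ^ p = 1 := by rw [hC0, hFb, hW, ← map_commutatorElement, hνp]
  set G₀ := mkR ⟨g₀, hg₀.mem_outerN⟩ with hG₀
  set wR : outerN S E := Subgroup.inclusion hNR wN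
  obtain ⟨j, hj⟩ : ∃ j : ZMod p, ⁅G₀, W⁆ = C0 ^ j.val := by
    refine eq_pow_val hC0p ?_
    rw [hzC0]
    refine ⟨⟨⁅g₀, (wN : Ω)⁆, (L.C1C.trans L.CE).trans hEN hgw0⟩, hgw0, ?_⟩
    rw [hG₀, hW, hν, MonoidHom.comp_apply, MonoidHom.comp_apply, ← map_commutatorElement]
    exact congrArg mkR (Subtype.ext rfl)
  set t := (-j).val with ht
  have hft : f ^ t ∈ normalizerIn S E := pow_mem (hEN L.fE) t
  set g := g₀ * f ^ t with hgdef
  have hg : Mover S E g := hg₀.mul hft
  set G := mkR ⟨g, hg.mem_outerN⟩ with hG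
  have hGG : G = G₀ * Fb ^ t := by
    rw [hG, hG₀, hFb, hν, MonoidHom.comp_apply, ← map_pow, ← map_mul]
    exact congrArg mkR (Subtype.ext rfl)
  have hC0c : ∀ m : normalizerIn S E, Commute (ν m) C0 := fun m => by
    rw [hC0, hFb, hW, ← map_commutatorElement]
    exact hcen m _ (L.C1C (L.commN f (hEN L.fE) _ wN.2))
  have hFW : ∀ n : ℕ, Fb ^ n * W * (Fb ^ n)⁻¹ = C0 ^ n * W := by
    intro n
    induction n with
    | zero => simp
    | succ n ih =>
      rw [pow_succ', mul_inv_rev, show Fb * Fb ^ n * W * ((Fb ^ n)⁻¹ * Fb⁻¹) =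
        Fb * (Fb ^ n * W * (Fb ^ n)⁻¹) * Fb⁻¹ by simp only [mul_assoc], ih, ← mul_assoc,
        ((hC0c fN).pow_right n).eq, mul_assoc, mul_assoc, show Fb * (W * Fb⁻¹) = C0 * W by
          rw [hC0, commutatorElement_def]; group, ← mul_assoc, ← pow_succ]
  obtain ⟨wN', hw1, -, -, -, hGC, -, n', hδ⟩ := h.core L hg ha0 ha2 ha5 hψA hψΦ hψ1 hψC hψf hψN
  have hwΩ : (wN : Ω) = ⁅g, f⁆ := by
    rw [hw0, hgdef]
    simp only [commutatorElement_def, mul_inv_rev, mul_assoc]
    rw [← mul_assoc (f ^ t) f, ((Commute.refl f).pow_left t).eq, mul_assoc, mul_inv_cancel_left]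
  have hGC' : ∀ x ∈ CN, Commute G (ν x) := fun x hx => by
    refine commutatorElement_eq_one_iff_mul_comm.1 ?_
    rw [hG, hν, MonoidHom.comp_apply, ← map_commutatorElement]
    exact (QuotientGroup.eq_one_iff _).2 (hGC x hx)
  have hG1 : ∀ x ∈ C1N, Commute G (ν x) := fun x hx => hGC' x (L.C1C hx)
  have hG0C : Commute G₀ C0 := by
    have h1 : Commute G C0 := by
      rw [hC0, hFb, hW, ← map_commutatorElement]
      exact hG1 _ (L.commN f (hEN L.fE) _ wN.2)
    have h2 := h1.mul_left ((hC0c fN).pow_left t).inv_left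
    rwa [hGG, mul_inv_cancel_right] at h2
  have hGW : Commute G W := by
    refine mul_inv_eq_iff_eq_mul.1 ?_
    rw [hGG, mul_inv_rev, show G₀ * Fb ^ t * W * ((Fb ^ t)⁻¹ * G₀⁻¹) =
      G₀ * (Fb ^ t * W * (Fb ^ t)⁻¹) * G₀⁻¹ by simp only [mul_assoc], hFW, ← conj_mul,
      (hG0C.pow_right t).eq, mul_inv_cancel_right,
      show G₀ * W * G₀⁻¹ = ⁅G₀, W⁆ * W by simp [commutatorElement_def, mul_assoc], hj,
      ← mul_assoc, ← pow_add, pow_val_eq hC0p (k := (0 : ZMod p)), ZMod.val_zero, pow_zero, one_mul]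
    simp [ht]
  have hGF : G * Fb * G⁻¹ = W * Fb := by
    rw [hW, hFb, hG, hν, ← map_mul, MonoidHom.comp_apply, MonoidHom.comp_apply, ← map_inv, ← map_mul,
      ← map_mul]
    refine congrArg mkR (Subtype.ext ?_)
    show g * f * g⁻¹ = (wN : Ω) * f
    rw [hwΩ]
    simp [commutatorElement_def, mul_assoc]
  have hGnF : ∀ n : ℕ, G ^ n * Fb * (G ^ n)⁻¹ = W ^ n * Fb := by
    intro n
    induction n with
    | zero => simp
    | succ n ih =>
      rw [pow_succ', mul_inv_rev, show G * G ^ n * Fb * ((G ^ n)⁻¹ * G⁻¹) =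
        G * (G ^ n * Fb * (G ^ n)⁻¹) * G⁻¹ by simp only [mul_assoc], ih, ← conj_mul,
        (hGW.pow_right n).eq, mul_inv_cancel_right, hGF, ← mul_assoc, ← pow_succ]
  -- `g ^ p` lies in the normalizer
  set gR : outerN S E := ⟨g, hg.mem_outerN⟩
  have hPF : Commute (G ^ p) Fb := by
    refine mul_inv_eq_iff_eq_mul.1 ?_
    rw [hGnF, hνp, one_mul]
  have hgpN : g ^ p ∈ normalizerIn S E := by
    refine ⟨pow_mem hg.memS p, ?_⟩
    have hmem : ∀ x ∈ E, g ^ p * x * (g ^ p)⁻¹ ∈ E := by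
      intro x hx
      obtain ⟨i, hi⟩ := hEspan x hx
      set c : normalizerIn S E := ⟨(f ^ i)⁻¹ * x, (L.CE.trans hEN) hi⟩
      have hcomm : Commute (G ^ p) (ν (⟨x, hEN hx⟩ : normalizerIn S E)) := by
        rw [show (⟨x, hEN hx⟩ : normalizerIn S E) = fN ^ i * c from
          Subtype.ext (by simp [c, hfN]), map_mul, map_zpow]
        exact (hPF.zpow_right i).mul_right ((hGC' c hi).pow_left p)
      have h1 : mkR ⁅gR ^ p, Subgroup.inclusion hNR ⟨x, hEN hx⟩⁆ = 1 := by
        rw [map_commutatorElement, commutatorElement_eq_one_iff_mul_comm, map_pow]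
        exact hcomm.eq
      have h2 : ⁅g ^ p, x⁆ ∈ phi E :=
        (QuotientGroup.eq_one_iff ⁅gR ^ p, Subgroup.inclusion hNR ⟨x, hEN hx⟩⁆).1 h1
      rw [show g ^ p * x * (g ^ p)⁻¹ = ⁅g ^ p, x⁆ * x by simp [commutatorElement_def, mul_assoc]]
      exact mul_mem (phi_le E h2) hx
    have heq : E.map (MulAut.conj (g ^ p)).toMonoidHom = E := Subgroup.eq_of_le_of_card_ge
      (by rintro _ ⟨x, hx, rfl⟩; exact hmem x hx) (card_cj _ _).ge
    refine Subgroup.mem_normalizer_iff.2 fun x => ⟨hmem x, fun hx => ?_⟩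
    rw [← heq] at hx
    obtain ⟨y, hy, hyx⟩ := hx
    have : y = x := mul_left_cancel (mul_right_cancel hyx)
    exact this ▸ hy
  set gp : normalizerIn S E := ⟨g ^ p, hgpN⟩
  have hνgp : ν gp = G ^ p := by
    rw [hG, ← map_pow, hν, MonoidHom.comp_apply]
    exact congrArg mkR (Subtype.ext rfl)
  have hgpC : gp ∈ CN := (hcentre gp (hνgp ▸ hGW.pow_left p)).2 (hνgp ▸ hPF)
  -- extend the torus
  set m := (α ^ 3).val with hm
  set φ := (normalizerIn S E).subtype.comp ψ.toMonoidHom with hφ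
  have hφF : φ ∈ F.Hom (normalizerIn S E) := (mem_autGroup_iff F (normalizerIn_le S E)).1 hψA
  have hφr : φ.range = normalizerIn S E := by
    ext x
    exact ⟨by rintro ⟨y, rfl⟩; exact (ψ y).2, fun hx => ⟨ψ.symm ⟨x, hx⟩, by simp [φ]⟩⟩
  have hkey : ∀ x : normalizerIn S E, ((ψ (conjAut _ g hg.norm x) : normalizerIn S E) : Ω) =
      (n' * g ^ m) * (ψ x : normalizerIn S E) * (n' * g ^ m)⁻¹ := fun x => by
    have h1 := congrArg Subtype.val (DFunLike.congr_fun hδ (ψ x))
    simp only [MulAut.mul_apply, MulAut.inv_apply_self, MulAut.conj_apply, Subgroup.coe_mul,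
      InvMemClass.coe_inv, conjAut_pow_apply] at h1
    rw [h1, hm]
    group
  have hhS : (n' : Ω) * g ^ m ∈ S := mul_mem n'.2.1 (pow_mem hg.memS m)
  have hgX : g ∈ extender S (normalizerIn S E) φ :=
    mem_extender_iff.2 ⟨hg.memS, hg.norm, _, hhS, fun x hx => hkey x⟩
  have hcen' : F.IsCentric (normalizerIn S E) :=
    FusionExamples.isCentric_of_ge h.hE.1 hEN (normalizerIn_le S E)
  obtain ⟨χ, hχ, hχN⟩ := (receptive_of_fullyCentralized h.hS h.hF
    (FusionExamples.isFullyCentralized_of_isCentric hcen')).2 _ φ hφF hφr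
  set g2 := χ ⟨g, hgX⟩ with hg2
  have hNX := le_extender hφF
  have hχv : ∀ x : normalizerIn S E, χ ⟨x, hNX x.2⟩ = (ψ x : normalizerIn S E) :=
    fun x => hχN x x.2 _
  have hg2conj : ∀ x : normalizerIn S E, g2 * (ψ x : normalizerIn S E) * g2⁻¹ =
      (n' * g ^ m) * (ψ x : normalizerIn S E) * (n' * g ^ m)⁻¹ := fun x => by
    rw [← hkey, ← hχv, ← hχv (conjAut _ g hg.norm x), hg2, ← map_inv, ← map_mul, ← map_mul]
    exact congrArg χ (Subtype.ext rfl)
  set c0 := ((n' : Ω) * g ^ m)⁻¹ * g2 with hc0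
  have hc0N : c0 ∈ normalizerIn S E := by
    refine hcen'.2 _ (isConj_refl F (normalizerIn_le S E))
      ⟨mul_mem (S.inv_mem hhS) (apply_mem hχ _), fun y hy => ?_⟩
    obtain ⟨x, hx⟩ := ψ.surjective ⟨y, hy⟩
    have := hg2conj x
    rw [hx] at this
    show y * c0 = c0 * y
    calc y * c0 = ((n' : Ω) * g ^ m)⁻¹ * (((n' : Ω) * g ^ m) * y * ((n' : Ω) * g ^ m)⁻¹) * g2 := by
          rw [hc0]; group
      _ = c0 * y := by rw [← this, hc0]; group
  have hgm : g ^ m ∈ Subgroup.normalizer ((normalizerIn S E : Subgroup Ω) : Set Ω) := pow_mem hg.norm m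
  set n2 : normalizerIn S E := n' * ⟨g ^ m * c0 * (g ^ m)⁻¹, mem_normalizer_conj hgm hc0N⟩ with hn2
  have hg2eq : g2 = (n2 : Ω) * g ^ m := by
    rw [hn2, Subgroup.coe_mul]
    show g2 = (n' : Ω) * (g ^ m * c0 * (g ^ m)⁻¹) * g ^ m
    rw [hc0]
    group
  set g2R : outerN S E := Subgroup.inclusion hNR n2 * gR ^ m with hg2R
  have hg2val : (g2R : Ω) = g2 := by rw [hg2eq]; rfl
  set N2 := ν n2 with hN2
  have hmk2 : mkR g2R = N2 * G ^ m := by rw [hg2R, map_mul, map_pow]; rfl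
  -- `n2` centralizes `W`
  set k := (α ^ 2).val with hk
  set c' : normalizerIn S E := (wN ^ k)⁻¹ * ψ wN with hc'
  have hc'C : c' ∈ CN := hψw
  have hψW : ν (ψ wN) = W ^ k * ν c' := by rw [hW, ← map_pow, ← map_mul, hc', mul_inv_cancel_left]
  have hN2W : Commute N2 W := by
    have hconj : (N2 * G ^ m) * ν (ψ wN) * (N2 * G ^ m)⁻¹ = ν (ψ wN) := by
      have h1 : ν (ψ (conjAut _ g hg.norm wN)) = ν (ψ wN) := by
        have h2 : ⁅g, (wN : Ω)⁆ ∈ phi E := by
          have h3 : mkR ⁅gR, wR⁆ = 1 := by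
            rw [map_commutatorElement, commutatorElement_eq_one_iff_mul_comm]
            exact hGW.eq
          exact (QuotientGroup.eq_one_iff ⁅gR, wR⁆).1 h3
        have h4 : conjAut _ g hg.norm wN =
            ⟨⁅g, (wN : Ω)⁆, (phi_le E).trans hEN h2⟩ * wN :=
          Subtype.ext (by simp [commutatorElement_def, mul_assoc])
        rw [h4, map_mul, map_mul, (hν1 _).2 (hψΦ _ h2), one_mul]
      rw [← hmk2]
      conv_rhs => rw [← h1]
      rw [hν, MonoidHom.comp_apply, MonoidHom.comp_apply, ← map_inv, ← map_mul, ← map_mul]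
      refine congrArg mkR (Subtype.ext ?_)
      show (g2R : Ω) * (ψ wN : normalizerIn S E) * (g2R : Ω)⁻¹ = _
      rw [hg2val, hg2conj, ← hkey]
      rfl
    have hGψ : Commute (G ^ m) (ν (ψ wN)) := by
      rw [hψW]
      exact ((hGW.pow_right k).mul_right (hGC' c' hc'C)).pow_left m
    have h5 : Commute N2 (ν (ψ wN)) := by
      refine mul_inv_eq_iff_eq_mul.1 ?_
      conv_rhs => rw [← hconj]
      rw [mul_inv_rev, show N2 * G ^ m * ν (ψ wN) * ((G ^ m)⁻¹ * N2⁻¹) =
        N2 * (G ^ m * ν (ψ wN) * (G ^ m)⁻¹) * N2⁻¹ by simp only [mul_assoc], hGψ.eq,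
        mul_inv_cancel_right]
    have h6 : Commute N2 (W ^ k) := by
      have := h5.mul_right (hcen n2 c' hc'C).inv_right
      rwa [hψW, mul_inv_cancel_right] at this
    refine (Subgroup.mem_centralizer_singleton_iff.1 (mem_of_zpow_mem (p := p)
      (R := Subgroup.centralizer {N2}) (k := (k : ℤ)) (x := W) (by rw [hνp]; exact one_mem _) ?_ ?_)).symm
    · intro hd
      rw [← ZMod.intCast_zmod_eq_zero_iff_dvd] at hd
      push_cast at hd
      rw [hk, ZMod.natCast_zmod_val] at hd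
      exact pow_ne_zero 2 ha0 hd
    · rw [zpow_natCast]
      exact Subgroup.mem_centralizer_singleton_iff.2 h6.symm.eq
  have hN2G : Commute G N2 := by
    obtain ⟨i, c, hc, he⟩ := (hcentre n2 hN2W).1
    rw [hN2, he, map_mul, map_zpow]
    exact (hGW.zpow_right i).mul_right (hGC' c hc)
  -- `G ^ p = 1`
  have hψgp : ν (ψ gp) = (G ^ p) ^ m := by
    have h1 : (ψ gp : normalizerIn S E).1 = g2 ^ p := by
      rw [← hχv, hg2, ← map_pow]
      exact congrArg χ (Subtype.ext rfl)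
    rw [← pow_mul, mul_comm p m, pow_mul,
      show (G ^ m) ^ p = (N2 * G ^ m) ^ p by
        rw [((hN2G.symm).pow_right m).mul_pow, hνp, one_mul],
      ← hmk2, ← map_pow, hν, MonoidHom.comp_apply]
    refine congrArg mkR (Subtype.ext ?_)
    show ((ψ gp : normalizerIn S E) : Ω) = _
    rw [SubgroupClass.coe_pow, hg2val]
    exact h1
  have hPP : (G ^ p) ^ p = 1 := by rw [← hνgp, hνp]
  have hPC1 : gp ∈ C1N := by
    set c := gp⁻¹ * ψ gp with hc
    have hc1 : c ∈ C1N := hψC gp hgpC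
    have h1 : ν c = (G ^ p) ^ ((m : ℤ) - 1) := by
      rw [hc, map_mul, map_inv, hνgp, hψgp, zpow_sub, zpow_natCast, zpow_one]
      exact ((Commute.refl (G ^ p)).pow_right m).inv_left.eq
    have hmem : G ^ p ∈ Γ1 := mem_of_zpow_mem (p := p) (R := Γ1) (k := (m : ℤ) - 1)
      (by rw [hPP]; exact one_mem _) (fun hd => by
        rw [← ZMod.intCast_zmod_eq_zero_iff_dvd] at hd
        push_cast at hd
        rw [hm, ZMod.natCast_zmod_val, sub_eq_zero] at hd
        exact ha3 hd) (by rw [← h1]; exact ⟨c, hc1, rfl⟩)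
    obtain ⟨y, hy, hye⟩ := hmem
    rw [← hνgp, ← inv_mul_eq_one, ← map_inv, ← map_mul, hν1] at hye
    have := mul_mem (show (y : Ω) ∈ C1 from hy) (L.phiC1 hye)
    show (gp : Ω) ∈ C1
    simpa using this
  have hGp : G ^ p = 1 := by
    refine eq_one_of_pow_val_eq hPP (a := α) (b := α ^ 3) (fun e => ha2 (mul_left_cancel₀ ha0 (by
      rw [mul_one, ← pow_succ', ← e]))) ?_
    rw [← hψgp, ← hνgp, ← map_pow, ← inv_mul_eq_one, ← map_inv, ← map_mul, hν1]
    exact hψ1 gp hPC1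
  -- the elementary section
  have hRS : outerN S E ≤ S := normalizerIn_le S _
  have hΓp : IsPGroup p (outerN S E ⧸ (phi E).subgroupOf (outerN S E)) := (isPGroup_of_le h.hS (normalizerIn_le S _)).to_quotient _
  have hΓb : ElemBound p 3 (outerN S E ⧸ (phi E).subgroupOf (outerN S E)) := ((h.bound.subgroup ((outerN S E).subgroupOf S)).of_surjective
    (Subgroup.subgroupOfEquivOfLe hRS).toMonoidHom
    (Subgroup.subgroupOfEquivOfLe hRS).surjective).of_surjective mkR
    (QuotientGroup.mk'_surjective _)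
  haveI : Finite (outerN S E ⧸ (phi E).subgroupOf (outerN S E)) := inferInstance
  set H := Subgroup.closure ((ΓC : Set (outerN S E ⧸ (phi E).subgroupOf (outerN S E))) ∪ {W, G}) with hH
  have hgens : ∀ x ∈ (ΓC : Set (outerN S E ⧸ (phi E).subgroupOf (outerN S E))) ∪ {W, G}, x ^ p = 1 ∧
      ∀ y ∈ (ΓC : Set (outerN S E ⧸ (phi E).subgroupOf (outerN S E))) ∪ {W, G}, Commute x y := by
    have hcW : ∀ x ∈ ΓC, Commute W x := by
      rintro _ ⟨x, hx, rfl⟩; exact hcen wN x hx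
    have hcG : ∀ x ∈ ΓC, Commute G x := by
      rintro _ ⟨x, hx, rfl⟩; exact hGC' x hx
    have hcc : ∀ x ∈ ΓC, ∀ y ∈ ΓC, Commute x y := by
      rintro _ ⟨x, hx, rfl⟩ _ ⟨y, hy, rfl⟩; exact hcen x y hy
    rintro x (hx | rfl | rfl)
    · refine ⟨?_, ?_⟩
      · obtain ⟨u, -, rfl⟩ := hx; exact hνp u
      · rintro y (hy | rfl | rfl)
        exacts [hcc x hx y hy, (hcW x hx).symm, (hcG x hx).symm]
    · refine ⟨hνp wN, ?_⟩
      rintro y (hy | rfl | rfl)
      exacts [hcW y hy, Commute.refl _, hGW.symm]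
    · refine ⟨hGp, ?_⟩
      rintro y (hy | rfl | rfl)
      exacts [hcG y hy, hGW, Commute.refl _]
  have hHc : ∀ a ∈ H, ∀ c ∈ H, Commute a c := by
    intro a ha c hc
    induction ha, hc using Subgroup.closure_induction₂ with
    | mem x y hx hy => exact (hgens x hx).2 y hy
    | one_left => exact Commute.one_left _
    | one_right => exact Commute.one_right _
    | mul_left x y z _ _ _ h1 h2 => exact h1.mul_left h2
    | mul_right x y z _ _ _ h1 h2 => exact h1.mul_right h2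
    | inv_left x y _ _ h1 => exact h1.inv_left
    | inv_right x y _ _ h1 => exact h1.inv_right
  have hHp : ∀ a ∈ H, a ^ p = 1 := by
    intro a ha
    induction ha using Subgroup.closure_induction with
    | mem x hx => exact (hgens x hx).1
    | one => exact one_pow p
    | mul x y hx hy h1 h2 => rw [(hHc x hx y hy).mul_pow, h1, h2, one_mul]
    | inv x hx h1 => rw [inv_pow, h1, inv_one]
  have l1 : Γ1 < ΓC := by
    refine lt_of_le_of_ne (Subgroup.map_mono fun x hx => L.C1C hx) fun e => ?_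
    have h2 : Nat.card ΓC = p ^ 2 := by
      rw [hΓC, ← Subgroup.relIndex_ker, hker, Subgroup.relIndex_subgroupOf (L.CE.trans hEN),
        ← Subgroup.relIndex_mul_relIndex (phi E) C1 C L.phiC1 L.C1C, L.r1, L.r2, sq]
    rw [← e, hcard1] at h2
    exact (lt_self_pow₀ hp.out.one_lt (by norm_num : 1 < 2)).ne h2
  have l2 : ΓC < ΓC ⊔ Subgroup.zpowers W := left_lt_sup.2 fun hle => hnc (by
    obtain ⟨x, hx, hxe⟩ := hle (Subgroup.mem_zpowers W)
    rw [← hxe]
    exact (hcen fN x hx).symm)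
  have l3 : ΓC ⊔ Subgroup.zpowers W < ΓC ⊔ Subgroup.zpowers W ⊔ Subgroup.zpowers G :=
    left_lt_sup.2 fun hle => by
      have hle2 : ΓC ⊔ Subgroup.zpowers W ≤ ν.range :=
        sup_le (Subgroup.map_le_range _ _) (Subgroup.zpowers_le.2 ⟨wN, rfl⟩)
      obtain ⟨x, hx⟩ := hle2 (hle (Subgroup.mem_zpowers G))
      rw [hG, hν, MonoidHom.comp_apply, hmkR, QuotientGroup.mk'_apply, QuotientGroup.mk'_apply,
        QuotientGroup.eq] at hx
      have h1 : (x : Ω)⁻¹ * g ∈ normalizerIn S E := (phi_le E).trans hEN hx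
      exact hg.notMem (by simpa using mul_mem x.2 h1)
  have hHle : ΓC ⊔ Subgroup.zpowers W ⊔ Subgroup.zpowers G ≤ H :=
    sup_le (sup_le (fun x hx => Subgroup.subset_closure (Or.inl hx))
      (Subgroup.zpowers_le.2 (Subgroup.subset_closure (Or.inr (by simp)))))
      (Subgroup.zpowers_le.2 (Subgroup.subset_closure (Or.inr (by simp))))
  have hb := hΓb H ⊥ bot_le
    (fun a ha c hc => Subgroup.mem_bot.2 (commutatorElement_eq_one_iff_mul_comm.2 (hHc a ha c hc).eq))
    (fun a ha => Subgroup.mem_bot.2 (hHp a ha))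
  rw [Subgroup.relIndex_bot_left] at hb
  have b1 := mul_relIndex_le hΓp (bot_le : ⊥ ≤ Γ1) l1
  have b2 := mul_relIndex_le hΓp (bot_le : ⊥ ≤ ΓC) l2
  have b3 := mul_relIndex_le hΓp (bot_le : ⊥ ≤ ΓC ⊔ Subgroup.zpowers W) l3
  rw [Subgroup.relIndex_bot_left, Subgroup.relIndex_bot_left] at b1 b2 b3
  rw [hcard1] at b1
  have c2 := ((Nat.mul_le_mul_left p ((Nat.mul_le_mul_left p b1).trans b2)).trans b3).trans
    ((Subgroup.card_le_of_le hHle).trans hb)
  rw [show p * (p * (p * p)) = p ^ 4 by ring] at c2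
  exact absurd c2 (not_le.2 (Nat.pow_lt_pow_right hp.out.one_lt (by norm_num)))

end Setting

end CfsgLib.Jordan.RankThree
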