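import Cfsg.Agent.Lib.Jordan.RankThree.Frame
import Mathlib.GroupTheory.Commutator.Basic

/-!
# Class two groups with three generators and a bound on elementary sections

If the commutator map onto an elementary central subgroup is equivariant for a regular unipotent
element with irreducible group, the `p`-th powers are determined; for a transvection with nonzero
commutators an elementary section of order `p ^ 4` appears.
-/

set_option autoImplicit false
set_option linter.style.haveILetI false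
set_option linter.unusedSectionVars false

namespace CfsgLib.Jordan.RankThree

open Cfsg
open scoped commutatorElement

/-- Every section of exponent `p` with trivial commutators has order at most `p ^ r`. -/
def ElemBound (p r : ℕ) (G : Type*) [Group G] : Prop :=
  ∀ H N : Subgroup G, N ≤ H → (∀ a ∈ H, ∀ b ∈ H, ⁅a, b⁆ ∈ N) → (∀ a ∈ H, a ^ p ∈ N) →
    N.relIndex H ≤ p ^ r

theorem ElemBound.of_surjective {p r : ℕ} {G G' : Type*} [Group G] [Group G'] (h : ElemBound p r G)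
    (f : G →* G') (hf : Function.Surjective f) : ElemBound p r G' := fun H N hNH hc hp => by
  have := h (H.comap f) (N.comap f) (Subgroup.comap_mono hNH)
    (fun a ha b hb => by show f ⁅a, b⁆ ∈ N; rw [map_commutatorElement]; exact hc _ ha _ hb)
    (fun a ha => by show f (a ^ p) ∈ N; rw [map_pow]; exact hp _ ha)
  rwa [Subgroup.relIndex_comap, Subgroup.map_comap_eq_self_of_surjective hf] at this

theorem ElemBound.subgroup {p r : ℕ} {G : Type*} [Group G] (h : ElemBound p r G) (K : Subgroup G) :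
    ElemBound p r K := fun H N hNH hc hp => by
  have hinj := K.subtype_injective
  have := h (H.map K.subtype) (N.map K.subtype) (Subgroup.map_mono hNH)
    (by
      rintro _ ⟨a, ha, rfl⟩ _ ⟨b, hb, rfl⟩
      exact ⟨_, hc a ha b hb, map_commutatorElement _ _ _⟩)
    (by rintro _ ⟨a, ha, rfl⟩; exact ⟨_, hp a ha, map_pow _ _ _⟩)
  rwa [Subgroup.relIndex_map_map_of_injective _ _ hinj] at this

/-- In a finite `p`-group a strict inclusion multiplies the index by at least `p`. -/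
theorem mul_relIndex_le {p : ℕ} [hp : Fact p.Prime] {G : Type*} [Group G] [Finite G]
    (hG : IsPGroup p G) {N H K : Subgroup G} (hNH : N ≤ H) (hHK : H < K) :
    p * N.relIndex H ≤ N.relIndex K := by
  rw [← Subgroup.relIndex_mul_relIndex N H K hNH hHK.le, mul_comm]
  refine Nat.mul_le_mul_left _ ?_
  obtain ⟨k, hk⟩ := (hG.to_subgroup K).index (H.subgroupOf K)
  rw [Subgroup.relIndex, hk]
  rcases k with _ | k
  · rw [pow_zero, Subgroup.index_eq_one, Subgroup.subgroupOf_eq_top] at hk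
    exact absurd (le_antisymm hk hHK.le) hHK.ne'
  · exact Nat.le_self_pow (Nat.succ_ne_zero k) p

theorem dvd_choose_of_lt {p : ℕ} [hp : Fact p.Prime] {k : ℕ} (hk0 : k ≠ 0) (hk : k < p) {G : Type*}
    [Monoid G] {x : G} (hx : x ^ p = 1) : x ^ p.choose k = 1 := by
  obtain ⟨c, hc⟩ := hp.out.dvd_choose_self hk0 hk
  rw [hc, pow_mul, hx, one_pow]

/-- The power of a product in a group of class at most three. -/
theorem mul_pow_prime {p : ℕ} [hp : Fact p.Prime] (h5 : 5 ≤ p) {G : Type*} [Group G] {a b d e f : G}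
    (hba : b * a * b⁻¹ = a * d) (hbd : b * d * b⁻¹ = d * e) (hbe : Commute b e)
    (had : a * d * a⁻¹ = d * f) (hae : Commute a e) (haf : Commute a f) (hde : Commute d e)
    (hdf : Commute d f) (hef : Commute e f) (hd : d ^ p = 1) (he : e ^ p = 1) (hf : f ^ p = 1) :
    (a * b) ^ p = a ^ p * b ^ p := by
  have hconj : ∀ n : ℕ, b ^ n * a * (b ^ n)⁻¹ = a * d ^ n * e ^ n.choose 2 := by
    intro n
    induction n with
    | zero => simp
    | succ n ih =>
      rw [pow_succ', mul_inv_rev, show b * b ^ n * a * ((b ^ n)⁻¹ * b⁻¹) =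
        MulAut.conj b (b ^ n * a * (b ^ n)⁻¹) by simp [mul_assoc], ih, map_mul, map_mul, map_pow,
        map_pow, MulAut.conj_apply, MulAut.conj_apply, MulAut.conj_apply, hba, hbd,
        hbe.eq, mul_inv_cancel_right, hde.mul_pow]
      rw [pow_succ' d n, Nat.choose_succ_succ' n 1, Nat.choose_one_right, pow_add e]
      simp only [mul_assoc]
  have hswap : ∀ k : ℕ, d ^ k * a = a * (d ^ k * f⁻¹ ^ k) := by
    intro k
    have hconjd : a⁻¹ * d * a = d * f⁻¹ := by
      have : d = a * (d * f⁻¹) * a⁻¹ := by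
        rw [← mul_assoc a d, mul_assoc (a * d), (haf.inv_right.symm.inv_right).eq, ← mul_assoc,
          had, mul_inv_cancel_right]
      conv_lhs => rw [this]
      group
    rw [← hdf.inv_right.mul_pow, ← hconjd]
    have := conj_pow (a := a⁻¹) (b := d) (i := k)
    rw [inv_inv] at this
    rw [this]
    group
  have key : ∀ n : ℕ, (a * b) ^ n =
      a ^ n * d ^ n.choose 2 * e ^ n.choose 3 * f⁻¹ ^ n.choose 3 * b ^ n := by
    intro n
    induction n with
    | zero => simp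
    | succ n ih =>
      have e1 : b ^ n * a = a * d ^ n * e ^ n.choose 2 * b ^ n := by
        rw [← hconj, inv_mul_cancel_right]
      have c1 : Commute (e ^ n.choose 3 * f⁻¹ ^ n.choose 3) a :=
        ((hae.symm.pow_left _).mul_left (haf.symm.inv_left.pow_left _))
      have c2 : Commute (f⁻¹ ^ n.choose 2 * (e ^ n.choose 3 * f⁻¹ ^ n.choose 3)) (d ^ n) :=
        ((hdf.symm.inv_left.pow_left _).mul_left
          ((hde.symm.pow_left _).mul_left (hdf.symm.inv_left.pow_left _))).pow_right _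
      have c3 : Commute (f⁻¹ ^ n.choose 2 * (e ^ n.choose 3 * f⁻¹ ^ n.choose 3))
          (e ^ n.choose 2) :=
        ((hef.symm.inv_left.pow_left _).mul_left
          (((Commute.refl e).pow_left _).mul_left (hef.symm.inv_left.pow_left _))).pow_right _
      calc (a * b) ^ (n + 1)
          = a ^ n * d ^ n.choose 2 * (e ^ n.choose 3 * f⁻¹ ^ n.choose 3) * (b ^ n * a) * b := by
            rw [pow_succ, ih]; simp only [mul_assoc]
        _ = a ^ n * (d ^ n.choose 2 * a) *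
            ((e ^ n.choose 3 * f⁻¹ ^ n.choose 3) * (d ^ n * e ^ n.choose 2)) * (b ^ n * b) := by
            rw [e1]; simp only [mul_assoc]
            rw [← mul_assoc (e ^ n.choose 3) (f⁻¹ ^ n.choose 3), ← mul_assoc _ a, c1.eq]
            simp only [mul_assoc]
        _ = a ^ (n + 1) * d ^ n.choose 2 *
            ((f⁻¹ ^ n.choose 2 * (e ^ n.choose 3 * f⁻¹ ^ n.choose 3)) * (d ^ n * e ^ n.choose 2)) *
            b ^ (n + 1) := by
            rw [hswap, pow_succ a, pow_succ b]; simp only [mul_assoc]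
        _ = a ^ (n + 1) * d ^ n.choose 2 * (d ^ n * e ^ n.choose 2 *
            (f⁻¹ ^ n.choose 2 * (e ^ n.choose 3 * f⁻¹ ^ n.choose 3))) * b ^ (n + 1) := by
            rw [(c2.mul_right c3).eq]
        _ = _ := by
            rw [Nat.choose_succ_succ' n 1, Nat.choose_one_right, Nat.choose_succ_succ' n 2, pow_add d,
              (Commute.pow_pow (Commute.refl d) n (n.choose 2)).eq, pow_add e, pow_add f⁻¹]
            have c4 : Commute (f⁻¹ ^ n.choose 2) (e ^ n.choose 3) :=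
              hef.symm.inv_left.pow_pow _ _
            simp only [mul_assoc]
            rw [← mul_assoc (f⁻¹ ^ n.choose 2) (e ^ n.choose 3), c4.eq]
            simp only [mul_assoc]
  rw [key, dvd_choose_of_lt (by norm_num) (by omega) hd, dvd_choose_of_lt (by norm_num) (by omega) he,
    dvd_choose_of_lt (by norm_num) (by omega) (by rw [inv_pow, hf, inv_one] : f⁻¹ ^ p = 1)]
  simp

section ClassTwo

variable {Q : Type*} [Group Q] [Finite Q] {p : ℕ} [hp : Fact p.Prime] (h5 : 5 ≤ p)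
  {M : Subgroup Q} (hMc : M ≤ Subgroup.center Q) (hMe : ∀ m ∈ M, m ^ p = 1)
  (hcm : ∀ a b : Q, ⁅a, b⁆ ∈ M) (hpm : ∀ a : Q, a ^ p ∈ M)

include hMc in
theorem comm_of_mem {m : Q} (hm : m ∈ M) (x : Q) : x * m = m * x :=
  Subgroup.mem_center_iff.1 (hMc hm) x

include hMc hcm in
theorem comm_mul_left (a b c : Q) : ⁅a * b, c⁆ = ⁅a, c⁆ * ⁅b, c⁆ := by
  have h := comm_of_mem hMc (hcm b c)
  calc ⁅a * b, c⁆ = a * ⁅b, c⁆ * a⁻¹ * ⁅a, c⁆ := by simp only [commutatorElement_def]; group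
    _ = ⁅b, c⁆ * ⁅a, c⁆ := by rw [h a, mul_inv_cancel_right]
    _ = ⁅a, c⁆ * ⁅b, c⁆ := (h _).symm

include hMc hcm in
theorem comm_mul_right (a b c : Q) : ⁅a, b * c⁆ = ⁅a, b⁆ * ⁅a, c⁆ := by
  have h := comm_of_mem hMc (hcm a c)
  calc ⁅a, b * c⁆ = ⁅a, b⁆ * (b * ⁅a, c⁆ * b⁻¹) := by simp only [commutatorElement_def]; group
    _ = ⁅a, b⁆ * ⁅a, c⁆ := by rw [h b, mul_inv_cancel_right]

include hMc hcm in
theorem comm_pow_left (a c : Q) : ∀ n : ℕ, ⁅a ^ n, c⁆ = ⁅a, c⁆ ^ n := by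
  intro n
  induction n with
  | zero => simp [commutatorElement_def]
  | succ n ih => rw [pow_succ, comm_mul_left hMc hcm, ih, pow_succ]

include hMc in
theorem comm_eq_one_of_mem {m : Q} (hm : m ∈ M) (x : Q) : ⁅m, x⁆ = 1 ∧ ⁅x, m⁆ = 1 :=
  ⟨commutatorElement_eq_one_iff_mul_comm.2 (comm_of_mem hMc hm x).symm,
    commutatorElement_eq_one_iff_mul_comm.2 (comm_of_mem hMc hm x)⟩

include h5 hMc hMe hcm in
theorem mul_pow_classTwo (a b : Q) : (a * b) ^ p = a ^ p * b ^ p := by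
  have hcomm : ∀ x, Commute x (1 : Q) := Commute.one_right
  refine mul_pow_prime h5 (d := a⁻¹ * b * a * b⁻¹) (e := 1) (f := 1) (by group) ?_ (hcomm _) ?_
    (hcomm _) (hcomm _) (hcomm _) (hcomm _) (hcomm _) ?_ (one_pow _) (one_pow _)
  · have := comm_of_mem hMc (hcm a⁻¹ b) b
    rw [mul_one, show a⁻¹ * b * a * b⁻¹ = ⁅a⁻¹, b⁆ by simp [commutatorElement_def], this,
      mul_inv_cancel_right]
  · have := comm_of_mem hMc (hcm a⁻¹ b) a
    rw [mul_one, show a⁻¹ * b * a * b⁻¹ = ⁅a⁻¹, b⁆ by simp [commutatorElement_def], this,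
      mul_inv_cancel_right]
  · exact hMe _ (by rw [show a⁻¹ * b * a * b⁻¹ = ⁅a⁻¹, b⁆ by simp [commutatorElement_def]]; exact hcm _ _)

variable (hidx : M.index = p ^ 3) (hQ : IsPGroup p Q) (hbd : ElemBound p 3 Q)
  {A : Type*} [Group A] (σ : A →* MulAut Q) (hσM : ∀ a, ∀ m ∈ M, σ a m ∈ M)

include hMc hMe hQ hbd in
theorem card_le_cube : Nat.card M ≤ p ^ 3 := by
  have := hbd M ⊥ bot_le
    (fun a ha b _ => by rw [(comm_eq_one_of_mem hMc ha b).1]; exact one_mem _)
    (fun a ha => by rw [hMe a ha]; exact one_mem _)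
  rwa [Subgroup.relIndex_bot_left] at this

include hMc hMe hcm hpm hbd hQ hσM in
/-- A transvection frame with nonzero commutators contradicts the bound. -/
theorem false_of_frame (hexp : ∀ q : Q, q ^ p = 1) {e f z : Q} {U₁ U₂ h : A} {α : ZMod p}
    (hα1 : α ≠ 1) (hα2 : α ^ 2 ≠ 1) (hα0 : α ≠ 0)
    (h1e : e⁻¹ * σ U₁ e ∈ M) (h1f : (f * e)⁻¹ * σ U₁ f ∈ M) (h1z : z⁻¹ * σ U₁ z ∈ M)
    (h2e : (e * f⁻¹)⁻¹ * σ U₂ e ∈ M) (h2f : f⁻¹ * σ U₂ f ∈ M) (h2z : z⁻¹ * σ U₂ z ∈ M)
    (hhe : (e ^ α.val)⁻¹ * σ h e ∈ M) (hhf : (f ^ α⁻¹.val)⁻¹ * σ h f ∈ M)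
    (hhz : z⁻¹ * σ h z ∈ M) (heM : e ∉ M) (hfM : f ∉ M ⊔ Subgroup.zpowers e)
    (hne : ⁅e, z⁆ ≠ 1 ∨ ⁅f, z⁆ ≠ 1) : False := by
  have hcomm : ∀ (a : A) (x y x' y' : Q), x'⁻¹ * σ a x ∈ M → y'⁻¹ * σ a y ∈ M →
      σ a ⁅x, y⁆ = ⁅x', y'⁆ := by
    intro a x y x' y' hx hy
    rw [map_commutatorElement, show σ a x = x' * (x'⁻¹ * σ a x) by group,
      show σ a y = y' * (y'⁻¹ * σ a y) by group, comm_mul_left hMc hcm,
      (comm_eq_one_of_mem hMc hx _).1, mul_one, comm_mul_right hMc hcm,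
      (comm_eq_one_of_mem hMc hy _).2, mul_one]
  have hfinv : ⁅f⁻¹, z⁆ = ⁅f, z⁆⁻¹ := eq_inv_of_mul_eq_one_left (by
    rw [← comm_mul_left hMc hcm, inv_mul_cancel, commutatorElement_one_left])
  set q1 := ⁅e, z⁆ with hq1
  set q2 := ⁅f, z⁆ with hq2
  set c := ⁅e, f⁆ with hc
  have hU1 : σ U₁ q2 = q2 * q1 := by
    rw [hq2, hcomm U₁ f z _ _ h1f h1z, comm_mul_left hMc hcm]
  have hU2 : σ U₂ q1 = q1 * q2⁻¹ := by
    rw [hq1, hcomm U₂ e z _ _ h2e h2z, comm_mul_left hMc hcm, hfinv]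
  have hq2ne : q2 ≠ 1 := fun h' => hne.elim (fun h1 => h1 (by
    rw [h', map_one, one_mul] at hU1; exact hU1.symm)) fun h2 => h2 h'
  have hq1ne : q1 ≠ 1 := fun h' => by
    rw [h', map_one, one_mul] at hU2
    exact hq2ne (inv_eq_one.1 hU2.symm)
  have hh1 : σ h q1 = q1 ^ α.val := by rw [hq1, hcomm h e z _ _ hhe hhz, comm_pow_left hMc hcm]
  have hh2 : σ h q2 = q2 ^ α⁻¹.val := by rw [hq2, hcomm h f z _ _ hhf hhz, comm_pow_left hMc hcm]
  have hhc : σ h c = c := by
    rw [hc, hcomm h e f _ _ hhe hhf, comm_pow_left hMc hcm]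
    have e1 : ∀ n : ℕ, ⁅e, f ^ n⁆ = ⁅e, f⁆ ^ n := fun n => by
      induction n with
      | zero => simp [commutatorElement_def]
      | succ n ih => rw [pow_succ, comm_mul_right hMc hcm, ih, pow_succ]
    rw [e1, ← pow_mul, pow_val_eq (hMe _ (hcm e f)) (k := (1 : ZMod p)), ZMod.val_one, pow_one]
    simp [hα0]
  have hfix : ∀ x : Q, x ^ p = 1 → ∀ β : ZMod p, β ≠ 1 → x ^ β.val = x → x = 1 := by
    intro x hx β hβ hxβ
    by_contra hx1
    refine hβ ?_
    have h' : β.val ≡ 1 [MOD p] := by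
      have h2 := pow_eq_pow_iff_modEq.1 (show x ^ β.val = x ^ 1 by rw [hxβ, pow_one])
      rwa [orderOf_eq_prime hx hx1] at h2
    rw [← ZMod.natCast_eq_natCast_iff, ZMod.natCast_zmod_val, Nat.cast_one] at h'
    exact h'
  set N := Subgroup.zpowers c
  have hN : N ≤ M := Subgroup.zpowers_le.2 (hcm e f)
  have hfixN : ∀ x ∈ N, σ h x = x := fun x hx => by
    obtain ⟨i, rfl⟩ := Subgroup.mem_zpowers_iff.1 hx
    rw [map_zpow, hhc]
  have hq1N : q1 ∉ N := fun hx => hq1ne (hfix q1 (hexp _) α hα1 (hh1.symm.trans (hfixN _ hx)))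
  set H1 := N ⊔ Subgroup.zpowers q1
  have hH1M : H1 ≤ M := sup_le hN (Subgroup.zpowers_le.2 (hcm e z))
  have hH1c : H1 ≤ Subgroup.center Q := hH1M.trans hMc
  have hq2H : q2 ∉ H1 := fun hx => by
    haveI : N.Normal := ⟨fun n hn g => by
      rw [comm_of_mem hMc (hN hn) g, mul_inv_cancel_right]; exact hn⟩
    obtain ⟨a, ha, b, hb, hab⟩ := Subgroup.mem_sup_of_normal_left.1 hx
    obtain ⟨k, rfl⟩ := Subgroup.mem_zpowers_iff.1 hb
    have hαv : ∀ (x : Q) (β : ZMod p) (k : ℤ), (x ^ k) ^ β.val = (x ^ β.val) ^ k := fun x β k => by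
      rw [← zpow_natCast, ← zpow_natCast, ← zpow_mul, ← zpow_mul, mul_comm]
    have h1 : q2 ^ α⁻¹.val = a * (q1 ^ α.val) ^ k := by
      rw [← hh2, ← hab, map_mul, hfixN _ ha, map_zpow, hh1]
    have h2 : (q2 ^ α⁻¹.val) * (q2 ^ α.val)⁻¹ * (a ^ α.val * a⁻¹) = 1 := by
      rw [h1, show q2 ^ α.val = a ^ α.val * (q1 ^ k) ^ α.val by
        rw [← hab, (show Commute a (q1 ^ k) from (comm_of_mem hMc (hN ha) _).symm).mul_pow], hαv]
      have cA : ∀ x, Commute a x := fun x => (comm_of_mem hMc (hN ha) x).symm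
      rw [mul_inv_rev, mul_assoc a, mul_assoc, ← mul_assoc ((q1 ^ α.val) ^ k) ((q1 ^ α.val) ^ k)⁻¹,
        mul_inv_cancel, one_mul, inv_mul_cancel_left, mul_inv_cancel]
    set y := q2 ^ α⁻¹.val * (q2 ^ α.val)⁻¹ with hy
    have hyN : y ∈ N := by
      rw [eq_inv_of_mul_eq_one_left h2]
      exact N.inv_mem (N.mul_mem (N.pow_mem ha _) (N.inv_mem ha))
    have hyfix : y ^ α⁻¹.val = y := by
      conv_rhs => rw [← hfixN y hyN]
      rw [hy, map_mul, map_inv, map_pow, map_pow, hh2]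
      rw [((Commute.refl q2).pow_pow _ _).inv_right.mul_pow, inv_pow]
      simp only [← pow_mul, mul_comm]
    have hy1 : y = 1 := hfix y (hexp _) _ (fun h' => hα1 (inv_eq_one.1 h')) hyfix
    rw [hy, mul_inv_eq_one] at hy1
    by_cases hq : q2 = 1
    · exact hq2ne hq
    · have h' : α⁻¹.val ≡ α.val [MOD p] := by
        have h2 := pow_eq_pow_iff_modEq.1 hy1
        rwa [orderOf_eq_prime (hexp q2) hq] at h2
      rw [← ZMod.natCast_eq_natCast_iff, ZMod.natCast_zmod_val, ZMod.natCast_zmod_val] at h'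
      refine hα2 ?_
      rw [sq]
      nth_rewrite 2 [← h']
      exact mul_inv_cancel₀ hα0
  set H2 := H1 ⊔ Subgroup.zpowers q2
  have hH2M : H2 ≤ M := sup_le hH1M (Subgroup.zpowers_le.2 (hcm f z))
  have hH2c : H2 ≤ Subgroup.center Q := hH2M.trans hMc
  set H3 := H2 ⊔ Subgroup.zpowers e
  have h3le : H3 ≤ M ⊔ Subgroup.zpowers e := sup_le_sup_right hH2M _
  set H4 := H3 ⊔ Subgroup.zpowers f
  have l1 : N < H1 := left_lt_sup.2 fun h' => hq1N (h' (Subgroup.mem_zpowers q1))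
  have l2 : H1 < H2 := left_lt_sup.2 fun h' => hq2H (h' (Subgroup.mem_zpowers q2))
  have l3 : H2 < H3 := left_lt_sup.2 fun h' => heM (hH2M (h' (Subgroup.mem_zpowers e)))
  have l4 : H3 < H4 := left_lt_sup.2 fun h' => hfM (h3le (h' (Subgroup.mem_zpowers f)))
  have b := hbd H4 N ((((l1.trans l2).trans l3).trans l4).le) ?_ (fun a _ => by
    rw [hexp]; exact one_mem _)
  · have b1 := mul_relIndex_le hQ le_rfl l1
    have b2 := mul_relIndex_le hQ l1.le l2
    have b3 := mul_relIndex_le hQ (l1.trans l2).le l3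
    have b4 := mul_relIndex_le hQ ((l1.trans l2).trans l3).le l4
    rw [Subgroup.relIndex_self] at b1
    have hpp : p ^ 3 < p ^ 4 := Nat.pow_lt_pow_right hp.out.one_lt (by norm_num)
    have c1 := (Nat.mul_le_mul_left p b1).trans b2
    have c2 := (Nat.mul_le_mul_left p c1).trans b3
    have c3 := ((Nat.mul_le_mul_left p c2).trans b4).trans b
    rw [show p * (p * (p * (p * 1))) = p ^ 4 by ring] at c3
    omega
  · -- commutators lie in `N`
    intro a ha b hb
    have hgen : H4 ≤ Subgroup.closure ((M : Set Q) ∪ {e, f}) := by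
      refine sup_le (h3le.trans (sup_le (fun m hm => Subgroup.subset_closure (Or.inl hm))
        (Subgroup.zpowers_le.2 (Subgroup.subset_closure (Or.inr (by simp))))))
        (Subgroup.zpowers_le.2 (Subgroup.subset_closure (Or.inr (by simp))))
    let R : Q → Subgroup Q := fun x =>
      { carrier := {y | ⁅x, y⁆ ∈ N}
        mul_mem' := fun {u v} (hu : ⁅x, u⁆ ∈ N) (hv : ⁅x, v⁆ ∈ N) => by
          show ⁅x, u * v⁆ ∈ N; rw [comm_mul_right hMc hcm]; exact N.mul_mem hu hv
        one_mem' := by show ⁅x, 1⁆ ∈ N; rw [commutatorElement_one_right]; exact N.one_mem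
        inv_mem' := fun {u} (hu : ⁅x, u⁆ ∈ N) => by
          show ⁅x, u⁻¹⁆ ∈ N
          rw [eq_inv_of_mul_eq_one_left (show ⁅x, u⁻¹⁆ * ⁅x, u⁆ = 1 by
            rw [← comm_mul_right hMc hcm, inv_mul_cancel, commutatorElement_one_right])]
          exact N.inv_mem hu }
    have hef : ∀ x ∈ (M : Set Q) ∪ {e, f}, ∀ y ∈ (M : Set Q) ∪ {e, f}, ⁅x, y⁆ ∈ N := by
      rintro x (hx | rfl | rfl) y (hy | rfl | rfl) <;> first
        | exact Subgroup.mem_zpowers c
        | (rw [(comm_eq_one_of_mem hMc hx _).1]; exact one_mem _)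
        | (rw [(comm_eq_one_of_mem hMc hy _).2]; exact one_mem _)
        | (rw [commutatorElement_self]; exact one_mem _)
        | (rw [← commutatorElement_inv]; exact N.inv_mem (Subgroup.mem_zpowers c))
    have h1 : ∀ x ∈ (M : Set Q) ∪ {e, f}, b ∈ R x := fun x hx =>
      (Subgroup.closure_le _).2 (fun y hy => hef x hx y hy) (hgen hb)
    have h2 : a ∈ R b := (Subgroup.closure_le (R b)).2 (fun x hx => by
      show ⁅b, x⁆ ∈ N
      rw [← commutatorElement_inv]
      exact N.inv_mem (h1 x hx)) (hgen ha)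
    rw [← commutatorElement_inv]
    exact N.inv_mem h2

end ClassTwo

end CfsgLib.Jordan.RankThree
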