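import Cfsg.Agent.Lib.Jordan.RankThree.Unipotent

/-!
# Frames for transvections and irreducibility for a regular unipotent element
-/

set_option autoImplicit false
set_option linter.style.haveILetI false
set_option linter.unusedSectionVars false

namespace CfsgLib.Jordan.RankThree

open Cfsg

variable {p : ℕ} [hp : Fact p.Prime]

/-- A subgroup of order `p` is generated by each of its nontrivial elements. -/
theorem zpowers_eq_of_card {G : Type*} [Group G] [Finite G] {L : Subgroup G} (hL : Nat.card L = p)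
    {a : G} (ha : a ∈ L) (ha1 : a ≠ 1) : Subgroup.zpowers a = L := by
  refine Subgroup.eq_of_le_of_card_ge (Subgroup.zpowers_le.2 ha) ?_
  rw [Nat.card_zpowers, hL]
  refine Nat.le_of_dvd (orderOf_pos a) ?_
  rcases (Nat.dvd_prime hp.out).1 (hL ▸ Subgroup.orderOf_dvd_natCard L ha) with h | h
  · exact absurd (orderOf_eq_one_iff.1 h) ha1
  · rw [h]

theorem eq_pow_val {G : Type*} [Group G] {a b : G} (hb : b ^ p = 1) (h : a ∈ Subgroup.zpowers b) :
    ∃ k : ZMod p, a = b ^ k.val := by
  obtain ⟨i, rfl⟩ := Subgroup.mem_zpowers_iff.1 h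
  refine ⟨(i : ZMod p), ?_⟩
  rw [← zpow_natCast, zpow_eq_zpow_iff_modEq]
  refine Int.ModEq.of_dvd (Int.natCast_dvd_natCast.2 (orderOf_dvd_of_pow_eq_one hb)) ?_
  rw [← ZMod.intCast_eq_intCast_iff]
  simp

theorem pow_val_eq {G : Type*} [Group G] {b : G} (hb : b ^ p = 1) {k : ZMod p} {n : ℕ}
    (h : (n : ZMod p) = k) : b ^ n = b ^ k.val := by
  refine pow_eq_pow_iff_modEq.2 (Nat.ModEq.of_dvd (orderOf_dvd_of_pow_eq_one hb) ?_)
  rw [← ZMod.natCast_eq_natCast_iff, h, ZMod.natCast_zmod_val]

theorem pow_apply_of_shift {V : Type*} [Group V] (α : MulAut V) {x y : V} (hy : α y = y)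
    (hx : α x = x * y) : ∀ n : ℕ, (α ^ n) x = x * y ^ n ∧ (α ^ n) y = y := by
  intro n
  induction n with
  | zero => simp
  | succ n ih => rw [pow_succ', MulAut.mul_apply, MulAut.mul_apply, ih.1, ih.2, map_mul, map_pow,
      hx, hy, mul_assoc, ← pow_succ']; exact ⟨rfl, rfl⟩

/-- Torus elements generated by two opposite transvections. -/
theorem exists_torus {V X : Type*} [CommGroup V] [Group X] (ρ : X →* MulAut V) {U₁ U₂ : X}
    {e f : V} (he : e ^ p = 1) (hf : f ^ p = 1) (h1e : ρ U₁ e = e) (h1f : ρ U₁ f = f * e)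
    (h2f : ρ U₂ f = f) (h2e : ρ U₂ e = e * f⁻¹) {α : ZMod p} (hα : α ≠ 0) :
    ∃ h ∈ Subgroup.closure ({U₁, U₂} : Set X), ρ h e = e ^ α.val ∧ ρ h f = f ^ α⁻¹.val ∧
      ∀ z, ρ U₁ z = z → ρ U₂ z = z → ρ h z = z := by
  have hU₁ : U₁ ∈ Subgroup.closure ({U₁, U₂} : Set X) := Subgroup.subset_closure (by simp)
  have hU₂ : U₂ ∈ Subgroup.closure ({U₁, U₂} : Set X) := Subgroup.subset_closure (by simp)
  let w : ZMod p → X := fun a => U₁ ^ a.val * U₂ ^ a⁻¹.val * U₁ ^ a.val
  have hw : ∀ a : ZMod p, a ≠ 0 →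
      ρ (w a) e = (f ^ a⁻¹.val)⁻¹ ∧ ρ (w a) f = e ^ a.val := by
    intro a ha
    have s1 : ∀ n : ℕ, ρ (U₁ ^ n) f = f * e ^ n ∧ ρ (U₁ ^ n) e = e := fun n => by
      rw [map_pow]; exact pow_apply_of_shift (ρ U₁) h1e h1f n
    have s2 : ∀ n : ℕ, ρ (U₂ ^ n) e = e * (f⁻¹) ^ n ∧ ρ (U₂ ^ n) f = f := fun n => by
      rw [map_pow]
      obtain ⟨a, b⟩ := pow_apply_of_shift (ρ U₂) (show ρ U₂ f⁻¹ = f⁻¹ by rw [map_inv, h2f]) h2e n
      exact ⟨a, by simpa using b⟩
    have hea : (e ^ a.val) ^ a⁻¹.val = e := by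
      conv_rhs => rw [← pow_one e]
      rw [← pow_mul, pow_val_eq he (k := (1 : ZMod p)), pow_val_eq (n := 1) he (k := (1 : ZMod p))]
      · simp
      · simp [ha]
    have hfa : (f ^ a⁻¹.val) ^ a.val = f := by
      conv_rhs => rw [← pow_one f]
      rw [← pow_mul, pow_val_eq hf (k := (1 : ZMod p)), pow_val_eq (n := 1) hf (k := (1 : ZMod p))]
      · simp
      · simp [ha]
    constructor
    · calc ρ (w a) e = ρ (U₁ ^ a.val) (ρ (U₂ ^ a⁻¹.val) e) := by
            show ρ (U₁ ^ a.val * U₂ ^ a⁻¹.val * U₁ ^ a.val) e = _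
            rw [map_mul, map_mul, MulAut.mul_apply, MulAut.mul_apply, (s1 _).2]
        _ = e * ((f * e ^ a.val)⁻¹) ^ a⁻¹.val := by
            rw [(s2 _).1, map_mul, (s1 _).2, map_pow (ρ (U₁ ^ a.val)), map_inv, (s1 _).1]
        _ = (f ^ a⁻¹.val)⁻¹ := by
            rw [inv_pow, mul_pow, hea, mul_inv_rev, ← mul_assoc, mul_inv_cancel, one_mul]
    · calc ρ (w a) f = ρ (U₁ ^ a.val) (ρ (U₂ ^ a⁻¹.val) (f * e ^ a.val)) := by
            show ρ (U₁ ^ a.val * U₂ ^ a⁻¹.val * U₁ ^ a.val) f = _
            rw [map_mul, map_mul, MulAut.mul_apply, MulAut.mul_apply, (s1 _).1]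
        _ = ρ (U₁ ^ a.val) (e ^ a.val) := by
            rw [map_mul (ρ (U₂ ^ a⁻¹.val)), (s2 _).2, map_pow (ρ (U₂ ^ a⁻¹.val)), (s2 _).1, mul_pow,
              inv_pow, inv_pow, hfa, mul_left_comm, mul_inv_cancel, mul_one]
        _ = e ^ a.val := by rw [map_pow (ρ (U₁ ^ a.val)), (s1 _).2]
  obtain ⟨a1, a2⟩ := hw (-α) (neg_ne_zero.2 hα)
  obtain ⟨b1, b2⟩ := hw 1 one_ne_zero
  refine ⟨w (-α) * w 1, mul_mem (mul_mem (mul_mem (pow_mem hU₁ _) (pow_mem hU₂ _)) (pow_mem hU₁ _))
    (mul_mem (mul_mem (pow_mem hU₁ _) (pow_mem hU₂ _)) (pow_mem hU₁ _)), ?_, ?_, fun z h1 h2 => ?_⟩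
  · rw [map_mul, MulAut.mul_apply, b1, inv_one, map_inv, map_pow, a2]
    have h1 : (1 : ZMod p).val = 1 := by rw [ZMod.val_one]
    rw [h1, pow_one, inv_eq_iff_mul_eq_one, ← pow_add, pow_val_eq he (k := (0 : ZMod p))]
    · simp
    · simp
  · rw [map_mul, MulAut.mul_apply, b2, ZMod.val_one, pow_one, a1, inv_neg]
    rw [inv_eq_iff_mul_eq_one, ← pow_add, pow_val_eq hf (k := (0 : ZMod p))]
    · simp
    · simp
  · have h1' : ∀ n : ℕ, ρ (U₁ ^ n) z = z := fun n => by
      rw [map_pow]; induction n with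
      | zero => rfl
      | succ n ih => rw [pow_succ, MulAut.mul_apply, h1, ih]
    have h2' : ∀ n : ℕ, ρ (U₂ ^ n) z = z := fun n => by
      rw [map_pow]; induction n with
      | zero => rfl
      | succ n ih => rw [pow_succ, MulAut.mul_apply, h2, ih]
    simp only [w, map_mul, MulAut.mul_apply, h1', h2']

variable {V : Type*} [CommGroup V] [Finite V] (hexp : ∀ v : V, v ^ p = 1)

/-- The displacement homomorphism of an automorphism. -/
def moveHom (α : MulAut V) : V →* V :=
  MonoidHom.mk' (fun v => α v * v⁻¹) fun x y => by rw [map_mul, mul_inv_rev]; ac_rfl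

theorem moveHom_apply (α : MulAut V) (v : V) : moveHom α v = α v * v⁻¹ := rfl

theorem mem_ker_moveHom {α : MulAut V} {v : V} : v ∈ (moveHom α).ker ↔ α v = v := by
  rw [MonoidHom.mem_ker, moveHom_apply, mul_inv_eq_one]

/-- A unipotent automorphism of a group of order at most `p ^ 2` is quadratic. -/
theorem quad_of_card_dvd_sq {W : Type*} [CommGroup W] [Finite W] (hW : Nat.card W ∣ p ^ 2)
    (hexpW : ∀ v : W, v ^ p = 1) {u : MulAut W} (hu : IsPGroup p (Subgroup.zpowers u)) (v : W) :
    u (u v * v⁻¹) = u v * v⁻¹ := by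
  haveI : Finite (MulAut W) := Finite.of_injective (fun a : MulAut W => (a : W → W))
    fun _ _ h => MulEquiv.ext (congrFun h)
  obtain ⟨k, hk2, hk⟩ := (Nat.dvd_prime_pow hp.out).1 hW
  rcases Nat.eq_zero_or_pos k with rfl | hk0
  · haveI : Subsingleton W := (Nat.card_eq_one_iff_unique.1 (by simpa using hk)).1
    exact Subsingleton.elim _ _
  letI : MulAction (Subgroup.zpowers u) W :=
    { smul := fun t w => (t : MulAut W) w
      one_smul := fun _ => rfl
      mul_smul := fun _ _ _ => rfl }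
  obtain ⟨l, hl, hl1⟩ := hu.exists_fixed_point_of_prime_dvd_card_of_fixed_point W
    (a := 1) (hk ▸ dvd_pow_self p hk0.ne') (fun t => map_one (t : MulAut W))
  set L := Subgroup.zpowers l with hL
  have hfix : ∀ t : Subgroup.zpowers u, ∀ x ∈ L, (t : MulAut W) x = x := fun t x hx => by
    obtain ⟨i, rfl⟩ := Subgroup.mem_zpowers_iff.1 hx
    rw [map_zpow]; exact congrArg (· ^ i) (hl t)
  suffices u v * v⁻¹ ∈ L from hfix ⟨u, Subgroup.mem_zpowers u⟩ _ this
  have hLc : Nat.card L = p := by rw [Nat.card_zpowers, orderOf_eq_prime (hexpW l) (Ne.symm hl1)]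
  by_cases hk1 : k = 1
  · have e : L = ⊤ := Subgroup.eq_top_of_card_eq _ (by rw [hLc, hk, hk1, pow_one])
    rw [e]; trivial
  have hmap : ∀ t : Subgroup.zpowers u, L.map ((t : MulAut W).toMonoidHom) = L := fun t => by
    refine Subgroup.eq_of_le_of_card_ge ?_ (by rw [Subgroup.card_map_of_injective (MulEquiv.injective _)])
    rintro _ ⟨x, hx, rfl⟩
    show (t : MulAut W) x ∈ L
    rwa [hfix t x hx]
  let f : Subgroup.zpowers u →* MulAut (W ⧸ L) := MonoidHom.mk'
    (fun t => QuotientGroup.congr L L (t : MulAut W) (hmap t)) fun s t => by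
      refine MulEquiv.ext fun w => ?_
      induction w using QuotientGroup.induction_on
      rfl
  have hQ : Nat.card (W ⧸ L) = p := by
    have h := L.card_eq_card_quotient_mul_card_subgroup
    rw [hk, hLc, show k = 2 by omega, sq] at h
    exact Nat.eq_of_mul_eq_mul_right hp.out.pos h.symm
  have h := DFunLike.congr_fun (fixed_of_card_prime hQ hu f ⟨u, Subgroup.mem_zpowers u⟩)
    (QuotientGroup.mk v)
  rw [← QuotientGroup.eq_one_iff, QuotientGroup.mk_mul, QuotientGroup.mk_inv, mul_inv_eq_one]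
  exact h

variable (hp2 : p ≠ 2) {X : Type*} [Group X] [Finite X] (ρ : X →* MulAut V)
  (hρ : Function.Injective ρ) {M : Subgroup X} (hM : IsStronglyPEmbedded p M)
  {u : X} (hu : IsPGroup p (Subgroup.zpowers u)) (hu1 : u ≠ 1) (huM : u ∈ M)

include hM hu hu1 huM in
theorem normal_eq_bot {K : Subgroup X} [K.Normal] (hK : IsPGroup p K) : K = ⊥ := by
  by_contra hne
  have h : K ⊔ Subgroup.zpowers u ≤ M := le_of_inf_ne_bot hM (hK.to_sup_of_normal_left hu) fun h0 =>
    hu1 (by
      have : u ∈ (K ⊔ Subgroup.zpowers u) ⊓ M :=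
        ⟨Subgroup.mem_sup_right (Subgroup.mem_zpowers u), huM⟩
      rwa [h0, Subgroup.mem_bot] at this)
  have := StronglyPEmbedded.normalizer_le_of_spe hM hK hne (le_sup_left.trans h)
  rw [Subgroup.normalizer_eq_top] at this
  exact hM.2.1 (eq_top_iff.2 this)

include hexp hp2 hρ hM hu hu1 huM in
theorem exists_conj_notMem (L P : Subgroup V) : ∃ g : X, ρ (g * u * g⁻¹) ∉ flagStab L P := by
  by_contra h
  push Not at h
  have hle : Subgroup.normalClosure ({u} : Set X) ≤ (flagStab L P).comap ρ := by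
    refine (Subgroup.closure_le _).2 fun x hx => ?_
    obtain ⟨y, hy, hc⟩ := Group.mem_conjugatesOfSet_iff.1 hx
    obtain ⟨g, rfl⟩ := isConj_iff.1 hc
    rw [Set.mem_singleton_iff.1 hy]
    exact h g
  have hb := normal_eq_bot hM hu hu1 huM
    (((isPGroup_flagStab hp2 hexp L P).comap_of_injective ρ hρ).to_le hle)
  have := Subgroup.subset_normalClosure (Set.mem_singleton u)
  rw [hb] at this
  exact hu1 this

include hexp hp2 hρ hM hu hu1 huM in
/-- The frame of a quadratic element. -/
theorem exists_frame (hV : Nat.card V = p ^ 3)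
    (hquad : ∀ v, ρ u (ρ u v * v⁻¹) = ρ u v * v⁻¹) :
    ∃ (e f z : V) (U₁ U₂ : X), U₁ ∈ Subgroup.zpowers u ∧
      ρ U₁ e = e ∧ ρ U₁ f = f * e ∧ ρ U₁ z = z ∧
      ρ U₂ e = e * f⁻¹ ∧ ρ U₂ f = f ∧ ρ U₂ z = z ∧
      e ≠ 1 ∧ z ∉ Subgroup.zpowers e ∧ f ∉ (moveHom (ρ u)).ker ∧
      (moveHom (ρ u)).ker = Subgroup.zpowers e ⊔ Subgroup.zpowers z ∧
      (moveHom (ρ u)).range = Subgroup.zpowers e ∧ Nat.card (moveHom (ρ u)).ker = p ^ 2 := by
  set d := moveHom (ρ u) with hd
  have hle : d.range ≤ d.ker := by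
    rintro _ ⟨v, rfl⟩
    exact mem_ker_moveHom.2 (hquad v)
  have hcard := d.ker.card_eq_card_quotient_mul_card_subgroup
  rw [Nat.card_congr (QuotientGroup.quotientKerEquivRange d).toEquiv, hV] at hcard
  obtain ⟨i, hi3, hi⟩ := (Nat.dvd_prime_pow hp.out).1 (hV ▸ Subgroup.card_subgroup_dvd_card d.ker)
  obtain ⟨j, hj3, hj⟩ := (Nat.dvd_prime_pow hp.out).1 (hV ▸ Subgroup.card_subgroup_dvd_card d.range)
  rw [hi, hj, ← pow_add] at hcard
  have hij : j ≤ i := by
    have h := Subgroup.card_le_of_le hle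
    rw [hi, hj] at h
    exact (Nat.pow_le_pow_iff_right hp.out.one_lt).1 h
  have hj0 : j ≠ 0 := fun h => hu1 (hρ (MulEquiv.ext fun v => by
    rw [h, pow_zero, Subgroup.card_eq_one] at hj
    have : d v ∈ d.range := ⟨v, rfl⟩
    rw [hj, Subgroup.mem_bot, hd, moveHom_apply, mul_inv_eq_one] at this
    rw [this, map_one]; rfl))
  have hsum := Nat.pow_right_injective hp.out.two_le hcard
  obtain rfl : j = 1 := by omega
  obtain rfl : i = 2 := by omega
  rw [pow_one] at hj
  set L := d.range with hLdef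
  set P := d.ker with hPdef
  have htrans : IsTrans (ρ u) L P := ⟨fun x hx => mem_ker_moveHom.1 hx, fun v => ⟨v, rfl⟩⟩
  obtain ⟨g, -, hg⟩ := SetLike.exists_of_lt (lt_top_iff_ne_top.2 hM.2.1)
  set u' := g * u * g⁻¹ with hu'
  set L' := L.map (ρ g).toMonoidHom
  set P' := P.map (ρ g).toMonoidHom
  have htr' : IsTrans (ρ u') L' P' := by
    rw [hu', map_mul, map_mul, map_inv]; exact htrans.conj _
  have hLP : ¬ L' ≤ P := not_le_axis hp2 hexp ρ hρ hM htrans htr' hle (Subgroup.map_mono hle) hu1
    huM fun h => hg (mem_of_conj_mem hM hu hu1 huM h)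
  have hLP' : ¬ L ≤ P' := by
    have hg' : g⁻¹ ∉ M := fun h => hg (by simpa using M.inv_mem h)
    have htr'' := htrans.conj (ρ g⁻¹)
    rw [← map_inv, ← map_mul, ← map_mul] at htr''
    intro h
    refine not_le_axis hp2 hexp ρ hρ hM htrans htr'' hle (Subgroup.map_mono hle) hu1 huM
      (fun h' => hg' (mem_of_conj_mem hM hu hu1 huM h')) ?_
    rintro _ ⟨x, hx, rfl⟩
    obtain ⟨y, hy, hyx⟩ := h hx
    rw [← hyx]
    simpa using hy
  have hL' : Nat.card L' = p := by
    rw [Subgroup.card_map_of_injective (MulEquiv.injective _), hj]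
  obtain ⟨e, heL, heP'⟩ := SetLike.not_le_iff_exists.1 hLP'
  have he1 : e ≠ 1 := fun h => heP' (h ▸ P'.one_mem)
  have heP : e ∈ P := hle heL
  set f := ρ u' e * e⁻¹ with hfdef
  have hfL : f ∈ L' := htr'.2 e
  have hf1 : f ≠ 1 := fun h => heP' (by
    obtain ⟨y, rfl⟩ : ∃ y, ρ g y = e := ⟨(ρ g).symm e, by simp⟩
    refine ⟨y, mem_ker_moveHom.2 ?_, rfl⟩
    have h2 : ρ u' (ρ g y) = ρ g y := mul_inv_eq_one.1 h
    rw [hu', map_mul, map_mul, MulAut.mul_apply, MulAut.mul_apply, map_inv] at h2
    simpa using h2)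
  have hfP : f ∉ P := fun h => hLP (by rw [← zpowers_eq_of_card hL' hfL hf1]; exact Subgroup.zpowers_le.2 h)
  have hff : ρ u' f = f := htr'.1 f (Subgroup.map_mono hle hfL)
  obtain ⟨a, ha⟩ := eq_pow_val (p := p) (hexp e)
    (show d f ∈ Subgroup.zpowers e by rw [zpowers_eq_of_card hj heL he1]; exact ⟨f, rfl⟩)
  have ha0 : a ≠ 0 := fun h => hfP (by
    rw [h, ZMod.val_zero, pow_zero] at ha
    exact MonoidHom.mem_ker.2 ha)
  -- a common fixed element
  obtain ⟨z, ⟨hzP, hzP'⟩, hz1⟩ : ∃ z, z ∈ P ⊓ P' ∧ z ≠ 1 := by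
    by_contra h
    push Not at h
    have hinj : Function.Injective (fun q : P × P' => (q.1 : V) * (q.2 : V)) := by
      rintro ⟨⟨a, ha⟩, ⟨b, hb⟩⟩ ⟨⟨c, hc⟩, ⟨d', hd'⟩⟩ hq
      simp only at hq
      have e : a / c = d' / b := by rw [div_eq_div_iff_mul_eq_mul, hq, mul_comm]
      have h1 : a / c = 1 := h _ ⟨P.div_mem ha hc, e ▸ Subgroup.div_mem _ hd' hb⟩
      obtain rfl := div_eq_one.1 h1
      obtain rfl : b = d' := mul_left_cancel hq
      rfl
    have := Nat.card_le_card_of_injective _ hinj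
    rw [Nat.card_prod, Subgroup.card_map_of_injective (MulEquiv.injective _), hi, hV] at this
    nlinarith [pow_pos hp.out.pos 3, hp.out.two_le]
  have hze : z ∉ Subgroup.zpowers e := fun h => hLP' (by
    have hzL : z ∈ L := zpowers_eq_of_card hj heL he1 ▸ h
    rw [← zpowers_eq_of_card hj hzL hz1]
    exact Subgroup.zpowers_le.2 hzP')
  refine ⟨e, f, z, u ^ a⁻¹.val, u' ^ (p - 1), pow_mem (Subgroup.mem_zpowers u) _, ?_, ?_, ?_, ?_,
    ?_, ?_, he1, hze, hfP, ?_, (zpowers_eq_of_card hj heL he1).symm, hi⟩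
  · rw [map_pow]
    exact (pow_apply_of_shift (ρ u) (map_one _) (show ρ u e = e * 1 by rw [mul_one, htrans.1 e heP]) _).1.trans
      (by simp)
  · rw [map_pow]
    have h0 : ρ u f = f * e ^ a.val := by
      rw [← ha, hd, moveHom_apply, mul_left_comm, mul_inv_cancel, mul_one]
    rw [(pow_apply_of_shift (ρ u) (show ρ u (e ^ a.val) = e ^ a.val by
      rw [map_pow, htrans.1 e heP]) h0 _).1, ← pow_mul, pow_val_eq (hexp e) (k := (1 : ZMod p))]
    · rw [ZMod.val_one, pow_one]
    · simp [ha0]
  · rw [map_pow]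
    exact (pow_apply_of_shift (ρ u) (map_one _) (show ρ u z = z * 1 by rw [mul_one, htrans.1 z hzP]) _).1.trans
      (by simp)
  · rw [map_pow]
    have h0 : ρ u' e = e * f := by rw [hfdef, mul_left_comm, mul_inv_cancel, mul_one]
    rw [(pow_apply_of_shift (ρ u') hff h0 _).1, ← eq_inv_of_mul_eq_one_left
      (show f ^ (p - 1) * f = 1 by
        rw [← pow_succ, Nat.sub_add_cancel hp.out.one_le, hexp])]
  · rw [map_pow]
    exact (pow_apply_of_shift (ρ u') (map_one _) (show ρ u' f = f * 1 by rw [mul_one, hff]) _).1.trans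
      (by simp)
  · rw [map_pow]
    exact (pow_apply_of_shift (ρ u') (map_one _) (show ρ u' z = z * 1 by rw [mul_one, htr'.1 z hzP']) _).1.trans
      (by simp)
  · refine (Subgroup.eq_of_le_of_card_ge (sup_le (Subgroup.zpowers_le.2 heP)
      (Subgroup.zpowers_le.2 hzP)) ?_).symm
    rw [hi]
    have hd1 := Subgroup.card_dvd_of_le
      (sup_le (Subgroup.zpowers_le.2 heP) (Subgroup.zpowers_le.2 hzP))
    rw [hi] at hd1
    obtain ⟨k, -, hk⟩ := (Nat.dvd_prime_pow hp.out).1 hd1
    rw [hk]
    refine Nat.pow_le_pow_right hp.out.pos ?_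
    by_contra hk2
    refine hze ?_
    rw [Subgroup.eq_of_le_of_card_ge (le_sup_left : Subgroup.zpowers e ≤ _ ⊔ Subgroup.zpowers z) (by
      rw [hk, card_zpowers_eq hexp he1]
      exact (Nat.pow_le_pow_right hp.out.pos (by omega : k ≤ 1)).trans (pow_one p).le)]
    exact Subgroup.mem_sup_right (Subgroup.mem_zpowers z)

include hexp hp2 hρ hM hu hu1 huM in
/-- Without quadratic action there is no invariant subgroup. -/
theorem irreducible (hV : Nat.card V = p ^ 3)
    (hnq : ¬ ∀ v, ρ u (ρ u v * v⁻¹) = ρ u v * v⁻¹) (U : Subgroup V)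
    (hU : ∀ g : X, ∀ x ∈ U, ρ g x ∈ U) : U = ⊥ ∨ U = ⊤ := by
  by_contra hne
  push Not at hne
  have hupow : ∀ g : X, IsPGroup p (Subgroup.zpowers (g * u * g⁻¹)) := fun g => by
    have e : Subgroup.zpowers (g * u * g⁻¹) = (Subgroup.zpowers u).map (MulAut.conj g).toMonoidHom := by
      rw [MonoidHom.map_zpowers]; rfl
    rw [e]; exact hu.map _
  haveI : Finite (MulAut V) := Finite.of_injective (fun a : MulAut V => (a : V → V))
    fun _ _ h => MulEquiv.ext (congrFun h)
  obtain ⟨k, hk3, hk⟩ := (Nat.dvd_prime_pow hp.out).1 (hV ▸ Subgroup.card_subgroup_dvd_card U)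
  have hk0 : k ≠ 0 := fun h => hne.1 (Subgroup.card_eq_one.1 (by rw [hk, h, pow_zero]))
  have hk3' : k ≠ 3 := fun h => hne.2 (Subgroup.eq_top_of_card_eq _ (by rw [hk, h, hV]))
  have hmap : ∀ g : X, U.map (ρ g).toMonoidHom = U := fun g => Subgroup.eq_of_le_of_card_ge
    (by rintro _ ⟨x, hx, rfl⟩; exact hU g x hx)
    (by rw [Subgroup.card_map_of_injective (MulEquiv.injective _)])
  let rU : X →* MulAut U := MonoidHom.mk'
    (fun g => { toFun := fun x => ⟨ρ g x, hU g x x.2⟩
                invFun := fun x => ⟨(ρ g).symm x, by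
                  have := hU g⁻¹ x x.2
                  rw [map_inv] at this
                  exact this⟩
                left_inv := fun x => Subtype.ext (by simp)
                right_inv := fun x => Subtype.ext (by simp)
                map_mul' := fun x y => Subtype.ext (by simp) })
    fun g h => MulEquiv.ext fun x => Subtype.ext
      (show ρ (g * h) (x : V) = ρ g (ρ h x) by rw [map_mul]; rfl)
  let rQ : X →* MulAut (V ⧸ U) := MonoidHom.mk'
    (fun g => QuotientGroup.congr U U (ρ g) (hmap g)) fun g h => MulEquiv.ext fun w => by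
      induction w using QuotientGroup.induction_on with
      | H v => exact congrArg QuotientGroup.mk (show ρ (g * h) v = ρ g (ρ h v) by rw [map_mul]; rfl)
  have hfixU : ∀ g : X, rU g = 1 → ∀ v ∈ U, ρ g v = v := fun g hg v hv => by
    have h := congrArg Subtype.val (DFunLike.congr_fun hg (⟨v, hv⟩ : U))
    exact h
  -- an element acting trivially on `U` and `V ⧸ U` is trivial
  have hker : ∀ x : X, rU x = 1 → rQ x = 1 → x = 1 := by
    intro x h1 h2
    have : x ∈ rU.ker ⊓ rQ.ker := ⟨h1, h2⟩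
    rwa [normal_eq_bot hM hu hu1 huM (K := rU.ker ⊓ rQ.ker) (p := p) ?_, Subgroup.mem_bot] at this
    refine ((isPGroup_flagStab hp2 hexp U U).comap_of_injective ρ hρ).to_le fun y hy => ?_
    refine mem_flagStab le_rfl
      (hfixU y (MonoidHom.mem_ker.1 hy.1))
      (fun v hv => ?_) fun v => ?_
    · rw [hfixU y (MonoidHom.mem_ker.1 hy.1) v hv, mul_inv_cancel]
      exact U.one_mem
    · rw [← QuotientGroup.eq_one_iff, QuotientGroup.mk_mul, QuotientGroup.mk_inv, mul_inv_eq_one]
      exact DFunLike.congr_fun (MonoidHom.mem_ker.1 hy.2) (QuotientGroup.mk v)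
  -- a central involution which is neither `1` nor inversion
  obtain ⟨c, hcc, hc2, hcne⟩ : ∃ c : X, c * u = u * c ∧ c * c = 1 ∧
      (∃ v, ρ c v ≠ v) ∧ ∃ v, ρ c v ≠ v⁻¹ := by
    have h2p : ∀ v : V, v⁻¹ = v → v = 1 := fun v hv =>
      eq_one_of_pow_eq_one (hexp v) (n := 2) (by rw [sq]; nth_rewrite 1 [← hv]; exact inv_mul_cancel v)
        fun h => hp2 ((Nat.prime_dvd_prime_iff_eq hp.out Nat.prime_two).1 h)
    have h2p' : ∀ (W : Type _) [CommGroup W] (v : W), v ^ p = 1 → v⁻¹ = v → v = 1 := fun W _ v hv' hv =>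
      eq_one_of_pow_eq_one hv' (n := 2) (by rw [sq]; nth_rewrite 1 [← hv]; exact inv_mul_cancel v)
        fun h => hp2 ((Nat.prime_dvd_prime_iff_eq hp.out Nat.prime_two).1 h)
    -- one of the two layers has order `p ^ 2`
    rcases (show k = 1 ∨ k = 2 by omega) with rfl | rfl
    · -- `U` is a line
      rw [pow_one] at hk
      have hUfix : ∀ g : X, rU (g * u * g⁻¹) = 1 := fun g =>
        fixed_of_card_prime hk (hupow g) (rU.comp (Subgroup.zpowers _).subtype)
          ⟨_, Subgroup.mem_zpowers _⟩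
      have hQ : Nat.card (V ⧸ U) = p ^ 2 := by
        have h := U.card_eq_card_quotient_mul_card_subgroup
        rw [hV, hk, pow_succ] at h
        exact Nat.eq_of_mul_eq_mul_right hp.out.pos h.symm
      have hexpQ : ∀ w : V ⧸ U, w ^ p = 1 := fun w => by
        induction w using QuotientGroup.induction_on
        rw [← QuotientGroup.mk_pow, hexp]; rfl
      set d := moveHom (rQ u)
      have hd : ∀ w, d w = rQ u w * w⁻¹ := fun _ => rfl
      have hqu : d.range ≤ d.ker := by
        rintro _ ⟨w, rfl⟩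
        exact mem_ker_moveHom.2 (quad_of_card_dvd_sq (p := p) hQ.dvd hexpQ
          (by rw [← MonoidHom.map_zpowers]; exact hu.map _) w)
      have hdne : d.ker ≠ ⊤ := fun h => hu1 (hker u (by simpa using hUfix 1)
        (MulEquiv.ext fun w => mem_ker_moveHom.1 (h ▸ Subgroup.mem_top w)))
      set P := d.ker.comap (QuotientGroup.mk' U) with hP
      have hUP : U ≤ P := fun x hx => by
        show QuotientGroup.mk' U x ∈ d.ker
        rw [show QuotientGroup.mk' U x = 1 from (QuotientGroup.eq_one_iff x).2 hx]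
        exact one_mem _
      obtain ⟨g, hg⟩ := exists_conj_notMem hexp hp2 ρ hρ hM hu hu1 huM U P
      obtain ⟨e, heK, heg⟩ : ∃ e ∈ d.ker, rQ (g * u * g⁻¹) e ≠ e := by
        by_contra h
        push Not at h
        refine hg (mem_flagStab hUP (hfixU _ (hUfix g)) (fun x hx => ?_) fun v => ?_)
        · rw [← QuotientGroup.eq_one_iff, QuotientGroup.mk_mul, QuotientGroup.mk_inv, mul_inv_eq_one]
          exact h _ hx
        · -- `u'` fixes `d.ker`, so moves everything into it
          show QuotientGroup.mk' U (ρ (g * u * g⁻¹) v * v⁻¹) ∈ d.ker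
          set d' := moveHom (rQ (g * u * g⁻¹)) with hd'
          have hq' : d'.range ≤ d'.ker := by
            rintro _ ⟨w, rfl⟩
            exact mem_ker_moveHom.2 (quad_of_card_dvd_sq (p := p) hQ.dvd hexpQ
              (by rw [← MonoidHom.map_zpowers]; exact (hupow g).map _) w)
          by_cases htop : d'.ker = ⊤
          · have : rQ (g * u * g⁻¹) (QuotientGroup.mk v) = QuotientGroup.mk v :=
              mem_ker_moveHom.1 (htop ▸ Subgroup.mem_top _)
            rw [map_mul, map_inv, show QuotientGroup.mk' U (ρ (g * u * g⁻¹) v) = QuotientGroup.mk' U v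
              from this, mul_inv_cancel]
            exact one_mem _
          · have hle' : d.ker ≤ d'.ker := fun w hw => mem_ker_moveHom.2 (by
              induction w using QuotientGroup.induction_on
              exact h _ hw)
            have e1 : d.ker = d'.ker := by
              refine Subgroup.eq_of_le_of_card_ge hle' ?_
              obtain ⟨i, hi, hic⟩ := (Nat.dvd_prime_pow hp.out).1 (hQ ▸ Subgroup.card_subgroup_dvd_card d'.ker)
              obtain ⟨i', hi', hic'⟩ := (Nat.dvd_prime_pow hp.out).1 (hQ ▸ Subgroup.card_subgroup_dvd_card d.ker)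
              have hi1 : i ≤ 1 := by
                by_contra hi1
                exact htop (Subgroup.eq_top_of_card_eq _ (by rw [hic, hQ, show i = 2 by omega]))
              have hi'1 : 1 ≤ i' := by
                by_contra hi0
                have hb : d.ker = ⊥ := Subgroup.card_eq_one.1 (by rw [hic', show i' = 0 by omega, pow_zero])
                rw [hb] at hqu
                refine hdne (eq_top_iff.2 fun w _ => MonoidHom.mem_ker.2 ?_)
                exact Subgroup.mem_bot.1 (hqu ⟨w, rfl⟩)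
              rw [hic, hic']
              exact Nat.pow_le_pow_right hp.out.pos (by omega)
            rw [e1]
            exact hq' ⟨QuotientGroup.mk v, rfl⟩
      set u' := g * u * g⁻¹ with hu'
      set f := rQ u' e * e⁻¹ with hfdef
      have hff : rQ u' f = f := quad_of_card_dvd_sq (p := p) hQ.dvd hexpQ
        (by rw [← MonoidHom.map_zpowers]; exact (hupow g).map _) e
      have hf1 : f ≠ 1 := fun h => heg (mul_inv_eq_one.1 h)
      have hKe : Subgroup.zpowers e = d.ker := by
        obtain ⟨i', hi', hic'⟩ := (Nat.dvd_prime_pow hp.out).1 (hQ ▸ Subgroup.card_subgroup_dvd_card d.ker)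
        refine Subgroup.eq_of_le_of_card_ge (Subgroup.zpowers_le.2 heK) ?_
        rw [card_zpowers_eq hexpQ (fun h => heg (by rw [h, map_one])), hic']
        refine (Nat.pow_le_pow_right hp.out.pos (?_ : i' ≤ 1)).trans (pow_one p).le
        by_contra hi1
        exact hdne (Subgroup.eq_top_of_card_eq _ (by rw [hic', hQ, show i' = 2 by omega]))
      obtain ⟨a, ha⟩ := eq_pow_val (p := p) (hexpQ e)
        (show d f ∈ Subgroup.zpowers e by rw [hKe]; exact hqu ⟨f, rfl⟩)
      have ha0 : a ≠ 0 := fun h => heg (by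
        rw [h, ZMod.val_zero, pow_zero] at ha
        have : f ∈ Subgroup.zpowers e := hKe ▸ MonoidHom.mem_ker.2 ha
        have hz := zpowers_eq_of_card (card_zpowers_eq hexpQ fun h => heg (by rw [h, map_one])) this hf1
        have : e ∈ Subgroup.zpowers f := hz ▸ Subgroup.mem_zpowers e
        obtain ⟨i, hi⟩ := Subgroup.mem_zpowers_iff.1 this
        rw [show rQ u' e = rQ u' (f ^ i) by rw [hi], map_zpow, hff, hi])
      have h1e : rQ (u ^ a⁻¹.val) e = e := by
        rw [map_pow]
        exact (pow_apply_of_shift (rQ u) (map_one _)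
          (show rQ u e = e * 1 by rw [mul_one, mem_ker_moveHom.1 heK]) _).1.trans (by simp)
      have h1f : rQ (u ^ a⁻¹.val) f = f * e := by
        rw [map_pow]
        have h0 : rQ u f = f * e ^ a.val := by
          rw [← ha, hd, mul_left_comm, mul_inv_cancel, mul_one]
        rw [(pow_apply_of_shift (rQ u) (show rQ u (e ^ a.val) = e ^ a.val by
          rw [map_pow, mem_ker_moveHom.1 heK]) h0 _).1, ← pow_mul,
          pow_val_eq (hexpQ e) (k := (1 : ZMod p))]
        · rw [ZMod.val_one, pow_one]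
        · simp [ha0]
      have h2e : rQ (u' ^ (p - 1)) e = e * f⁻¹ := by
        rw [map_pow]
        have h0 : rQ u' e = e * f := by rw [hfdef, mul_left_comm, mul_inv_cancel, mul_one]
        rw [(pow_apply_of_shift (rQ u') hff h0 _).1, ← eq_inv_of_mul_eq_one_left
          (show f ^ (p - 1) * f = 1 by rw [← pow_succ, Nat.sub_add_cancel hp.out.one_le, hexpQ])]
      have h2f : rQ (u' ^ (p - 1)) f = f := by
        rw [map_pow]
        exact (pow_apply_of_shift (rQ u') (map_one _) (show rQ u' f = f * 1 by rw [mul_one, hff]) _).1.trans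
          (by simp)
      obtain ⟨c, hc, hce, hcf, -⟩ := exists_torus rQ (hexpQ e) (hexpQ f) h1e h1f h2f h2e
        (α := (-1 : ZMod p)) (neg_ne_zero.2 one_ne_zero)
      have hcU : rU c = 1 := by
        refine (show Subgroup.closure _ ≤ rU.ker from (Subgroup.closure_le _).2 ?_) hc
        rintro x (rfl | rfl)
        · show rU _ = 1
          rw [map_pow, show rU u = 1 by simpa using hUfix 1, one_pow]
        · show rU _ = 1
          rw [map_pow, hUfix g, one_pow]
      have hinv : ∀ w, rQ c w = w⁻¹ := by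
        have hm : ∀ w : V ⧸ U, w ^ p = 1 → w ^ (-1 : ZMod p).val = w⁻¹ := fun w hw => by
          refine eq_inv_of_mul_eq_one_left ?_
          rw [← pow_succ, pow_val_eq hw (k := (0 : ZMod p)), ZMod.val_zero, pow_zero]
          simp
        have hgen : Subgroup.zpowers e ⊔ Subgroup.zpowers f = ⊤ := by
          have hd1 := Subgroup.card_subgroup_dvd_card (Subgroup.zpowers e ⊔ Subgroup.zpowers f)
          rw [hQ] at hd1
          obtain ⟨i, hi2, hi⟩ := (Nat.dvd_prime_pow hp.out).1 hd1
          refine Subgroup.eq_top_of_card_eq _ ?_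
          rw [hi, hQ]
          congr 1
          by_contra hi2'
          have he := Subgroup.eq_of_le_of_card_ge
            (le_sup_left : Subgroup.zpowers e ≤ _ ⊔ Subgroup.zpowers f) (by
              rw [hi, card_zpowers_eq hexpQ (fun h => heg (by rw [h, map_one]))]
              exact (Nat.pow_le_pow_right hp.out.pos (by omega : i ≤ 1)).trans (pow_one p).le)
          have hfe : f ∈ d.ker := hKe ▸ he ▸ Subgroup.mem_sup_right (Subgroup.mem_zpowers f)
          rw [MonoidHom.mem_ker, ha] at hfe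
          refine ha0 ?_
          have := orderOf_dvd_of_pow_eq_one hfe
          rw [orderOf_eq_prime (hexpQ e) (fun h => heg (by rw [h, map_one]))] at this
          rw [← ZMod.natCast_zmod_val a]
          exact (ZMod.natCast_eq_zero_iff _ _).2 this
        intro w
        obtain ⟨x, hx, y, hy, rfl⟩ := Subgroup.mem_sup.1 (hgen ▸ Subgroup.mem_top w)
        obtain ⟨i, rfl⟩ := Subgroup.mem_zpowers_iff.1 hx
        obtain ⟨j, rfl⟩ := Subgroup.mem_zpowers_iff.1 hy
        rw [map_mul, map_zpow, map_zpow, hce, hcf, show ((-1 : ZMod p)⁻¹) = -1 by rw [inv_neg, inv_one],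
          hm e (hexpQ e), hm f (hexpQ f), inv_zpow, inv_zpow]
        exact (mul_inv _ _).symm
      have hcu : c * u = u * c := by
        refine mul_inv_eq_one.1 (hker _ ?_ ?_)
        · rw [map_mul, map_mul, map_inv, map_mul, hcU, show rU u = 1 by simpa using hUfix 1]; simp
        · refine MulEquiv.ext fun w => ?_
          rw [show c * u * (u * c)⁻¹ = c * u * c⁻¹ * u⁻¹ by group, map_mul, map_mul, map_mul, map_inv,
            map_inv]
          simp only [MulAut.mul_apply, MulAut.one_apply]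
          rw [show (rQ c)⁻¹ ((rQ u)⁻¹ w) = ((rQ u)⁻¹ w)⁻¹ by
            refine (rQ c).injective ?_
            rw [MulAut.apply_inv_self, hinv, inv_inv], map_inv, hinv, inv_inv]
          simp
      refine ⟨c, hcu, hker _ (by rw [map_mul, hcU, one_mul]) (MulEquiv.ext fun w => by
        rw [map_mul, MulAut.mul_apply, hinv, hinv, inv_inv]; rfl), ?_, ?_⟩
      · by_contra h
        push Not at h
        refine heg ?_
        have he1 : e = 1 := h2p' _ e (hexpQ e) ((hinv e).symm.trans (by
          induction e using QuotientGroup.induction_on with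
          | H v => exact congrArg (QuotientGroup.mk : V → V ⧸ U) (h v)))
        rw [he1, map_one]
      · by_contra h
        push Not at h
        refine hne.1 ((Subgroup.eq_bot_iff_forall U).2 fun x hx => h2p x ?_)
        rw [← h x]
        exact congrArg Subtype.val (DFunLike.congr_fun hcU ⟨x, hx⟩)
    · -- `U` is a plane
      have hQ : Nat.card (V ⧸ U) = p := by
        have h := U.card_eq_card_quotient_mul_card_subgroup
        rw [hV, hk, pow_succ'] at h
        exact Nat.eq_of_mul_eq_mul_right (pow_pos hp.out.pos 2) h.symm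
      have hQfix : ∀ g : X, rQ (g * u * g⁻¹) = 1 := fun g =>
        fixed_of_card_prime hQ (hupow g) (rQ.comp (Subgroup.zpowers _).subtype)
          ⟨_, Subgroup.mem_zpowers _⟩
      have hexpU : ∀ w : U, w ^ p = 1 := fun w => Subtype.ext (by simp [hexp])
      set d := moveHom (rU u)
      have hqu : d.range ≤ d.ker := by
        rintro _ ⟨w, rfl⟩
        exact mem_ker_moveHom.2 (quad_of_card_dvd_sq (p := p) hk.dvd hexpU
          (by rw [← MonoidHom.map_zpowers]; exact hu.map _) w)
      have hdne : d.ker ≠ ⊤ := fun h => hu1 (hker u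
        (MulEquiv.ext fun w => mem_ker_moveHom.1 (h ▸ Subgroup.mem_top w)) (by simpa using hQfix 1))
      set L := d.ker.map U.subtype with hL
      have hLU : L ≤ U := Subgroup.map_subtype_le _
      obtain ⟨g, hg⟩ := exists_conj_notMem hexp hp2 ρ hρ hM hu hu1 huM L U
      set u' := g * u * g⁻¹ with hu'
      obtain ⟨e, heK, heg⟩ : ∃ e ∈ d.ker, rU u' e ≠ e := by
        by_contra h
        push Not at h
        refine hg (mem_flagStab hLU ?_ (fun x hx => ?_) fun v => ?_)
        · rintro _ ⟨w, hw, rfl⟩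
          exact congrArg Subtype.val (h w hw)
        · set d' := moveHom (rU u') with hd'
          have hq' : d'.range ≤ d'.ker := by
            rintro _ ⟨w, rfl⟩
            exact mem_ker_moveHom.2 (quad_of_card_dvd_sq (p := p) hk.dvd hexpU
              (by rw [← MonoidHom.map_zpowers]; exact (hupow g).map _) w)
          refine ⟨rU u' ⟨x, hx⟩ * ⟨x, hx⟩⁻¹, ?_, rfl⟩
          by_cases htop : d'.ker = ⊤
          · rw [mem_ker_moveHom.1 (htop ▸ Subgroup.mem_top (⟨x, hx⟩ : U)), mul_inv_cancel]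
            exact one_mem _
          · have hle' : d.ker ≤ d'.ker := fun w hw => mem_ker_moveHom.2 (h w hw)
            have e1 : d.ker = d'.ker := by
              refine Subgroup.eq_of_le_of_card_ge hle' ?_
              obtain ⟨i, hi, hic⟩ := (Nat.dvd_prime_pow hp.out).1 (hk ▸ Subgroup.card_subgroup_dvd_card d'.ker)
              obtain ⟨i', hi', hic'⟩ := (Nat.dvd_prime_pow hp.out).1 (hk ▸ Subgroup.card_subgroup_dvd_card d.ker)
              have hi1 : i ≤ 1 := by
                by_contra hi1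
                exact htop (Subgroup.eq_top_of_card_eq _ (by rw [hic, hk, show i = 2 by omega]))
              have hi'1 : 1 ≤ i' := by
                by_contra hi0
                have hb : d.ker = ⊥ := Subgroup.card_eq_one.1 (by rw [hic', show i' = 0 by omega, pow_zero])
                rw [hb] at hqu
                refine hdne (eq_top_iff.2 fun w _ => MonoidHom.mem_ker.2 ?_)
                exact Subgroup.mem_bot.1 (hqu ⟨w, rfl⟩)
              rw [hic, hic']
              exact Nat.pow_le_pow_right hp.out.pos (by omega)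
            rw [e1]
            exact hq' ⟨_, rfl⟩
        · rw [← QuotientGroup.eq_one_iff, QuotientGroup.mk_mul, QuotientGroup.mk_inv, mul_inv_eq_one]
          exact DFunLike.congr_fun (hQfix g) (QuotientGroup.mk v)
      set f := rU u' e * e⁻¹ with hfdef
      have hff : rU u' f = f := quad_of_card_dvd_sq (p := p) hk.dvd hexpU
        (by rw [← MonoidHom.map_zpowers]; exact (hupow g).map _) e
      have hf1 : f ≠ 1 := fun h => heg (mul_inv_eq_one.1 h)
      have he1 : e ≠ 1 := fun h => heg (by rw [h, map_one])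
      have hKe : Subgroup.zpowers e = d.ker := by
        obtain ⟨i', hi', hic'⟩ := (Nat.dvd_prime_pow hp.out).1 (hk ▸ Subgroup.card_subgroup_dvd_card d.ker)
        refine Subgroup.eq_of_le_of_card_ge (Subgroup.zpowers_le.2 heK) ?_
        rw [card_zpowers_eq hexpU he1, hic']
        refine (Nat.pow_le_pow_right hp.out.pos (?_ : i' ≤ 1)).trans (pow_one p).le
        by_contra hi1
        exact hdne (Subgroup.eq_top_of_card_eq _ (by rw [hic', hk, show i' = 2 by omega]))
      obtain ⟨a, ha⟩ := eq_pow_val (p := p) (hexpU e)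
        (show d f ∈ Subgroup.zpowers e by rw [hKe]; exact hqu ⟨f, rfl⟩)
      have hfK : f ∉ Subgroup.zpowers e := fun h => heg (by
        have hz := zpowers_eq_of_card (card_zpowers_eq hexpU he1) h hf1
        obtain ⟨i, hi⟩ := Subgroup.mem_zpowers_iff.1
          (show e ∈ Subgroup.zpowers f by rw [hz]; exact Subgroup.mem_zpowers e)
        rw [show rU u' e = rU u' (f ^ i) by rw [hi], map_zpow, hff, hi])
      have ha0 : a ≠ 0 := fun h => hfK (by
        rw [h, ZMod.val_zero, pow_zero] at ha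
        exact hKe ▸ MonoidHom.mem_ker.2 ha)
      have h1e : rU (u ^ a⁻¹.val) e = e := by
        rw [map_pow]
        exact (pow_apply_of_shift (rU u) (map_one _)
          (show rU u e = e * 1 by rw [mul_one, mem_ker_moveHom.1 heK]) _).1.trans (by simp)
      have h1f : rU (u ^ a⁻¹.val) f = f * e := by
        rw [map_pow]
        have h0 : rU u f = f * e ^ a.val := by
          rw [← ha, moveHom_apply, mul_left_comm, mul_inv_cancel, mul_one]
        rw [(pow_apply_of_shift (rU u) (show rU u (e ^ a.val) = e ^ a.val by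
          rw [map_pow, mem_ker_moveHom.1 heK]) h0 _).1, ← pow_mul,
          pow_val_eq (hexpU e) (k := (1 : ZMod p))]
        · rw [ZMod.val_one, pow_one]
        · simp [ha0]
      have h2e : rU (u' ^ (p - 1)) e = e * f⁻¹ := by
        rw [map_pow]
        have h0 : rU u' e = e * f := by rw [hfdef, mul_left_comm, mul_inv_cancel, mul_one]
        rw [(pow_apply_of_shift (rU u') hff h0 _).1, ← eq_inv_of_mul_eq_one_left
          (show f ^ (p - 1) * f = 1 by rw [← pow_succ, Nat.sub_add_cancel hp.out.one_le, hexpU])]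
      have h2f : rU (u' ^ (p - 1)) f = f := by
        rw [map_pow]
        exact (pow_apply_of_shift (rU u') (map_one _) (show rU u' f = f * 1 by rw [mul_one, hff]) _).1.trans
          (by simp)
      obtain ⟨c, hc, hce, hcf, -⟩ := exists_torus rU (hexpU e) (hexpU f) h1e h1f h2f h2e
        (α := (-1 : ZMod p)) (neg_ne_zero.2 one_ne_zero)
      have hcQ : rQ c = 1 := by
        refine (show Subgroup.closure _ ≤ rQ.ker from (Subgroup.closure_le _).2 ?_) hc
        rintro x (rfl | rfl)
        · show rQ _ = 1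
          rw [map_pow, show rQ u = 1 by simpa using hQfix 1, one_pow]
        · show rQ _ = 1
          rw [map_pow, hQfix g, one_pow]
      have hinv : ∀ w, rU c w = w⁻¹ := by
        have hm : ∀ w : U, w ^ p = 1 → w ^ (-1 : ZMod p).val = w⁻¹ := fun w hw => by
          refine eq_inv_of_mul_eq_one_left ?_
          rw [← pow_succ, pow_val_eq hw (k := (0 : ZMod p)), ZMod.val_zero, pow_zero]
          simp
        have hgen : Subgroup.zpowers e ⊔ Subgroup.zpowers f = ⊤ := by
          have hd1 := Subgroup.card_subgroup_dvd_card (Subgroup.zpowers e ⊔ Subgroup.zpowers f)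
          rw [hk] at hd1
          obtain ⟨i, hi2, hi⟩ := (Nat.dvd_prime_pow hp.out).1 hd1
          refine Subgroup.eq_top_of_card_eq _ ?_
          rw [hi, hk]
          congr 1
          by_contra hi2'
          refine hfK ?_
          rw [Subgroup.eq_of_le_of_card_ge
            (le_sup_left : Subgroup.zpowers e ≤ _ ⊔ Subgroup.zpowers f) (by
              rw [hi, card_zpowers_eq hexpU he1]
              exact (Nat.pow_le_pow_right hp.out.pos (by omega : i ≤ 1)).trans (pow_one p).le)]
          exact Subgroup.mem_sup_right (Subgroup.mem_zpowers f)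
        intro w
        obtain ⟨x, hx, y, hy, rfl⟩ := Subgroup.mem_sup.1 (hgen ▸ Subgroup.mem_top w)
        obtain ⟨i, rfl⟩ := Subgroup.mem_zpowers_iff.1 hx
        obtain ⟨j, rfl⟩ := Subgroup.mem_zpowers_iff.1 hy
        rw [map_mul, map_zpow, map_zpow, hce, hcf, show ((-1 : ZMod p)⁻¹) = -1 by rw [inv_neg, inv_one],
          hm e (hexpU e), hm f (hexpU f), inv_zpow, inv_zpow]
        exact (mul_inv _ _).symm
      have hcu : c * u = u * c := by
        refine mul_inv_eq_one.1 (hker _ ?_ ?_)
        · refine MulEquiv.ext fun w => ?_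
          rw [show c * u * (u * c)⁻¹ = c * u * c⁻¹ * u⁻¹ by group, map_mul, map_mul, map_mul, map_inv,
            map_inv]
          simp only [MulAut.mul_apply, MulAut.one_apply]
          rw [show (rU c)⁻¹ ((rU u)⁻¹ w) = ((rU u)⁻¹ w)⁻¹ by
            refine (rU c).injective ?_
            rw [MulAut.apply_inv_self, hinv, inv_inv], map_inv, hinv, inv_inv]
          simp
        · rw [map_mul, map_mul, map_inv, map_mul, hcQ, show rQ u = 1 by simpa using hQfix 1]; simp
      refine ⟨c, hcu, hker _ (MulEquiv.ext fun w => by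
        rw [map_mul, MulAut.mul_apply, hinv, hinv, inv_inv]; rfl) (by rw [map_mul, hcQ, one_mul]), ?_, ?_⟩
      · by_contra h
        push Not at h
        exact he1 (h2p' _ e (hexpU e) ((hinv e).symm.trans (Subtype.ext (h e))))
      · by_contra h
        push Not at h
        obtain ⟨v, -, hv⟩ := SetLike.exists_of_lt (lt_top_iff_ne_top.2 hne.2)
        refine hv ((QuotientGroup.eq_one_iff v).1 (h2p' _ _ (by rw [← QuotientGroup.mk_pow, hexp]; rfl) ?_))
        have h3 := DFunLike.congr_fun hcQ (QuotientGroup.mk v)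
        rw [MulAut.one_apply] at h3
        rw [← QuotientGroup.mk_inv, ← h v]
        exact h3
  -- the eigenspaces of `c` have order at most `p ^ 2`
  have hcomm : ∀ v, ρ c (ρ u v) = ρ u (ρ c v) := fun v => by
    have := DFunLike.congr_fun (congrArg ρ hcc) v
    rwa [map_mul, map_mul] at this
  have hcc2 : ∀ v, ρ c (ρ c v) = v := fun v => by
    have := DFunLike.congr_fun (congrArg ρ hc2) v
    rwa [map_mul, map_one] at this
  have hquadsub : ∀ (W : Subgroup V), (∀ w ∈ W, ρ u w ∈ W) → W ≠ ⊤ →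
      ∀ w ∈ W, ρ u (ρ u w * w⁻¹) = ρ u w * w⁻¹ := by
    intro W hW hWne w hw
    obtain ⟨i, hi, hic⟩ := (Nat.dvd_prime_pow hp.out).1 (hV ▸ Subgroup.card_subgroup_dvd_card W)
    have hi2 : i ≤ 2 := by
      by_contra h
      exact hWne (Subgroup.eq_top_of_card_eq _ (by rw [hic, hV, show i = 3 by omega]))
    let α : MulAut W := MulEquiv.ofBijective (((ρ u).toMonoidHom.comp W.subtype).codRestrict W
      fun x => hW x x.2) (Finite.injective_iff_bijective.1 fun x y h => Subtype.ext
        ((ρ u).injective (congrArg Subtype.val h)))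
    have hα : IsPGroup p (Subgroup.zpowers α) := by
      obtain ⟨j, hj⟩ := hu ⟨u, Subgroup.mem_zpowers u⟩
      have hj' : u ^ p ^ j = 1 := congrArg Subtype.val hj
      have key : ∀ (n : ℕ) (x : W), ((α ^ n) x : V) = (ρ u ^ n) x := by
        intro n
        induction n with
        | zero => intro x; rfl
        | succ n ih => intro x; rw [pow_succ, pow_succ, MulAut.mul_apply, MulAut.mul_apply, ih]; rfl
      rintro ⟨_, i, rfl⟩
      refine ⟨j, Subtype.ext ?_⟩
      show (α ^ i) ^ (p ^ j) = 1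
      rw [← zpow_natCast, zpow_comm, zpow_natCast, show α ^ p ^ j = 1 from
        MulEquiv.ext fun x => Subtype.ext (by rw [key, ← map_pow, hj', map_one]; rfl), one_zpow]
    exact congrArg Subtype.val (quad_of_card_dvd_sq (p := p) (W := W)
      (hic ▸ pow_dvd_pow p hi2) (fun x => Subtype.ext (by simp [hexp])) hα ⟨w, hw⟩)
  obtain ⟨⟨v1, hv1⟩, v2, hv2⟩ := hcne
  let F : Subgroup V :=
    { carrier := {x | ρ c x = x}
      mul_mem' := fun {x y} (hx : ρ c x = x) (hy : ρ c y = y) => by
        show ρ c (x * y) = x * y; rw [map_mul, hx, hy]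
      one_mem' := map_one _
      inv_mem' := fun {x} (hx : ρ c x = x) => by show ρ c x⁻¹ = x⁻¹; rw [map_inv, hx] }
  let I : Subgroup V :=
    { carrier := {x | ρ c x = x⁻¹}
      mul_mem' := fun {x y} (hx : ρ c x = x⁻¹) (hy : ρ c y = y⁻¹) => by
        show ρ c (x * y) = (x * y)⁻¹; rw [map_mul, hx, hy, mul_inv]
      one_mem' := by show ρ c 1 = 1⁻¹; rw [map_one, inv_one]
      inv_mem' := fun {x} (hx : ρ c x = x⁻¹) => by show ρ c x⁻¹ = x⁻¹⁻¹; rw [map_inv, hx] }
  have hqF := hquadsub F (fun w (hw : ρ c w = w) => by show ρ c _ = _; rw [hcomm, hw])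
    fun h => hv1 (h ▸ Subgroup.mem_top v1 : v1 ∈ F)
  have hqI := hquadsub I (fun w (hw : ρ c w = w⁻¹) => by show ρ c _ = _; rw [hcomm, hw, map_inv])
    fun h => hv2 (h ▸ Subgroup.mem_top v2 : v2 ∈ I)
  refine hnq fun v => ?_
  let q : V →* V := MonoidHom.mk' (fun v => moveHom (ρ u) (moveHom (ρ u) v)) fun x y => by simp
  suffices q v = 1 from mul_inv_eq_one.1 this
  have hF : q (v * ρ c v) = 1 := mul_inv_eq_one.2 (hqF _ (by
    show ρ c _ = _; rw [map_mul, hcc2, mul_comm]))
  have hI : q (v * (ρ c v)⁻¹) = 1 := mul_inv_eq_one.2 (hqI _ (by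
    show ρ c _ = _; rw [map_mul, map_inv, hcc2, mul_inv_rev, inv_inv, mul_comm]))
  refine eq_one_of_pow_eq_one (hexp _) (n := 2) ?_
    fun h => hp2 ((Nat.prime_dvd_prime_iff_eq hp.out Nat.prime_two).1 h)
  rw [← map_pow, show v ^ 2 = v * ρ c v * (v * (ρ c v)⁻¹) by rw [sq]; simp [mul_comm, mul_left_comm],
    map_mul, hF, hI, one_mul]

end CfsgLib.Jordan.RankThree
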