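import Cfsg.Agent.Lib.Jordan.RankThree.CaseOneQuad

/-!
# The layers of the normalizer when the intersections are central
-/

set_option autoImplicit false
set_option linter.style.haveILetI false
set_option linter.unusedSectionVars false

open scoped commutatorElement

namespace CfsgLib.Jordan.RankThree

open Cfsg Cfsg.FusionSystem CfsgLib.Alperin

variable {Ω : Type*} [Group Ω] {S : Subgroup Ω}

/-- The series `Φ < C₁ < C < E` in the normalizer of `E`. -/
structure Layers (p : ℕ) (F : FusionSystem S) (E C1 C : Subgroup Ω) (b f : Ω) : Prop where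
  phiC1 : phi E ≤ C1
  C1C : C1 ≤ C
  CE : C ≤ E
  r1 : (phi E).relIndex C1 = p
  r2 : C1.relIndex C = p
  r3 : C.relIndex E = p
  bN : b ∈ normalizerIn S E
  bE : b ∉ E
  fE : f ∈ E
  fC : f ∉ C
  commC : ∀ n ∈ normalizerIn S E, ∀ x ∈ C, ⁅n, x⁆ ∈ phi E
  commN : ∀ n ∈ normalizerIn S E, ∀ m ∈ normalizerIn S E, ⁅n, m⁆ ∈ C1
  pow : ∀ n ∈ normalizerIn S E, n ^ p ∈ phi E
  bf : ⁅b, f⁆ ∉ phi E
  rangeC : ∀ x ∈ E, ⁅b, x⁆ ∈ C1
  inv : ∀ g, Mover S E g → (∀ x ∈ phi E, g * x * g⁻¹ ∈ phi E) ∧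
    (∀ x ∈ C1, g * x * g⁻¹ ∈ C1) ∧ ∀ x ∈ C, g * x * g⁻¹ ∈ C
  torus : ∀ α : ZMod p, α ≠ 0 → ∃ ψ : MulAut (normalizerIn S E),
    ψ ∈ F.autGroup (normalizerIn S E) ∧
    (∀ x : normalizerIn S E, (x : Ω) ∈ E → ((ψ x : normalizerIn S E) : Ω) ∈ E) ∧
    (∀ x : normalizerIn S E, (x : Ω) ∈ phi E → ((ψ x : normalizerIn S E) : Ω) ∈ phi E) ∧
    (∀ x : normalizerIn S E, (x : Ω) ∈ C1 →
      ((x : Ω) ^ α.val)⁻¹ * (ψ x : normalizerIn S E) ∈ phi E) ∧
    (∀ x : normalizerIn S E, (x : Ω) ∈ C → (x : Ω)⁻¹ * (ψ x : normalizerIn S E) ∈ C1) ∧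
    (∀ x : normalizerIn S E, (x : Ω) = f → (f ^ α⁻¹.val)⁻¹ * (ψ x : normalizerIn S E) ∈ C) ∧
    ∀ m : normalizerIn S E,
      ((ψ m : normalizerIn S E) : Ω) * ((m : Ω) ^ (α ^ 2).val)⁻¹ ∈ E

variable [Finite S] {p : ℕ} [hp : Fact p.Prime] {F : FusionSystem S} {E : Subgroup Ω}

namespace Setting

variable (h : Setting p F E)
  (hII : ∀ g, Mover S E g → ∀ y ∈ E, ∀ f ∈ E ⊓ cj g E, ⁅y, f⁆ ∈ cj g (phi E))
include h hII

theorem comm_inter_left {g : Ω} (hg : Mover S E g) {n x : Ω} (hn : n ∈ cj g E)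
    (hx : x ∈ E ⊓ cj g E) : ⁅n, x⁆ ∈ phi E := by
  have := hII g⁻¹ hg.inv _ (mem_cj.1 hn) (g⁻¹ * x * g) ⟨mem_cj.1 hx.2, mem_cj.2 (by
    simpa [mul_assoc] using hx.1)⟩
  rw [mem_cj] at this
  simpa [commutatorElement_def, mul_assoc] using this

theorem quad_of_caseTwo {g : Ω} (hg : Mover S E g) : ∀ m ∈ normalizerIn S E, QuadAt E m := by
  obtain ⟨b, hbB, hbE⟩ := h.exists_mem_cj_notMem hg
  have hbN := h.cj_le hg hbB
  intro m hm
  exact h.quadAt_of_quadAt (n₀ := ⟨b, hbN⟩) hbE (fun x hx =>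
    h.comm_inter_left hII hg hbB (h.comm_normalizer_mem hg hbN hx)) hm

theorem cj_phi_eq {g : Ω} (hg : Mover S E g) : cj g (phi E) = phi E := by
  haveI := h.finE
  set D := phi E ⊓ cj g (phi E) with hD
  have hq := h.quad_of_caseTwo hII hg
  haveI : (D.subgroupOf E).Normal :=
    ⟨fun x hx n => h.inter_phi_conj hg (le_normalizerIn h.le n.2) hx⟩
  set F' := (cj g E).subgroupOf E
  have hF'i : F'.index = p := h.index_cj_subgroupOf hg
  set ψ := QuotientGroup.mk' (D.subgroupOf E) with hψ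
  have hF'c : ∀ x ∈ F', ∀ y : E, ψ x * ψ y = ψ y * ψ x := fun x hx y => by
    refine (commutatorElement_eq_one_iff_mul_comm.1 ?_).symm
    rw [← map_commutatorElement]
    exact (QuotientGroup.eq_one_iff _).2
      ⟨h.comm_mem_phi y.2 x.2, hII g hg y y.2 x ⟨x.2, hx⟩⟩
  have hcomm : ∀ u v : E, ⁅(u : Ω), (v : Ω)⁆ ∈ D := fun u v => by
    suffices hs : ψ u * ψ v = ψ v * ψ u by
      refine (QuotientGroup.eq_one_iff (N := D.subgroupOf E) ⁅u, v⁆).1 ?_
      show ψ ⁅u, v⁆ = 1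
      rw [map_commutatorElement, commutatorElement_eq_one_iff_mul_comm]
      exact hs
    by_cases hu : u ∈ F'
    · exact hF'c u hu v
    set Z := (Subgroup.centralizer {ψ u}).comap ψ with hZ
    have hlt : F' < Z := lt_of_le_not_ge (fun x hx => Subgroup.mem_centralizer_iff.2 fun t ht => by
      rw [Set.mem_singleton_iff.1 ht]; exact (hF'c x hx u).symm) fun hle => hu (hle (by
        exact Subgroup.mem_centralizer_iff.2 fun t ht => by rw [Set.mem_singleton_iff.1 ht]))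
    have e := Subgroup.relIndex_mul_index hlt.le
    rw [hF'i] at e
    rcases hp.out.eq_one_or_self_of_dvd _ (Dvd.intro _ e) with h1 | h1
    · exact absurd (Subgroup.relIndex_eq_one.1 h1) hlt.not_ge
    · rw [h1] at e
      have htop : Z = ⊤ := Subgroup.index_eq_one.1 (by simpa [hp.out.ne_zero] using e)
      exact Subgroup.mem_centralizer_iff.1 (htop ▸ Subgroup.mem_top v : v ∈ Z) _ rfl
  have hb := h.bound_le (H := E) (N := D) h.le (inf_le_left.trans (phi_le E))
    (fun u hu v hv => hcomm ⟨u, hu⟩ ⟨v, hv⟩)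
    fun u hu => h.pow_mem_inter hg hq (le_normalizerIn h.le hu)
  rw [← Subgroup.relIndex_mul_relIndex D (phi E) E inf_le_left (phi_le E), h.relIndex_phi] at hb
  have h1 : D.relIndex (phi E) ≤ 1 :=
    Nat.le_of_mul_le_mul_right (hb.trans (one_mul _).ge) (pow_pos hp.out.pos 3)
  have h2 : D.relIndex (phi E) ≠ 0 := by
    haveI := finite_of_le ((phi_le E).trans h.le)
    exact Subgroup.index_ne_zero_of_finite
  have hle : phi E ≤ cj g (phi E) := fun x hx =>
    ((Subgroup.relIndex_eq_one (H := D) (K := phi E)).1 (by omega) hx).2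
  haveI := finite_of_le ((h.cj_phi_le hg).trans h.le)
  exact (Subgroup.eq_of_le_of_card_ge hle (card_cj g _).le).symm

theorem exists_layers {g₀ : Ω} (hg₀ : Mover S E g₀) :
    ∃ (C1 C : Subgroup Ω) (b f : Ω), Layers p F E C1 C b f := by
  haveI := h.finE
  have hq := h.quad_of_caseTwo hII hg₀
  obtain ⟨b, hbB, hbE⟩ := h.exists_mem_cj_notMem hg₀
  have hbN := h.cj_le hg₀ hbB
  obtain ⟨e, f, z, -, -, -, -, -, -, -, -, heΦ, hze, hf, hker, hran, htor⟩ :=
    h.frame (n := ⟨b, hbN⟩) hbE (hq b hbN)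
  set Pe := frattini E ⊔ Subgroup.zpowers e with hPe
  set C' := Pe ⊔ Subgroup.zpowers z with hC'
  have l1 : frattini E < Pe := left_lt_sup.2 fun h' => heΦ (h' (Subgroup.mem_zpowers e))
  have l2 : Pe < C' := left_lt_sup.2 fun h' => hze (h' (Subgroup.mem_zpowers z))
  have l3 : C' < C' ⊔ Subgroup.zpowers f := left_lt_sup.2 fun h' => hf (h' (Subgroup.mem_zpowers f))
  have hCi := (chain_three h.pE h.hrk l1 l2 l3).2
  set C1 := Pe.map E.subtype with hC1
  set C := C'.map E.subtype with hC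
  have hmem1 : ∀ {x : E}, (x : Ω) ∈ C1 ↔ x ∈ Pe :=
    fun {x} => Subgroup.mem_map_iff_mem E.subtype_injective
  have hmemC : ∀ {x : E}, (x : Ω) ∈ C ↔ x ∈ C' :=
    fun {x} => Subgroup.mem_map_iff_mem E.subtype_injective
  have hCE : C ≤ E := Subgroup.map_subtype_le _
  have hC1E : C1 ≤ E := Subgroup.map_subtype_le _
  -- relative indices
  have e2 := Subgroup.relIndex_mul_relIndex _ _ _ l1.le l2.le
  have e3 := Subgroup.relIndex_mul_index (l1.trans l2).le
  rw [hCi, h.hrk, pow_succ p 2] at e3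
  have hr12 := Nat.eq_of_mul_eq_mul_right hp.out.pos e3
  have b1 := mul_relIndex_le h.pE le_rfl l1
  have b2 := mul_relIndex_le h.pE le_rfl l2
  rw [Subgroup.relIndex_self, mul_one] at b1 b2
  rw [hr12, sq] at e2
  have hr1 : (frattini E).relIndex Pe = p := by
    refine le_antisymm (Nat.le_of_mul_le_mul_right ?_ hp.out.pos) b1
    exact (Nat.mul_le_mul_left _ b2).trans e2.le
  have hr2 : Pe.relIndex C' = p := by
    rw [hr1] at e2
    exact Nat.eq_of_mul_eq_mul_left hp.out.pos e2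
  -- the intersections
  have hinter : ∀ g, Mover S E g → E ⊓ cj g E = C := by
    intro g hg
    have hle : E ⊓ cj g E ≤ C := by
      intro x hx
      obtain ⟨a, ha, c, hc, hac⟩ := h.exists_decomp hg hbN
      refine (hmemC (x := ⟨x, hx.1⟩)).2 ((hker ⟨x, hx.1⟩).2 ?_)
      show ⁅b, x⁆ ∈ phi E
      rw [hac, commutatorElement_mul_left_eq_conj_mul]
      exact mul_mem (h.phi_conj (Subgroup.le_normalizer ha) (h.comm_inter_left hII hg hc hx))
        (h.comm_mem_phi ha hx.1)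
    have h1 := relIndex_mul_card (inf_le_left : E ⊓ cj g E ≤ E)
    have h2 := relIndex_mul_card hCE
    rw [Subgroup.inf_relIndex_left, h.relIndex_cj_left hg] at h1
    have h3 : C.relIndex E = p := by
      rw [← hCi, hC, Subgroup.relIndex]
      congr 1
      exact Subgroup.comap_map_eq_self_of_injective E.subtype_injective _
    rw [h3, ← h1] at h2
    haveI := finite_of_le (hCE.trans h.le)
    exact Subgroup.eq_of_le_of_card_ge hle (Nat.eq_of_mul_eq_mul_right hp.out.pos h2).le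
  have hcommC : ∀ n ∈ normalizerIn S E, ∀ x ∈ C, ⁅n, x⁆ ∈ phi E := by
    intro n hn x hx
    rw [← hinter g₀ hg₀] at hx
    obtain ⟨a, ha, c, hc, rfl⟩ := h.exists_decomp hg₀ hn
    rw [commutatorElement_mul_left_eq_conj_mul]
    exact mul_mem (h.phi_conj (Subgroup.le_normalizer ha) (h.comm_inter_left hII hg₀ hc hx))
      (h.comm_mem_phi ha hx.1)
  have hphiC1 : phi E ≤ C1 := Subgroup.map_mono l1.le
  have hC1C : C1 ≤ C := Subgroup.map_mono l2.le
  have hrange : ∀ x ∈ E, ⁅b, x⁆ ∈ C1 := fun x hx => hmem1.2 (hran ⟨x, hx⟩)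
  have hC1n : ∀ n ∈ normalizerIn S E, ∀ x ∈ C1, n * x * n⁻¹ ∈ C1 := fun n hn x hx => by
    rw [show n * x * n⁻¹ = ⁅n, x⁆ * x by simp [commutatorElement_def, mul_assoc]]
    exact mul_mem (hphiC1 (hcommC n hn x (hC1C hx))) hx
  have hcommN : ∀ n ∈ normalizerIn S E, ∀ m ∈ normalizerIn S E, ⁅n, m⁆ ∈ C1 := by
    set N := normalizerIn S E with hN
    haveI : Finite N := h.finN
    haveI : (C1.subgroupOf N).Normal := ⟨fun x hx n => hC1n n n.2 x hx⟩
    set ψ := QuotientGroup.mk' (C1.subgroupOf N)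
    have hEN : E ≤ N := le_normalizerIn h.le
    have hcom : ∀ u v : N, ψ u * ψ v = ψ v * ψ u ↔ ⁅(u : Ω), (v : Ω)⁆ ∈ C1 := fun u v => by
      rw [← commutatorElement_eq_one_iff_mul_comm, ← map_commutatorElement]
      exact QuotientGroup.eq_one_iff _
    have hgen : ∀ (Z : Subgroup N), E.subgroupOf N ≤ Z → (⟨b, hbN⟩ : N) ∈ Z → Z = ⊤ := by
      intro Z hZ hbZ
      have hlt : E.subgroupOf N < Z := lt_of_le_not_ge hZ fun hle => hbE (hle hbZ)
      have e := Subgroup.relIndex_mul_index hlt.le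
      rw [← Subgroup.relIndex, h.relIndex_eq] at e
      rcases hp.out.eq_one_or_self_of_dvd _ (Dvd.intro _ e) with h1 | h1
      · exact absurd (Subgroup.relIndex_eq_one.1 h1) hlt.not_ge
      · rw [h1] at e
        exact Subgroup.index_eq_one.1 (by simpa [hp.out.ne_zero] using e)
    let Z : N → Subgroup N := fun u => (Subgroup.centralizer {ψ u}).comap ψ
    have hZ : ∀ u v : N, v ∈ Z u ↔ ψ v * ψ u = ψ u * ψ v := fun u v =>
      Subgroup.mem_centralizer_singleton_iff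
    have hEE : ∀ u v : N, (u : Ω) ∈ E → (v : Ω) ∈ E → ψ u * ψ v = ψ v * ψ u :=
      fun u v hu hv => (hcom u v).2 (hphiC1 (h.comm_mem_phi hu hv))
    have hbE' : ∀ u : N, (u : Ω) ∈ E → ψ ⟨b, hbN⟩ * ψ u = ψ u * ψ ⟨b, hbN⟩ :=
      fun u hu => (hcom ⟨b, hbN⟩ u).2 (hrange u hu)
    have hZb : Z ⟨b, hbN⟩ = ⊤ :=
      hgen _ (fun u hu => (hZ _ u).2 (hbE' u hu).symm) ((hZ _ _).2 rfl)
    intro n hn m hm
    refine (hcom ⟨n, hn⟩ ⟨m, hm⟩).1 ?_
    have hZm : Z ⟨m, hm⟩ = ⊤ := by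
      refine hgen _ (fun u hu => (hZ _ u).2 ?_) ((hZ _ _).2 ?_)
      · have hZu : Z u = ⊤ := hgen _ (fun v hv => (hZ u v).2 (hEE v u hv hu)) ((hZ u _).2 (hbE' u hu))
        exact (((hZ u ⟨m, hm⟩).1 (hZu ▸ Subgroup.mem_top _))).symm
      · exact ((hZ _ ⟨m, hm⟩).1 (hZb ▸ Subgroup.mem_top _)).symm
    exact (hZ ⟨m, hm⟩ ⟨n, hn⟩).1 (hZm ▸ Subgroup.mem_top _)
  have hbf : ⁅b, (f : Ω)⁆ ∉ phi E := fun h' => hf ((hker f).2 h')
  refine ⟨C1, C, b, f, hphiC1, hC1C, hCE, ?_, ?_, ?_, hbN, hbE, f.2, fun h' => hf (hmemC.1 h'),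
    hcommC, hcommN, fun n hn => h.pow_mem_phi_of_quad hq hn, hbf, hrange, fun g hg => ⟨?_, ?_, ?_⟩,
    fun α hα => ?_⟩
  · rw [phi, hC1, Subgroup.relIndex_map_map_of_injective _ _ E.subtype_injective, hr1]
  · rw [hC1, hC, Subgroup.relIndex_map_map_of_injective _ _ E.subtype_injective, hr2]
  · rw [← hCi, hC, Subgroup.relIndex]
    congr 1
    exact Subgroup.comap_map_eq_self_of_injective E.subtype_injective _
  · exact fun x hx => (h.cj_phi_eq hII hg).le (conj_mem_cj hx)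
  · -- `C1` is generated by the Frattini subgroup and one commutator
    obtain ⟨u, hu, _, ⟨i, rfl⟩, hui⟩ := Subgroup.mem_sup_of_normal_left.1 (hran f)
    simp only at hui
    have hi : ¬(p : ℤ) ∣ i := fun hi => hbf (by
      have := mem_phi.2 (mul_mem hu (zpow_mem_of_pow_mem (mem_phi.1 (h.pow_mem_phi e.2)) hi))
      rwa [hui] at this)
    have hphig : ∀ x ∈ phi E, g * x * g⁻¹ ∈ C1 :=
      fun x hx => hphiC1 ((h.cj_phi_eq hII hg).le (conj_mem_cj hx))
    set cg := (MulAut.conj g).toMonoidHom with hcg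
    have heC : g * (e : Ω) * g⁻¹ ∈ C1 := by
      show (e : Ω) ∈ C1.comap cg
      refine mem_of_zpow_mem (p := p) (R := C1.comap cg) (hphig _ (h.pow_mem_phi e.2)) hi ?_
      have h1 : (e : Ω) ^ i = (u : Ω)⁻¹ * ⁅b, (f : Ω)⁆ := by
        have := congrArg Subtype.val hui
        simp only [Subgroup.coe_mul, SubgroupClass.coe_zpow] at this
        rw [← this, inv_mul_cancel_left]
      rw [h1]
      refine mul_mem (inv_mem (hphig _ (mem_phi.2 hu))) ?_
      show cg ⁅b, (f : Ω)⁆ ∈ C1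
      rw [map_commutatorElement]
      exact hcommN _ (hg.conj_mem hbN) _ (hg.conj_mem (le_normalizerIn h.le f.2))
    rintro _ ⟨x, hx, rfl⟩
    have hle : Pe ≤ ((cj g⁻¹ C1).comap E.subtype) := sup_le
      (fun m hm => by
        rw [Subgroup.mem_comap, mem_cj]
        simpa using hphig _ (mem_phi.2 hm))
      (Subgroup.zpowers_le.2 (by rw [Subgroup.mem_comap, mem_cj]; simpa using heC))
    have := mem_cj.1 (hle hx)
    simpa using this
  · intro x hx
    have hg2 := h.sq_mover hg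
    have hle : C ≤ cj g C := by
      rw [← hinter g hg]
      intro y hy
      have hy2 : y ∈ cj (g * g) E := by
        have : y ∈ E ⊓ cj (g * g) E := by rw [hinter _ hg2, ← hinter g hg]; exact hy
        exact this.2
      rw [mem_cj]
      refine ⟨mem_cj.1 hy.2, mem_cj.2 ?_⟩
      rw [mem_cj] at hy2
      simpa [mul_assoc] using hy2
    haveI := finite_of_le (hCE.trans h.le)
    haveI : Finite (cj g C) := Nat.finite_of_card_ne_zero (by rw [card_cj]; exact Nat.card_pos.ne')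
    rw [Subgroup.eq_of_le_of_card_ge hle (card_cj g C).le]
    exact conj_mem_cj hx
  · obtain ⟨hh, hhe, hhf, hhz, hrel⟩ := htor α hα
    obtain ⟨ψ, hψ, hψE, hψN⟩ := h.exists_extension hh.2 hrel
    have hval : ∀ (x : normalizerIn S E) (hx : (x : Ω) ∈ E),
        ((ψ x : normalizerIn S E) : Ω) = ((hh : MulAut E) ⟨x, hx⟩ : E) := fun x hx => hψE ⟨x, hx⟩
    have hchar : ∀ m ∈ frattini E, (hh : MulAut E) m ∈ frattini E := fun m hm =>
      ((Subgroup.characteristic_iff_map_eq.mp (inferInstance : (frattini E).Characteristic))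
        (hh : MulAut E)).le ⟨m, hm, rfl⟩
    set q := QuotientGroup.mk' (frattini E) with hq'
    have hqe : phiAct E hh (q e) = q e ^ α.val := by
      rw [← map_pow, hq', QuotientGroup.mk'_apply, phiAct_mk]
      exact (QuotientGroup.eq.2 hhe).symm
    refine ⟨ψ, hψ, fun x hx => by rw [hval x hx]; exact Subtype.prop _, fun x hx => ?_, fun x hx => ?_,
      fun x hx => ?_, fun x hx => ?_, hψN⟩
    · rw [hval x (phi_le E hx)]
      exact mem_phi.2 (hchar _ ((mem_phi (x := (⟨(x : Ω), phi_le E hx⟩ : E))).1 hx))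
    · have hxE := hC1E hx
      have hxP : (⟨x, hxE⟩ : E) ∈ Pe := hmem1.1 hx
      rw [hval x hxE]
      refine (mem_phi (x := (⟨x, hxE⟩ ^ α.val)⁻¹ * (hh : MulAut E) ⟨x, hxE⟩)).2 (QuotientGroup.eq.1 ?_)
      show q (⟨x, hxE⟩ ^ α.val) = phiAct E hh (q ⟨x, hxE⟩)
      obtain ⟨u, hu, _, ⟨i, rfl⟩, hui⟩ := Subgroup.mem_sup_of_normal_left.1 hxP
      rw [← hui, map_pow, map_mul, show q u = 1 from (QuotientGroup.eq_one_iff u).2 hu, one_mul,
        map_zpow, map_zpow, hqe, ← zpow_natCast, ← zpow_natCast, ← zpow_mul, ← zpow_mul, mul_comm]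
    · rw [hval x (hCE hx)]
      have hle : C' ≤ {carrier := {v : E | v⁻¹ * (hh : MulAut E) v ∈ Pe}
                       one_mem' := by simp
                       mul_mem' := fun {u v} hu hv => by
                        show (u * v)⁻¹ * (hh : MulAut E) (u * v) ∈ Pe
                        rw [map_mul, show (u * v)⁻¹ * ((hh : MulAut E) u * (hh : MulAut E) v) =
                          v⁻¹ * (u⁻¹ * (hh : MulAut E) u) * v * (v⁻¹ * (hh : MulAut E) v) by group]
                        refine mul_mem ?_ hv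
                        have := (hmem1 (x := v⁻¹ * (u⁻¹ * (hh : MulAut E) u) * v⁻¹⁻¹)).1
                          (hC1n _ (le_normalizerIn h.le (E.inv_mem v.2)) _ (hmem1.2 hu))
                        rwa [inv_inv] at this
                       inv_mem' := fun {u} hu => by
                        show u⁻¹⁻¹ * (hh : MulAut E) u⁻¹ ∈ Pe
                        rw [map_inv, inv_inv, show u * ((hh : MulAut E) u)⁻¹ =
                          u * (u⁻¹ * (hh : MulAut E) u)⁻¹ * u⁻¹ by group]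
                        exact (hmem1 (x := u * (u⁻¹ * (hh : MulAut E) u)⁻¹ * u⁻¹)).1
                          (hC1n _ (le_normalizerIn h.le u.2) _ (hmem1.2 (inv_mem hu))) : Subgroup E} := by
        refine sup_le (sup_le (fun m hm => ?_) (Subgroup.zpowers_le.2 ?_)) (Subgroup.zpowers_le.2 ?_)
        · exact l1.le (mul_mem (inv_mem hm) (hchar m hm))
        · show e⁻¹ * (hh : MulAut E) e ∈ Pe
          rw [show e⁻¹ * (hh : MulAut E) e = e⁻¹ * e ^ α.val * ((e ^ α.val)⁻¹ * (hh : MulAut E) e) by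
            group]
          exact mul_mem (mul_mem (inv_mem (Subgroup.mem_sup_right (Subgroup.mem_zpowers e)))
            (pow_mem (Subgroup.mem_sup_right (Subgroup.mem_zpowers e)) _)) (l1.le hhe)
        · exact l1.le hhz
      exact (hmem1 (x := (⟨x, hCE hx⟩ : E)⁻¹ * (hh : MulAut E) ⟨x, hCE hx⟩)).2 (hle (hmemC.1 hx))
    · rw [hval x (hx ▸ f.2), show (⟨(x : Ω), hx ▸ f.2⟩ : E) = f from Subtype.ext hx]
      exact hC1C (hphiC1 ((mem_phi (x := (f ^ α⁻¹.val)⁻¹ * (hh : MulAut E) f)).2 hhf))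

end Setting

end CfsgLib.Jordan.RankThree
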