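import Cfsg.Agent.Lib.Jordan.RankThree.Torus

/-!
# An essential subgroup and one of its conjugates in the normalizer
-/

set_option autoImplicit false
set_option linter.style.haveILetI false
set_option linter.unusedSectionVars false

open scoped commutatorElement

namespace CfsgLib.Jordan.RankThree

open Cfsg Cfsg.FusionSystem CfsgLib.Alperin

variable {Ω : Type*} [Group Ω]

/-- The conjugate of `K` by `g`. -/
abbrev cj (g : Ω) (K : Subgroup Ω) : Subgroup Ω := K.map (MulAut.conj g).toMonoidHom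

theorem mem_cj {g : Ω} {K : Subgroup Ω} {x : Ω} : x ∈ cj g K ↔ g⁻¹ * x * g ∈ K :=
  ⟨by rintro ⟨y, hy, rfl⟩; simpa [mul_assoc] using hy, fun h => ⟨_, h, by simp [mul_assoc]⟩⟩

theorem conj_mem_cj {g : Ω} {K : Subgroup Ω} {x : Ω} (hx : x ∈ K) : g * x * g⁻¹ ∈ cj g K :=
  ⟨x, hx, rfl⟩

theorem card_cj (g : Ω) (K : Subgroup Ω) : Nat.card (cj g K) = Nat.card K :=
  Subgroup.card_map_of_injective (MulEquiv.injective _)

theorem cj_cj (g g' : Ω) (K : Subgroup Ω) : cj g (cj g' K) = cj (g * g') K := by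
  ext x
  simp only [mem_cj, mul_inv_rev, mul_assoc]

theorem cj_one (K : Subgroup Ω) : cj 1 K = K := by ext x; simp [mem_cj]

theorem relIndex_mul_card {A C : Subgroup Ω} (h : A ≤ C) :
    Nat.card A * A.relIndex C = Nat.card C := by
  rw [← Subgroup.relIndex_bot_left, ← Subgroup.relIndex_bot_left,
    Subgroup.relIndex_mul_relIndex _ _ _ bot_le h]

theorem frattini_le_of_index_prime {G : Type*} [Group G] [Finite G] {K : Subgroup G} {p : ℕ}
    (hp : p.Prime) (hK : K.index = p) : frattini G ≤ K := by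
  refine frattini_le_coatom ⟨fun h => hp.one_lt.ne (by rw [← hK, h, Subgroup.index_top]), fun L hL => ?_⟩
  have e := Subgroup.relIndex_mul_index hL.le
  rw [hK] at e
  rcases hp.eq_one_or_self_of_dvd _ (Dvd.intro _ e) with h | h
  · exact absurd (Subgroup.relIndex_eq_one.1 h) hL.not_ge
  · rw [h] at e
    exact Subgroup.index_eq_one.1 (by simpa [hp.ne_zero] using e)

/-- A section of order at most `p` normalized in a finite `p`-group is central. -/
theorem comm_mem_of_small {p : ℕ} [hp : Fact p.Prime] {G : Type*} [Group G] [Finite G]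
    (hG : IsPGroup p G) {A B : Subgroup G} [B.Normal] (hAn : A.Normal) (hBA : B ≤ A)
    (hr : B.relIndex A ≤ p) (n : G) {a : G} (ha : a ∈ A) : ⁅n, a⁆ ∈ B := by
  obtain ⟨k, hk⟩ := (hG.to_subgroup A).index (B.subgroupOf A)
  rw [← Subgroup.relIndex] at hk
  rcases k with _ | _ | k
  · have hAB : A ≤ B := Subgroup.relIndex_eq_one.1 (by simpa using hk)
    rw [commutatorElement_def]
    exact B.mul_mem ((inferInstance : B.Normal).conj_mem a (hAB ha) n) (B.inv_mem (hAB ha))
  · obtain ⟨r, hr'⟩ := hG n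
    have h1 := FusionModels.Pearl.fixes_prime_section (A := A) (B := B) (by simpa using hk)
      (MulAut.conj n) (r := r) (by rw [← map_pow, hr', map_one]) (fun x hx => hAn.conj_mem x hx n)
      (fun x hx => (inferInstance : B.Normal).conj_mem x hx n) a ha
    have h2 := (inferInstance : B.Normal).conj_mem _ h1 a
    rw [show a * (a⁻¹ * MulAut.conj n a) * a⁻¹ = ⁅n, a⁆ by simp [commutatorElement_def, mul_assoc]] at h2
    exact h2
  · rw [hk] at hr
    exact absurd hr (not_le.2 (lt_of_lt_of_le (lt_self_pow₀ hp.out.one_lt (by norm_num : 1 < 2))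
      (Nat.pow_le_pow_right hp.out.pos (by omega))))

variable {S : Subgroup Ω} [Finite S] {p : ℕ} [hp : Fact p.Prime] {F : FusionSystem S}
  {E : Subgroup Ω}

/-- An element normalizing the normalizer of `E` without lying in it. -/
structure Mover (S E : Subgroup Ω) (g : Ω) : Prop where
  memS : g ∈ S
  norm : g ∈ Subgroup.normalizer ((normalizerIn S E : Subgroup Ω) : Set Ω)
  notMem : g ∉ normalizerIn S E

theorem Mover.inv {g : Ω} (hg : Mover S E g) : Mover S E g⁻¹ :=
  ⟨S.inv_mem hg.memS, Subgroup.inv_mem _ hg.norm, fun h => hg.notMem (by simpa using inv_mem h)⟩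

theorem Mover.mul {g n : Ω} (hg : Mover S E g) (hn : n ∈ normalizerIn S E) : Mover S E (g * n) :=
  ⟨S.mul_mem hg.memS hn.1, Subgroup.mul_mem _ hg.norm (Subgroup.le_normalizer hn),
    fun h => hg.notMem (by simpa using mul_mem h (inv_mem hn))⟩

theorem Mover.conj_mem {g x : Ω} (hg : Mover S E g) (hx : x ∈ normalizerIn S E) :
    g * x * g⁻¹ ∈ normalizerIn S E :=
  mem_normalizer_conj hg.norm hx

theorem Mover.conj_mem' {g x : Ω} (hg : Mover S E g) (hx : x ∈ normalizerIn S E) :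
    g⁻¹ * x * g ∈ normalizerIn S E := by
  simpa using hg.inv.conj_mem hx

namespace Setting

variable (h : Setting p F E) {g : Ω} (hg : Mover S E g)
include h

theorem phi_conj {n : Ω} (hn : n ∈ Subgroup.normalizer (E : Set Ω)) {x : Ω} (hx : x ∈ phi E) :
    n * x * n⁻¹ ∈ phi E := by
  obtain ⟨y, hy, rfl⟩ := hx
  exact (mem_phi (x := conjAut E n hn y)).2
    (((Subgroup.characteristic_iff_map_eq.mp (inferInstance : (frattini E).Characteristic)) _).le
      ⟨y, hy, rfl⟩)

theorem relIndex_phi : (phi E).relIndex E = p ^ 3 := by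
  rw [← h.hrk, Subgroup.relIndex, phi]
  congr 1
  exact Subgroup.comap_map_eq_self_of_injective E.subtype_injective _

include hg

theorem sq_mover : Mover S E (g * g) := by
  refine ⟨S.mul_mem hg.memS hg.memS, Subgroup.mul_mem _ hg.norm hg.norm, fun h2 => hg.notMem ?_⟩
  obtain ⟨k, hk⟩ := h.hS ⟨g, hg.memS⟩
  have hk' : g ^ p ^ k = 1 := by simpa using congrArg Subtype.val hk
  obtain ⟨m, hm⟩ : Odd (p ^ k) := (hp.out.odd_of_ne_two h.two).pow
  have : g = ((g * g) ^ m)⁻¹ := eq_inv_of_mul_eq_one_right (by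
    rw [← pow_two, ← pow_mul, ← pow_succ, ← hm, hk'])
  rw [this]
  exact inv_mem (pow_mem h2 m)

theorem cj_le : cj g E ≤ normalizerIn S E := by
  rintro _ ⟨x, hx, rfl⟩
  exact hg.conj_mem (le_normalizerIn h.le hx)

theorem cj_conj {n x : Ω} (hn : n ∈ normalizerIn S E) (hx : x ∈ cj g E) :
    n * x * n⁻¹ ∈ cj g E := by
  rw [mem_cj] at hx ⊢
  simpa [mul_assoc] using mem_normalizer_conj (hg.conj_mem' hn).2 hx

theorem cj_phi_conj {n x : Ω} (hn : n ∈ normalizerIn S E) (hx : x ∈ cj g (phi E)) :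
    n * x * n⁻¹ ∈ cj g (phi E) := by
  rw [mem_cj] at hx ⊢
  simpa [mul_assoc] using h.phi_conj (hg.conj_mem' hn).2 hx

theorem cj_ne : cj g E ≠ E := fun he => hg.notMem ⟨hg.memS, Subgroup.mem_normalizer_iff.2 fun x => by
  constructor
  · intro hx
    exact he.le (conj_mem_cj hx)
  · intro hx
    have := mem_cj.1 (he.ge hx)
    simpa [mul_assoc] using this⟩

theorem cj_not_le : ¬cj g E ≤ E := fun hle => by
  haveI := h.finE
  exact h.cj_ne hg (Subgroup.eq_of_le_of_card_ge hle (card_cj g E).ge)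

theorem le_not_cj : ¬E ≤ cj g E := fun hle => by
  haveI := finite_of_le ((h.cj_le hg).trans (normalizerIn_le S E))
  exact h.cj_ne hg (Subgroup.eq_of_le_of_card_ge hle (card_cj g E).le).symm

theorem relIndex_cj : (cj g E).relIndex (normalizerIn S E) = p := by
  have h1 := relIndex_mul_card (h.cj_le hg)
  have h2 := relIndex_mul_card (le_normalizerIn (S := S) h.le)
  rw [card_cj, ← h2, h.relIndex_eq] at h1
  haveI := h.finE
  exact Nat.eq_of_mul_eq_mul_left Nat.card_pos h1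

theorem relIndex_cj_left : (cj g E).relIndex E = p := by
  set N := normalizerIn S E
  haveI : ((cj g E).subgroupOf N).Normal := ⟨fun x hx n => h.cj_conj hg n.2 hx⟩
  have := Subgroup.relIndex_dvd_index_of_normal ((cj g E).subgroupOf N) (E.subgroupOf N)
  rw [Subgroup.relIndex_subgroupOf (le_normalizerIn h.le), ← Subgroup.relIndex, h.relIndex_cj hg] at this
  exact (hp.out.eq_one_or_self_of_dvd _ this).resolve_left fun h1 =>
    h.le_not_cj hg (Subgroup.relIndex_eq_one.1 h1)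

theorem exists_decomp {z : Ω} (hz : z ∈ normalizerIn S E) : ∃ a ∈ E, ∃ b ∈ cj g E, z = a * b := by
  set N := normalizerIn S E
  haveI : Finite N := h.finN
  haveI : (E.subgroupOf N).Normal := ⟨fun x hx n => mem_normalizer_conj n.2.2 hx⟩
  have hlt : E.subgroupOf N < E.subgroupOf N ⊔ (cj g E).subgroupOf N := left_lt_sup.2 fun hle =>
    h.cj_not_le hg fun x hx => hle (x := ⟨x, h.cj_le hg hx⟩) hx
  have e := Subgroup.relIndex_mul_index hlt.le
  rw [← Subgroup.relIndex, h.relIndex_eq] at e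
  have htop : E.subgroupOf N ⊔ (cj g E).subgroupOf N = ⊤ := by
    rcases hp.out.eq_one_or_self_of_dvd _ (Dvd.intro _ e) with h1 | h1
    · exact absurd (Subgroup.relIndex_eq_one.1 h1) hlt.not_ge
    · rw [h1] at e
      exact Subgroup.index_eq_one.1 (by simpa [hp.out.ne_zero] using e)
  obtain ⟨a, ha, b, hb, hab⟩ := Subgroup.mem_sup_of_normal_left.1 (htop.symm ▸ Subgroup.mem_top (⟨z, hz⟩ : N))
  exact ⟨a, ha, b, hb, by rw [← Subgroup.coe_mul, hab]⟩

theorem index_cj_subgroupOf : ((cj g E).subgroupOf E).index = p := h.relIndex_cj_left hg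

theorem phi_le_cj : phi E ≤ cj g E := by
  haveI := h.finE
  rintro _ ⟨x, hx, rfl⟩
  exact frattini_le_of_index_prime hp.out (h.index_cj_subgroupOf hg) hx

theorem cj_phi_le : cj g (phi E) ≤ E := fun x hx => by
  have := h.phi_le_cj hg.inv (mem_cj.1 hx)
  rw [mem_cj] at this
  simpa [mul_assoc] using this

theorem cj_phi_le_cj : cj g (phi E) ≤ cj g E := Subgroup.map_mono (phi_le E)

theorem comm_mem_cj_phi {a b : Ω} (ha : a ∈ cj g E) (hb : b ∈ cj g E) : ⁅a, b⁆ ∈ cj g (phi E) := by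
  obtain ⟨x, hx, rfl⟩ := ha
  obtain ⟨y, hy, rfl⟩ := hb
  exact ⟨_, h.comm_mem_phi hx hy, map_commutatorElement _ _ _⟩

theorem pow_mem_cj_phi {a : Ω} (ha : a ∈ cj g E) : a ^ p ∈ cj g (phi E) := by
  obtain ⟨x, hx, rfl⟩ := ha
  exact ⟨_, h.pow_mem_phi hx, map_pow _ _ _⟩

theorem comm_inter {a b : Ω} (ha : a ∈ E ⊓ cj g E) (hb : b ∈ E ⊓ cj g E) :
    ⁅a, b⁆ ∈ phi E ⊓ cj g (phi E) :=
  ⟨h.comm_mem_phi ha.1 hb.1, h.comm_mem_cj_phi hg ha.2 hb.2⟩

theorem pow_inter {a : Ω} (ha : a ∈ E ⊓ cj g E) : a ^ p ∈ phi E ⊓ cj g (phi E) :=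
  ⟨h.pow_mem_phi ha.1, h.pow_mem_cj_phi hg ha.2⟩

theorem relIndex_phi_inter : (phi E).relIndex (E ⊓ cj g E) = p ^ 2 := by
  have e := Subgroup.relIndex_mul_relIndex (phi E) (E ⊓ cj g E) E
    (le_inf (phi_le E) (h.phi_le_cj hg)) inf_le_left
  rw [h.relIndex_phi, Subgroup.inf_relIndex_left, h.relIndex_cj_left hg, pow_succ p 2] at e
  exact Nat.eq_of_mul_eq_mul_right hp.out.pos e

theorem relIndex_small : (phi E ⊓ cj g (phi E)).relIndex (phi E) ≤ p := by
  have hb := h.bound_le (H := E ⊓ cj g E) (N := phi E ⊓ cj g (phi E))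
    (inf_le_left.trans h.le) (inf_le_inf (phi_le E) (h.cj_phi_le_cj hg))
    (fun a ha b hb => h.comm_inter hg ha hb) fun a ha => h.pow_inter hg ha
  rw [← Subgroup.relIndex_mul_relIndex _ (phi E) _ inf_le_left
    (le_inf (phi_le E) (h.phi_le_cj hg)), h.relIndex_phi_inter hg, pow_succ' p 2] at hb
  exact Nat.le_of_mul_le_mul_right hb (pow_pos hp.out.pos 2)

theorem relIndex_small' : (phi E ⊓ cj g (phi E)).relIndex (cj g (phi E)) =
    (phi E ⊓ cj g (phi E)).relIndex (phi E) := by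
  have h1 := relIndex_mul_card (inf_le_left : phi E ⊓ cj g (phi E) ≤ phi E)
  have h2 := relIndex_mul_card (inf_le_right : phi E ⊓ cj g (phi E) ≤ cj g (phi E))
  rw [card_cj, ← h1] at h2
  haveI := finite_of_le ((inf_le_left.trans (phi_le E)).trans h.le :
    phi E ⊓ cj g (phi E) ≤ S)
  exact Nat.eq_of_mul_eq_mul_left Nat.card_pos h2

theorem inter_phi_conj {n x : Ω} (hn : n ∈ normalizerIn S E) (hx : x ∈ phi E ⊓ cj g (phi E)) :
    n * x * n⁻¹ ∈ phi E ⊓ cj g (phi E) :=
  ⟨h.phi_conj hn.2 hx.1, h.cj_phi_conj hg hn hx.2⟩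

theorem comm_phi_mem {n x : Ω} (hn : n ∈ normalizerIn S E)
    (hx : x ∈ phi E ∨ x ∈ cj g (phi E)) : ⁅n, x⁆ ∈ phi E ⊓ cj g (phi E) := by
  set N := normalizerIn S E with hN
  haveI : Finite N := h.finN
  set D := phi E ⊓ cj g (phi E) with hD
  haveI : (D.subgroupOf N).Normal := ⟨fun y hy m => h.inter_phi_conj hg m.2 hy⟩
  have h1 : phi E ≤ N := (phi_le E).trans (le_normalizerIn h.le)
  have h2 : cj g (phi E) ≤ N := (h.cj_phi_le hg).trans (le_normalizerIn h.le)
  rcases hx with hx | hx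
  · exact comm_mem_of_small h.pN (A := (phi E).subgroupOf N) (B := D.subgroupOf N)
      ⟨fun y hy m => h.phi_conj m.2.2 hy⟩ (fun y hy => hy.1)
      (by rw [Subgroup.relIndex_subgroupOf h1]; exact h.relIndex_small hg) ⟨n, hn⟩
      (a := ⟨x, h1 hx⟩) hx
  · exact comm_mem_of_small h.pN (A := (cj g (phi E)).subgroupOf N) (B := D.subgroupOf N)
      ⟨fun y hy m => h.cj_phi_conj hg m.2 hy⟩ (fun y hy => hy.2)
      (by rw [Subgroup.relIndex_subgroupOf h2, h.relIndex_small' hg]; exact h.relIndex_small hg)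
      ⟨n, hn⟩ (a := ⟨x, h2 hx⟩) hx

theorem comm_normalizer_mem {n x : Ω} (hn : n ∈ normalizerIn S E) (hx : x ∈ E) :
    ⁅n, x⁆ ∈ E ⊓ cj g E := by
  obtain ⟨a, ha, b, hb, rfl⟩ := h.exists_decomp hg hn
  have hxN := le_normalizerIn (S := S) h.le hx
  refine ⟨comm_mem hn.2 hx, ?_⟩
  rw [commutatorElement_mul_left_eq_conj_mul]
  refine Subgroup.mul_mem _ (h.cj_conj hg (le_normalizerIn h.le ha) ?_)
    (h.phi_le_cj hg (h.comm_mem_phi ha hx))
  rw [show ⁅b, x⁆ = b * (x * b⁻¹ * x⁻¹) by simp [commutatorElement_def, mul_assoc]]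
  exact Subgroup.mul_mem _ hb (h.cj_conj hg hxN (Subgroup.inv_mem _ hb))

end Setting

end CfsgLib.Jordan.RankThree
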