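import Cfsg.Agent.Lib.Jordan.RankThree.Commutator
import Cfsg.Agent.Lib.FusionModels.PearlMaxClass
import Cfsg.Agent.Lib.Alperin.Receptive
import Cfsg.Agent.Lib.PGroups.Frattini

/-!
# Essential subgroups with three generators: the action on the Frattini quotient
-/

set_option autoImplicit false
set_option linter.style.haveILetI false
set_option linter.unusedSectionVars false

open scoped commutatorElement

namespace CfsgLib.Jordan.RankThree

open Cfsg Cfsg.FusionSystem CfsgLib.Alperin

variable {Ω : Type*} [Group Ω] {S : Subgroup Ω}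

/-- The standing hypotheses on an essential subgroup with three generators. -/
structure Setting (p : ℕ) (F : FusionSystem S) (E : Subgroup Ω) : Prop where
  h5 : 5 ≤ p
  hS : IsPGroup p S
  bound : ElemBound p 3 S
  hF : F.IsSaturated p
  hE : F.IsEssential p E
  hrk : (frattini E).index = p ^ 3

/-- The Frattini subgroup of `E` inside the ambient group. -/
def phi (E : Subgroup Ω) : Subgroup Ω := (frattini E).map E.subtype

theorem phi_le (E : Subgroup Ω) : phi E ≤ E := Subgroup.map_subtype_le _

theorem mem_phi {E : Subgroup Ω} {x : E} : (x : Ω) ∈ phi E ↔ x ∈ frattini E :=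
  Subgroup.mem_map_iff_mem E.subtype_injective

/-- The action of automorphisms on the Frattini quotient. -/
def phiAct (G : Type*) [Group G] : MulAut G →* MulAut (G ⧸ frattini G) where
  toFun α := QuotientGroup.congr _ _ α
    ((Subgroup.characteristic_iff_map_eq.mp (inferInstance : (frattini G).Characteristic)) α)
  map_one' := MulEquiv.ext fun x => by
    induction x using QuotientGroup.induction_on
    rfl
  map_mul' _ _ := MulEquiv.ext fun x => by
    induction x using QuotientGroup.induction_on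
    rfl

theorem phiAct_mk {G : Type*} [Group G] (α : MulAut G) (x : G) :
    phiAct G α (QuotientGroup.mk x) = QuotientGroup.mk (α x) := rfl

theorem phiAct_conj {p : ℕ} [Fact p.Prime] {G : Type*} [Group G] [Finite G] (hG : IsPGroup p G)
    (x : G) : phiAct G (MulAut.conj x) = 1 := MulEquiv.ext fun v => by
  induction v using QuotientGroup.induction_on with
  | _ y =>
    rw [phiAct_mk, MulAut.conj_apply, MulAut.one_apply, QuotientGroup.eq]
    refine PGroups.commutator_le_frattini hG ?_
    rw [show (x * y * x⁻¹)⁻¹ * y = ⁅x, y⁻¹⁆ by simp [commutatorElement_def, mul_assoc]]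
    exact Subgroup.commutator_mem_commutator (Subgroup.mem_top _) (Subgroup.mem_top _)

/-- Strongly embedded subgroups are carried along isomorphisms. -/
theorem spe_map {X X' : Type*} [Group X] [Group X'] [Finite X] {p : ℕ} [Fact p.Prime]
    {Y : Subgroup X} (hY : IsStronglyPEmbedded p Y) (e : X ≃* X') :
    IsStronglyPEmbedded p (Y.map e.toMonoidHom) := by
  haveI := Finite.of_equiv X e.toEquiv
  obtain ⟨P, hPY, hN⟩ := StronglyPEmbedded.exists_sylow_le hY
  refine ⟨Nat.card_congr e.toEquiv ▸ hY.1, fun h => hY.2.1 ?_, P.mapSurjective (f := e.toMonoidHom) e.surjective, ?_⟩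
  · rw [← Subgroup.comap_map_eq_self_of_injective (f := e.toMonoidHom) e.injective Y, h,
      Subgroup.comap_top]
  · refine (StronglyPEmbedded.kGeneratedCore_one_le_iff (Sylow.isPGroup' _)).2 fun Q hQ hne x hx => ?_
    obtain ⟨y, rfl⟩ := e.surjective x
    refine ⟨y, hN (Q.comap e.toMonoidHom) (fun q hq => ?_) (fun h0 => hne ?_) ?_, rfl⟩
    · obtain ⟨r, hr, hre⟩ := hQ hq
      exact e.injective hre ▸ hr
    · rw [← Subgroup.map_comap_eq_self_of_surjective (f := e.toMonoidHom) e.surjective Q, h0,
        Subgroup.map_bot]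
    · refine Subgroup.mem_normalizer_iff.2 fun z => ?_
      simpa [Subgroup.mem_comap] using Subgroup.mem_normalizer_iff.1 hx (e z)

/-- The automorphisms induced on the Frattini quotient. -/
abbrev img (F : FusionSystem S) (E : Subgroup Ω) : Subgroup (MulAut (E ⧸ frattini E)) :=
  (F.autGroup E).map (phiAct E)

/-- The action of the normalizer on the Frattini quotient. -/
def act (S E : Subgroup Ω) : normalizerIn S E →* MulAut (E ⧸ frattini E) :=
  (phiAct E).comp (E.normalizerMonoidHom.comp
    (Subgroup.inclusion (inf_le_right : normalizerIn S E ≤ Subgroup.normalizer (E : Set Ω))))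

theorem act_eq {E : Subgroup Ω} (n : normalizerIn S E) :
    act S E n = phiAct E (conjAut E n n.2.2) := rfl

theorem act_mk {E : Subgroup Ω} (n : normalizerIn S E) (x : E) :
    act S E n (QuotientGroup.mk x) = QuotientGroup.mk (conjAut E n n.2.2 x) := rfl

/-- `n` acts quadratically on the Frattini quotient of `E`. -/
def QuadAt (E : Subgroup Ω) (n : Ω) : Prop := ∀ x ∈ E, ⁅n, ⁅n, x⁆⁆ ∈ phi E

theorem comm_mem {E : Subgroup Ω} {n x : Ω} (hn : n ∈ Subgroup.normalizer (E : Set Ω))
    (hx : x ∈ E) : ⁅n, x⁆ ∈ E := by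
  rw [commutatorElement_def]
  exact E.mul_mem (mem_normalizer_conj hn hx) (E.inv_mem hx)

theorem mk_comm {E : Subgroup Ω} (n : normalizerIn S E) (x : E) :
    (QuotientGroup.mk (⟨⁅(n : Ω), (x : Ω)⁆, comm_mem n.2.2 x.2⟩ : E) : E ⧸ frattini E) =
      act S E n (QuotientGroup.mk x) * (QuotientGroup.mk x)⁻¹ := by
  rw [act_mk, ← QuotientGroup.mk_inv, ← QuotientGroup.mk_mul]
  rfl

theorem quadAt_iff {E : Subgroup Ω} (n : normalizerIn S E) :
    QuadAt E n ↔ ∀ v, act S E n (act S E n v * v⁻¹) = act S E n v * v⁻¹ := by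
  constructor
  · intro h v
    induction v using QuotientGroup.induction_on with
    | _ x =>
      rw [← mk_comm, ← mul_inv_eq_one, ← mk_comm, QuotientGroup.eq_one_iff, ← mem_phi]
      exact h x x.2
  · intro h x hx
    have := h (QuotientGroup.mk (⟨x, hx⟩ : E))
    rw [← mk_comm, ← mul_inv_eq_one, ← mk_comm, QuotientGroup.eq_one_iff, ← mem_phi] at this
    exact this

variable [Finite S] {p : ℕ} [hp : Fact p.Prime] {F : FusionSystem S} {E : Subgroup Ω}

namespace Setting

variable (h : Setting p F E)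
include h

theorem le : E ≤ S := h.hE.1.1

theorem finE : Finite E := finite_of_le h.le

theorem pE : IsPGroup p E := isPGroup_of_le h.hS h.le

theorem two : p ≠ 2 := by have := h.h5; omega

theorem bound_le {H N : Subgroup Ω} (hH : H ≤ S) (hN : N ≤ H)
    (hc : ∀ a ∈ H, ∀ b ∈ H, ⁅a, b⁆ ∈ N) (hpow : ∀ a ∈ H, a ^ p ∈ N) : N.relIndex H ≤ p ^ 3 := by
  have := h.bound (H.subgroupOf S) (N.subgroupOf S) (fun x hx => hN hx)
    (fun a ha b hb => hc a ha b hb) (fun a ha => hpow a ha)
  rwa [Subgroup.relIndex_subgroupOf hH] at this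

theorem comm_mem_phi {a b : Ω} (ha : a ∈ E) (hb : b ∈ E) : ⁅a, b⁆ ∈ phi E := by
  haveI := h.finE
  exact (mem_phi (x := ⁅(⟨a, ha⟩ : E), ⟨b, hb⟩⁆)).2
    (PGroups.commutator_le_frattini h.pE (Subgroup.commutator_mem_commutator
      (Subgroup.mem_top _) (Subgroup.mem_top _)))

theorem pow_mem_phi {a : Ω} (ha : a ∈ E) : a ^ p ∈ phi E := by
  haveI := h.finE
  exact (mem_phi (x := (⟨a, ha⟩ : E) ^ p)).2 (PGroups.pow_mem_frattini h.pE _)

theorem exp_quot (v : E ⧸ frattini E) : v ^ p = 1 := by
  haveI := h.finE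
  induction v using QuotientGroup.induction_on with
  | _ x =>
    rw [← QuotientGroup.mk_pow, QuotientGroup.eq_one_iff]
    exact PGroups.pow_mem_frattini h.pE x

theorem comm_quot (v w : E ⧸ frattini E) : v * w = w * v := by
  haveI := h.finE
  induction v using QuotientGroup.induction_on with
  | _ x =>
  induction w using QuotientGroup.induction_on with
  | _ y =>
    rw [← QuotientGroup.mk_mul, ← QuotientGroup.mk_mul, QuotientGroup.eq]
    refine PGroups.commutator_le_frattini h.pE ?_
    rw [show (x * y)⁻¹ * (y * x) = ⁅y⁻¹, x⁻¹⁆ by simp [commutatorElement_def, mul_assoc]]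
    exact Subgroup.commutator_mem_commutator (Subgroup.mem_top _) (Subgroup.mem_top _)

theorem card_quot : Nat.card (E ⧸ frattini E) = p ^ 3 := by
  rw [← Subgroup.index_eq_card, h.hrk]

theorem mem_inn_of_trivial {α : MulAut E} (hα : α ∈ F.autGroup E) (h1 : phiAct E α = 1) :
    α ∈ Inn E := by
  haveI := h.finE
  refine FusionModels.Pearl.mem_inn_of_stabilize h.hS h.hE (frattini E) (fun β _ m hm =>
    ((Subgroup.characteristic_iff_map_eq.mp (inferInstance : (frattini E).Characteristic)) β).le
      ⟨m, hm, rfl⟩) hα (fun x => ?_) fun m hm => ?_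
  · have := DFunLike.congr_fun h1 (QuotientGroup.mk x)
    rw [phiAct_mk, MulAut.one_apply, eq_comm, QuotientGroup.eq] at this
    exact this
  · exact mul_mem (inv_mem hm)
      (((Subgroup.characteristic_iff_map_eq.mp (inferInstance : (frattini E).Characteristic)) α).le
        ⟨m, hm, rfl⟩)

theorem mem_of_act_eq_one {n : normalizerIn S E} (hn : act S E n = 1) : (n : Ω) ∈ E :=
  FusionModels.Pearl.mem_of_mem_inn h.hE n.2.1 n.2.2 (h.mem_inn_of_trivial
    (autInducedBy_le_autGroup F h.le (conjAut_mem n.2.1 n.2.2)) hn)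

theorem act_of_mem {n : normalizerIn S E} (hn : (n : Ω) ∈ E) : act S E n = 1 := by
  haveI := h.finE
  have e : conjAut E (n : Ω) n.2.2 = MulAut.conj (⟨n, hn⟩ : E) :=
    MulEquiv.ext fun x => Subtype.ext rfl
  rw [act_eq, e, phiAct_conj h.pE]

theorem act_mem_img (n : normalizerIn S E) : act S E n ∈ img F E :=
  ⟨_, autInducedBy_le_autGroup F h.le (conjAut_mem n.2.1 n.2.2), rfl⟩

theorem finN : Finite (normalizerIn S E) := finite_of_le (normalizerIn_le S E)

theorem pN : IsPGroup p (normalizerIn S E) := isPGroup_of_le h.hS (normalizerIn_le S E)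

theorem finV : Finite (MulAut (E ⧸ frattini E)) := by
  haveI := h.finE
  exact Finite.of_injective (fun a : MulAut (E ⧸ frattini E) => (a : E ⧸ frattini E → E ⧸ frattini E))
    fun _ _ h' => MulEquiv.ext (congrFun h')

theorem exists_spe : ∃ Y : Subgroup (img F E), IsStronglyPEmbedded p Y := by
  haveI := h.finE
  haveI := finite_autGroup F h.le
  obtain ⟨hnorm, Y, hY⟩ := h.hE.2.2
  haveI := hnorm
  set f := (phiAct E).subgroupMap (F.autGroup E) with hf
  have hk : f.ker = (Inn E).subgroupOf (F.autGroup E) := by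
    ext α
    constructor
    · intro hα
      exact h.mem_inn_of_trivial α.2 (congrArg Subtype.val hα)
    · rintro ⟨x, hx⟩
      exact Subtype.ext (show phiAct E α = 1 by
        rw [show (α : MulAut E) = MulAut.conj x from hx.symm, phiAct_conj h.pE])
  exact ⟨_, spe_map hY ((QuotientGroup.quotientMulEquivOfEq hk.symm).trans
    (QuotientGroup.quotientKerEquivOfSurjective f ((phiAct E).subgroupMap_surjective _)))⟩

theorem exists_spe_mem {u : img F E} (hu : IsPGroup p (Subgroup.zpowers u)) :
    ∃ Y : Subgroup (img F E), IsStronglyPEmbedded p Y ∧ u ∈ Y := by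
  haveI := h.finV
  obtain ⟨Y, hY⟩ := h.exists_spe
  obtain ⟨T, hTY, -⟩ := StronglyPEmbedded.exists_sylow_le hY
  obtain ⟨T', hT'⟩ := hu.exists_le_sylow
  obtain ⟨g, hg⟩ := MulAction.exists_smul_eq (img F E) T T'
  refine ⟨_, spe_map hY (MulAut.conj g), ?_⟩
  have := hT' (Subgroup.mem_zpowers u)
  rw [← hg, Sylow.coe_subgroup_smul] at this
  obtain ⟨t, ht, hte⟩ := this
  exact ⟨t, hTY ht, hte⟩

theorem card_sylow_img (T : Sylow p (img F E)) : Nat.card T = p := by
  haveI := h.finE
  haveI := h.finV
  letI : CommGroup (E ⧸ frattini E) := { (inferInstance : Group (E ⧸ frattini E)) with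
    mul_comm := h.comm_quot }
  obtain ⟨Y, hY⟩ := h.exists_spe
  exact card_sylow h.two h.exp_quot (img F E).subtype Subtype.val_injective hY h.card_quot T

theorem card_range_act : Nat.card (act S E).range = p := by
  haveI := h.finE
  haveI := finite_autGroup F h.le
  haveI := h.finV
  obtain ⟨-, R, hR⟩ := (centralized_automized_of_fullyNormalized h.hS h.hF h.hE.2.1).2
  have hc := h.card_sylow_img (R.mapSurjective (f := (phiAct E).subgroupMap (F.autGroup E))
    ((phiAct E).subgroupMap_surjective _))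
  have e : ((R : Subgroup (F.autGroup E)).map ((phiAct E).subgroupMap (F.autGroup E))).map
      (img F E).subtype = (act S E).range := by
    ext a
    constructor
    · rintro ⟨_, ⟨α, hα, rfl⟩, rfl⟩
      rw [hR] at hα
      obtain ⟨g, hg, hx⟩ := mem_autInducedBy_iff.1 hα
      refine ⟨⟨g, hg, normalizer_of_induced hx⟩, ?_⟩
      rw [act_eq, show conjAut E g (normalizer_of_induced hx) = (α : MulAut E) from
        MulEquiv.ext fun x => Subtype.ext (hx x).symm]
      rfl
    · rintro ⟨n, rfl⟩
      have hα := autInducedBy_le_autGroup F h.le (conjAut_mem n.2.1 n.2.2)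
      refine ⟨_, ⟨⟨_, hα⟩, ?_, rfl⟩, rfl⟩
      rw [hR]
      exact conjAut_mem n.2.1 n.2.2
  rw [← e, Subgroup.card_map_of_injective Subtype.val_injective]
  exact hc

theorem relIndex_eq : E.relIndex (normalizerIn S E) = p := by
  have e : E.subgroupOf (normalizerIn S E) = (act S E).ker := by
    ext n
    exact ⟨fun hn => h.act_of_mem hn, fun hn => h.mem_of_act_eq_one hn⟩
  rw [Subgroup.relIndex, e, Subgroup.index_ker, h.card_range_act]

theorem zpowers_act {n : normalizerIn S E} (hn : (n : Ω) ∉ E) :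
    Subgroup.zpowers (act S E n) = (act S E).range := by
  haveI := h.finV
  exact zpowers_eq_of_card h.card_range_act ⟨n, rfl⟩ fun h' => hn (h.mem_of_act_eq_one h')

theorem isPGroup_zpowers_act (n : normalizerIn S E) :
    IsPGroup p (Subgroup.zpowers (⟨act S E n, h.act_mem_img n⟩ : img F E)) := by
  haveI := h.finV
  refine IsPGroup.of_injective
    (IsPGroup.of_card (p := p) (G := (act S E).range) (n := 1) (by rw [pow_one, h.card_range_act]))
    (MonoidHom.codRestrict ((img F E).subtype.comp (Subgroup.zpowers _).subtype) _ fun x => ?_)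
    fun a b hab => ?_
  · obtain ⟨k, hk⟩ := x.2
    exact ⟨n ^ k, by rw [map_zpow]; simp [← hk]⟩
  · exact Subtype.ext (Subtype.ext (congrArg (fun z : (act S E).range => (z : MulAut (E ⧸ frattini E))) hab))

/-- Quadratic action of one element outside `E` gives quadratic action of the normalizer. -/
theorem quadAt_of_quadAt {n₀ : normalizerIn S E} (hn₀ : (n₀ : Ω) ∉ E) (hq : QuadAt E n₀)
    {n : Ω} (hn : n ∈ normalizerIn S E) : QuadAt E n := by
  haveI := h.finV
  refine (quadAt_iff ⟨n, hn⟩).2 fun v => ?_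
  have hmem : act S E ⟨n, hn⟩ ∈ Submonoid.powers (act S E n₀) := by
    rw [(isOfFinOrder_of_finite _).mem_powers_iff_mem_zpowers, h.zpowers_act hn₀]
    exact ⟨_, rfl⟩
  obtain ⟨k, hk⟩ := hmem
  rw [← hk]
  have hd := (quadAt_iff n₀).1 hq v
  set d := act S E n₀ v * v⁻¹ with hd'
  have hv : act S E n₀ v = v * d := by rw [hd', h.comm_quot, inv_mul_cancel_right]
  obtain ⟨e1, e2⟩ := pow_apply_of_shift (act S E n₀) hd hv k
  rw [e1, h.comm_quot v, mul_inv_cancel_right, map_pow, e2]

/-- A `p`-subgroup containing a nontrivial induced automorphism meets the image in induced ones. -/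
theorem exists_conj_of_mem {α : MulAut E} (hα : α ∈ F.autGroup E)
    {H : Subgroup (MulAut (E ⧸ frattini E))} (hH : IsPGroup p H) (hαH : phiAct E α ∈ H)
    {n₀ : normalizerIn S E} (hn₀ : (n₀ : Ω) ∉ E) (hnH : act S E n₀ ∈ H) :
    ∃ n ∈ normalizerIn S E, ∀ x : E, ((α x : E) : Ω) = n * (x : Ω) * n⁻¹ := by
  haveI := h.finE
  haveI := h.finV
  obtain ⟨T, hT⟩ := (hH.comap_of_injective (img F E).subtype Subtype.val_injective).exists_le_sylow
  have hle : Subgroup.zpowers (⟨act S E n₀, h.act_mem_img n₀⟩ : img F E) = T := by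
    refine zpowers_eq_of_card (h.card_sylow_img T) (hT hnH) fun h' => ?_
    exact hn₀ (h.mem_of_act_eq_one (congrArg Subtype.val h'))
  have hmem : phiAct E α ∈ (act S E).range := by
    have h1 : (⟨phiAct E α, ⟨α, hα, rfl⟩⟩ : img F E) ∈ (T : Subgroup (img F E)) := hT hαH
    rw [← hle] at h1
    obtain ⟨k, hk⟩ := h1
    exact ⟨n₀ ^ k, by rw [map_zpow]; exact congrArg Subtype.val hk⟩
  obtain ⟨n, hn⟩ := hmem
  have hin := h.mem_inn_of_trivial (α := α * (conjAut E n n.2.2)⁻¹)
    (mul_mem hα (inv_mem (autInducedBy_le_autGroup F h.le (conjAut_mem n.2.1 n.2.2))))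
    (by rw [map_mul, map_inv, ← act_eq, hn, mul_inv_cancel])
  obtain ⟨e, he⟩ := hin
  refine ⟨(e : Ω) * n, (normalizerIn S E).mul_mem (le_normalizerIn h.le e.2) n.2, fun x => ?_⟩
  rw [eq_mul_inv_iff_mul_eq] at he
  rw [← he, MulAut.mul_apply, MulAut.conj_apply]
  simp [mul_assoc]

end Setting

end CfsgLib.Jordan.RankThree
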