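import Cfsg.Agent.Lib.Jordan.RankThree.Setup
import Cfsg.Agent.Lib.Jordan.RankThree.BlockThree

/-!
# Frames, torus elements and their extensions to the normalizer
-/

set_option autoImplicit false
set_option linter.style.haveILetI false
set_option linter.unusedSectionVars false

open scoped commutatorElement

namespace CfsgLib.Jordan.RankThree

open Cfsg Cfsg.FusionSystem CfsgLib.Alperin

theorem exists_alpha {p : ℕ} [hp : Fact p.Prime] (h5 : 5 ≤ p) :
    ∃ α : ZMod p, α ≠ 0 ∧ α ≠ 1 ∧ α ^ 2 ≠ 1 ∧ α ^ 3 ≠ 1 ∧ α ^ 5 ≠ 1 := by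
  obtain ⟨g, hg⟩ := IsCyclic.exists_generator (α := (ZMod p)ˣ)
  have ho : orderOf g = p - 1 := by
    rw [orderOf_eq_card_of_forall_mem_zpowers hg, Nat.card_eq_fintype_card, ZMod.card_units]
  have hn : ∀ k : ℕ, 0 < k → ¬(p - 1) ∣ k → (g : ZMod p) ^ k ≠ 1 := fun k _ hk h => hk (by
    rw [← ho]
    exact orderOf_dvd_of_pow_eq_one (Units.ext (by simpa using h)))
  have hodd : ¬(2 : ℕ) ∣ p := fun h => by
    rcases (Nat.dvd_prime hp.out).1 h with h' | h' <;> omega
  refine ⟨g, g.ne_zero, by simpa using hn 1 one_pos fun h => (by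
    have := Nat.le_of_dvd one_pos h; omega), hn 2 two_pos fun h => ?_, hn 3 (by norm_num) fun h => ?_,
    hn 5 (by norm_num) fun h => ?_⟩
  · have := Nat.le_of_dvd two_pos h; omega
  · have := Nat.le_of_dvd (by norm_num) h; omega
  · rcases (Nat.dvd_prime (by norm_num : Nat.Prime 5)).1 h with h' | h' <;> omega

theorem mk_mem_map {G : Type*} [Group G] {N K : Subgroup G} [N.Normal] (hNK : N ≤ K) (x : G) :
    QuotientGroup.mk' N x ∈ K.map (QuotientGroup.mk' N) ↔ x ∈ K := by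
  rw [← Subgroup.mem_comap, Subgroup.comap_map_eq_self (by rw [QuotientGroup.ker_mk']; exact hNK)]

variable {Ω : Type*} [Group Ω] {S : Subgroup Ω} [Finite S] {p : ℕ} [hp : Fact p.Prime]
  {F : FusionSystem S} {E : Subgroup Ω}

namespace Setting

variable (h : Setting p F E)
include h

theorem act_pow (n : normalizerIn S E) : act S E n ^ p = 1 := by
  have : (⟨act S E n, ⟨n, rfl⟩⟩ : (act S E).range) ^ p = 1 :=
    orderOf_dvd_iff_pow_eq_one.1 (h.card_range_act ▸ orderOf_dvd_natCard _)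
  exact congrArg Subtype.val this

/-- A frame for the quadratic action, with torus elements. -/
theorem frame {n : normalizerIn S E} (hn : (n : Ω) ∉ E) (hq : QuadAt E n) :
    ∃ (e f z : E) (U₁ U₂ : F.autGroup E),
      e⁻¹ * (U₁ : MulAut E) e ∈ frattini E ∧ (f * e)⁻¹ * (U₁ : MulAut E) f ∈ frattini E ∧
      z⁻¹ * (U₁ : MulAut E) z ∈ frattini E ∧
      (e * f⁻¹)⁻¹ * (U₂ : MulAut E) e ∈ frattini E ∧ f⁻¹ * (U₂ : MulAut E) f ∈ frattini E ∧
      z⁻¹ * (U₂ : MulAut E) z ∈ frattini E ∧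
      e ∉ frattini E ∧ z ∉ frattini E ⊔ Subgroup.zpowers e ∧
      f ∉ frattini E ⊔ Subgroup.zpowers e ⊔ Subgroup.zpowers z ∧
      (∀ x : E, x ∈ frattini E ⊔ Subgroup.zpowers e ⊔ Subgroup.zpowers z ↔
        ⁅(n : Ω), (x : Ω)⁆ ∈ phi E) ∧
      (∀ x : E, (⟨⁅(n : Ω), (x : Ω)⁆, comm_mem n.2.2 x.2⟩ : E) ∈
        frattini E ⊔ Subgroup.zpowers e) ∧
      ∀ α : ZMod p, α ≠ 0 → ∃ hh : F.autGroup E,
        (e ^ α.val)⁻¹ * (hh : MulAut E) e ∈ frattini E ∧
        (f ^ α⁻¹.val)⁻¹ * (hh : MulAut E) f ∈ frattini E ∧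
        z⁻¹ * (hh : MulAut E) z ∈ frattini E ∧
        ∀ m : normalizerIn S E, phiAct E hh * act S E m * (phiAct E hh)⁻¹ =
          act S E m ^ (α ^ 2).val := by
  haveI := h.finE
  haveI := h.finV
  letI : CommGroup (E ⧸ frattini E) := { (inferInstance : Group (E ⧸ frattini E)) with
    mul_comm := h.comm_quot }
  set u : img F E := ⟨act S E n, h.act_mem_img n⟩
  have hu1 : u ≠ 1 := fun h' => hn (h.mem_of_act_eq_one (congrArg Subtype.val h'))
  obtain ⟨Y, hY, huY⟩ := h.exists_spe_mem (h.isPGroup_zpowers_act n)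
  obtain ⟨e, f, z, U₁, U₂, -, a1, a2, a3, b1, b2, b3, he, hze, hfk, hker, hran, hkc⟩ :=
    exists_frame h.exp_quot h.two (img F E).subtype Subtype.val_injective hY
      (h.isPGroup_zpowers_act n) hu1 huY h.card_quot ((quadAt_iff n).1 hq)
  obtain ⟨e, rfl⟩ := QuotientGroup.mk'_surjective (frattini E) e
  obtain ⟨f, rfl⟩ := QuotientGroup.mk'_surjective (frattini E) f
  obtain ⟨z, rfl⟩ := QuotientGroup.mk'_surjective (frattini E) z
  obtain ⟨U₁', hU₁, hU₁e⟩ := U₁.2
  obtain ⟨U₂', hU₂, hU₂e⟩ := U₂.2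
  set q := QuotientGroup.mk' (frattini E) with hqdef
  have hlift : ∀ {φ : MulAut E} {x y : E}, phiAct E φ (q x) = q y → y⁻¹ * φ x ∈ frattini E :=
    fun {φ x y} he' => QuotientGroup.eq.1 (he'.symm.trans (phiAct_mk φ x))
  have hΦ : ∀ (K : Subgroup E) (x : E), q x ∈ (frattini E ⊔ K).map q ↔ x ∈ frattini E ⊔ K :=
    fun K x => mk_mem_map le_sup_left x
  have hmap : ∀ (K : Subgroup E), (frattini E ⊔ K).map q = K.map q := fun K => by
    rw [Subgroup.map_sup, hqdef, QuotientGroup.map_mk'_self, bot_sup_eq]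
  have hez : ∀ x : E, x ∈ frattini E ⊔ Subgroup.zpowers e ⊔ Subgroup.zpowers z ↔
      q x ∈ (moveHom (act S E n)).ker := fun x => by
    rw [sup_assoc, ← hΦ, hmap, Subgroup.map_sup, MonoidHom.map_zpowers, MonoidHom.map_zpowers,
      ← hker]
    rfl
  refine ⟨e, f, z, ⟨U₁', hU₁⟩, ⟨U₂', hU₂⟩, hlift ?_, hlift ?_, hlift ?_, hlift ?_, hlift ?_,
    hlift ?_, fun h' => he ((QuotientGroup.eq_one_iff e).2 h'), fun h' => hze ?_,
    fun h' => hfk ((hez f).1 h'), fun x => ?_, fun x => ?_, fun α hα => ?_⟩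
  · rw [hU₁e]; exact a1
  · rw [hU₁e, map_mul]; exact a2
  · rw [hU₁e]; exact a3
  · rw [hU₂e, map_mul, map_inv]; exact b1
  · rw [hU₂e]; exact b2
  · rw [hU₂e]; exact b3
  · rw [← MonoidHom.map_zpowers, ← hmap]
    exact (hΦ _ _).2 h'
  · rw [hez, mem_ker_moveHom, ← mul_inv_eq_one, hqdef, QuotientGroup.mk'_apply, ← mk_comm,
      QuotientGroup.eq_one_iff, ← mem_phi]
  · rw [← hΦ, hmap, MonoidHom.map_zpowers, ← hran]
    exact ⟨q x, (mk_comm n x).symm⟩
  obtain ⟨t, -, hte, htf, htz⟩ := exists_torus (img F E).subtype (h.exp_quot (q e))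
    (h.exp_quot (q f)) a1 a2 b2 b1 hα
  replace htz := htz (q z) a3 b3
  obtain ⟨hh, hhA, hhe⟩ := t.2
  simp only [Subgroup.coe_subtype] at hte htf htz
  rw [← hhe] at hte htf htz
  refine ⟨⟨hh, hhA⟩, hlift ?_, hlift ?_, hlift ?_, fun m => ?_⟩
  · rw [map_pow]; exact hte
  · rw [map_pow]; exact htf
  · exact htz
  set τ := phiAct E hh with hτ
  set ν := act S E n with hν
  -- the relation for `n`
  have hrel : τ * ν * τ⁻¹ = ν ^ (α ^ 2).val := by
    set d := ν (q f) * (q f)⁻¹ with hd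
    have hde : d ∈ Subgroup.zpowers (q e) := hran ▸ ⟨q f, rfl⟩
    have hνd : ν d = d := (quadAt_iff n).1 hq (q f)
    have hτd : τ d = d ^ α.val := by
      obtain ⟨i, hi⟩ := hde
      rw [← hi, map_zpow, hte, ← zpow_natCast, ← zpow_mul, mul_comm, zpow_mul, zpow_natCast]
    have hνf : ν (q f) = q f * d := by rw [hd, mul_left_comm, mul_inv_cancel, mul_one]
    have hfix : ∀ v ∈ (moveHom ν).ker, (τ * ν * τ⁻¹) v = v ∧ (ν ^ (α ^ 2).val) v = v := by
      intro v hv
      have hv' : τ⁻¹ v ∈ (moveHom ν).ker := by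
        have hle : (moveHom ν).ker ≤ (moveHom ν).ker.map τ.toMonoidHom := by
          haveI : Finite (E ⧸ frattini E) := inferInstance
          refine (Subgroup.eq_of_le_of_card_ge ?_ ?_).ge
          · rw [show (moveHom ν).ker = Subgroup.zpowers (q e) ⊔ Subgroup.zpowers (q z) from hker,
              Subgroup.map_sup, MonoidHom.map_zpowers, MonoidHom.map_zpowers]
            refine sup_le ?_ ?_
            · rw [MulEquiv.coe_toMonoidHom, hte]
              exact (Subgroup.zpowers_le.2 (pow_mem (Subgroup.mem_zpowers _) _)).trans le_sup_left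
            · rw [MulEquiv.coe_toMonoidHom, htz]
              exact le_sup_right
          · rw [Subgroup.card_map_of_injective (MulEquiv.injective _)]
        obtain ⟨w, hw, hwv⟩ := hle hv
        rw [← hwv]
        simpa using hw
      refine ⟨?_, (pow_apply_of_shift ν (map_one _) (show ν v = v * 1 by
        rw [mul_one]; exact mem_ker_moveHom.1 hv) _).1.trans (by simp)⟩
      rw [MulAut.mul_apply, MulAut.mul_apply, mem_ker_moveHom.1 hv', MulAut.apply_inv_self]
    have hqf : (τ * ν * τ⁻¹) (q f) = (ν ^ (α ^ 2).val) (q f) := by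
      have hinv : τ⁻¹ (q f) = (q f) ^ α.val := by
        refine τ.injective ?_
        rw [MulAut.apply_inv_self, map_pow, htf, ← pow_mul,
          pow_val_eq (h.exp_quot _) (k := (1 : ZMod p)), ZMod.val_one, pow_one]
        simp [hα]
      rw [MulAut.mul_apply, MulAut.mul_apply, hinv, map_pow, hνf, mul_pow, map_mul, map_pow,
        map_pow, htf, hτd, ← pow_mul, ← pow_mul, (pow_apply_of_shift ν hνd hνf _).1,
        pow_val_eq (h.exp_quot (q f)) (k := (1 : ZMod p)), ZMod.val_one, pow_one,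
        pow_val_eq (h.exp_quot d) (k := α ^ 2)]
      · simp [sq]
      · simp [hα]
    have htop : (τ * ν * τ⁻¹).toMonoidHom.eqLocus (ν ^ (α ^ 2).val).toMonoidHom = ⊤ := by
      set L := (τ * ν * τ⁻¹).toMonoidHom.eqLocus (ν ^ (α ^ 2).val).toMonoidHom
      have hlt : (moveHom ν).ker < L := lt_of_le_not_ge
        (fun v hv => (hfix v hv).1.trans (hfix v hv).2.symm) fun hle => hfk (hle hqf)
      obtain ⟨k, hk, hkc'⟩ := (Nat.dvd_prime_pow hp.out).1
        (h.card_quot ▸ Subgroup.card_subgroup_dvd_card L)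
      refine Subgroup.eq_top_of_card_eq _ ?_
      rw [hkc', h.card_quot]
      have : Nat.card (moveHom ν).ker < Nat.card L := by
        refine lt_of_le_of_ne (Subgroup.card_le_of_le hlt.le) fun e' => hlt.ne ?_
        exact Subgroup.eq_of_le_of_card_ge hlt.le e'.ge
      rw [hkc', show Nat.card (moveHom ν).ker = p ^ 2 from hkc] at this
      have := (Nat.pow_lt_pow_iff_right hp.out.one_lt).1 this
      rw [show k = 3 by omega]
    exact MulEquiv.ext fun v => (htop ▸ Subgroup.mem_top v :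
      v ∈ (τ * ν * τ⁻¹).toMonoidHom.eqLocus (ν ^ (α ^ 2).val).toMonoidHom)
  obtain ⟨k, hk⟩ : act S E m ∈ Subgroup.zpowers ν := h.zpowers_act hn ▸ ⟨m, rfl⟩
  show τ * act S E m * τ⁻¹ = _
  rw [← hk, ← conj_zpow, hrel, ← zpow_natCast, ← zpow_mul, mul_comm, zpow_mul, zpow_natCast]

/-- Torus elements extend to the normalizer. -/
theorem exists_extension {hh : MulAut E} (hhA : hh ∈ F.autGroup E) {k : ℕ}
    (hrel : ∀ m : normalizerIn S E, phiAct E hh * act S E m * (phiAct E hh)⁻¹ = act S E m ^ k) :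
    ∃ ψ : MulAut (normalizerIn S E), ψ ∈ F.autGroup (normalizerIn S E) ∧
      (∀ x : E, ((ψ ⟨x, le_normalizerIn h.le x.2⟩ : normalizerIn S E) : Ω) = hh x) ∧
      ∀ m : normalizerIn S E, ((ψ m : normalizerIn S E) : Ω) * ((m : Ω) ^ k)⁻¹ ∈ E := by
  haveI := h.finE
  haveI := h.finN
  set φ := E.subtype.comp hh.toMonoidHom
  have hφ : φ ∈ F.Hom E := (mem_autGroup_iff F h.le).1 hhA
  have hr : φ.range = E := by
    ext x
    exact ⟨by rintro ⟨y, rfl⟩; exact (hh y).2, fun hx => ⟨hh.symm ⟨x, hx⟩, by simp [φ]⟩⟩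
  have hext : normalizerIn S E ≤ extender S E φ := by
    intro m hm
    set m' : normalizerIn S E := ⟨m, hm⟩
    obtain ⟨d, hd⟩ := h.mem_inn_of_trivial
      (α := hh * conjAut E m hm.2 * hh⁻¹ * (conjAut E ((m' ^ k : normalizerIn S E) : Ω) (m' ^ k).2.2)⁻¹)
      (mul_mem (mul_mem (mul_mem hhA (autInducedBy_le_autGroup F h.le (conjAut_mem hm.1 hm.2)))
        (inv_mem hhA)) (inv_mem (autInducedBy_le_autGroup F h.le (conjAut_mem (m' ^ k).2.1 _))))
      (by
        rw [map_mul, map_mul, map_mul, map_inv, map_inv, ← act_eq, ← act_eq m', hrel, map_pow,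
          mul_inv_cancel])
    refine mem_extender_iff.2 ⟨hm.1, hm.2, (d : Ω) * (m' ^ k : normalizerIn S E),
      S.mul_mem (h.le d.2) (m' ^ k).2.1, fun x hx => ?_⟩
    rw [eq_mul_inv_iff_mul_eq, eq_mul_inv_iff_mul_eq] at hd
    have := congrArg Subtype.val (DFunLike.congr_fun hd x)
    simp only [MulAut.mul_apply, MulAut.conj_apply, Subgroup.coe_mul, InvMemClass.coe_inv,
      conjAut_apply] at this
    show ((hh ⟨m * x * m⁻¹, hx⟩ : E) : Ω) = _
    rw [show (⟨m * x * m⁻¹, hx⟩ : E) = conjAut E m hm.2 x from rfl, ← this]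
    simp [φ, mul_assoc]
  obtain ⟨χ, hχ, hχE⟩ := (receptive_of_fullyNormalized h.hS h.hF h.hE.2.1).2 E φ hφ hr
  have hres := restrict_mem hχ hext
  have hEN := le_normalizerIn (S := S) h.le
  have hmapE : (E.subgroupOf (normalizerIn S E)).map (χ.comp (Subgroup.inclusion hext)) = E := by
    conv_rhs => rw [← hr]
    ext y
    constructor
    · rintro ⟨x, hx, rfl⟩
      exact ⟨⟨x, hx⟩, (hχE x hx (hext x.2)).symm⟩
    · rintro ⟨x, rfl⟩
      exact ⟨⟨x, hEN x.2⟩, x.2, hχE x x.2 _⟩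
  obtain ⟨ψ, hψ, hψx⟩ := exists_aut_of_hom' F hres fun x =>
    apply_mem_normalizerIn hres hEN hmapE x x.2.2
  have hψE : ∀ x : E, ((ψ ⟨x, hEN x.2⟩ : normalizerIn S E) : Ω) = hh x := fun x =>
    (hψx _).trans (hχE x x.2 _)
  refine ⟨ψ, hψ, hψE, fun m => ?_⟩
  have hact : act S E (ψ m) = act S E m ^ k := by
    rw [← hrel m]
    refine MulEquiv.ext fun v => ?_
    obtain ⟨y, rfl⟩ := QuotientGroup.mk'_surjective (frattini E) v
    obtain ⟨x, rfl⟩ := hh.surjective y
    rw [QuotientGroup.mk'_apply, MulAut.mul_apply, MulAut.mul_apply, act_mk, ← phiAct_mk hh,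
      MulAut.inv_apply_self, act_mk, phiAct_mk]
    refine congrArg _ (Subtype.ext ?_)
    rw [conjAut_apply, ← hψE x, ← hψE (conjAut E m m.2.2 x)]
    conv_lhs => rw [← InvMemClass.coe_inv, ← Subgroup.coe_mul, ← Subgroup.coe_mul, ← map_inv, ← map_mul,
      ← map_mul]
    rfl
  exact h.mem_of_act_eq_one (n := ψ m * (m ^ k)⁻¹) (by rw [map_mul, map_inv, hact, map_pow,
    mul_inv_cancel])

/-- With quadratic action the `p`-th powers in the normalizer lie in the Frattini subgroup. -/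
theorem pow_mem_phi_of_quad (hq : ∀ m ∈ normalizerIn S E, QuadAt E m) {n : Ω}
    (hn : n ∈ normalizerIn S E) : n ^ p ∈ phi E := by
  haveI := h.finE
  by_cases hnE : n ∈ E
  · exact h.pow_mem_phi hnE
  set n' : normalizerIn S E := ⟨n, hn⟩
  obtain ⟨α, ha0, ha1, ha2, -, -⟩ := exists_alpha (p := p) h.h5
  obtain ⟨e, f, z, -, -, -, -, -, -, -, -, he, hze, -, hker, -, htor⟩ := h.frame (n := n') hnE (hq n hn)
  obtain ⟨hh, hhe, -, hhz, hrel⟩ := htor α ha0
  set k := (α ^ 2).val with hk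
  obtain ⟨ψ, -, hψE, hψN⟩ := h.exists_extension hh.2 hrel
  have hnp : n ^ p ∈ E := by
    have h1 : (n' ^ p : normalizerIn S E) ∈ (act S E).ker := by
      rw [MonoidHom.mem_ker, map_pow, h.act_pow]
    simpa using h.mem_of_act_eq_one h1
  set v : E := ⟨n ^ p, hnp⟩
  have hv : v ∈ frattini E ⊔ Subgroup.zpowers e ⊔ Subgroup.zpowers z := by
    rw [hker, show ⁅(n' : Ω), (v : Ω)⁆ = 1 from
      commutatorElement_eq_one_iff_mul_comm.2 ((Commute.refl n).pow_right p).eq]
    exact one_mem _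
  obtain ⟨a, hea, b, hzb, hab⟩ := Subgroup.mem_sup_of_normal_left.1 (sup_assoc (frattini E) _ _ ▸ hv)
  set q := QuotientGroup.mk' (frattini E) with hqdef
  obtain ⟨i, j, hij⟩ : ∃ i j : ℤ, q v = q e ^ i * q z ^ j := by
    have hb : q b ∈ Subgroup.zpowers (q e) ⊔ Subgroup.zpowers (q z) := by
      rw [← MonoidHom.map_zpowers, ← MonoidHom.map_zpowers, ← Subgroup.map_sup]
      exact ⟨b, hzb, rfl⟩
    haveI : (Subgroup.zpowers (q e)).Normal :=
      ⟨fun x hx g => by rw [h.comm_quot g x, mul_inv_cancel_right]; exact hx⟩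
    obtain ⟨_, ⟨i, rfl⟩, _, ⟨j, rfl⟩, hx⟩ := Subgroup.mem_sup_of_normal_left.1 hb
    exact ⟨i, j, by rw [← hab, map_mul, show q a = 1 from (QuotientGroup.eq_one_iff a).2 hea, one_mul,
      ← hx]⟩
  -- compare `(ψ n) ^ p` in two ways
  set m := n' ^ k with hm
  set d : E := ⟨((ψ n' : normalizerIn S E) : Ω) * ((m : normalizerIn S E) : Ω)⁻¹, by
    simpa [hm] using hψN n'⟩ with hd
  clear_value m
  set w := act S E m (q d) * (q d)⁻¹ with hw
  have hwm : act S E m w = w := (quadAt_iff m).1 (hq m m.2) (q d)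
  have hdm : act S E m (q d) = q d * w := by rw [hw, h.comm_quot, inv_mul_cancel_right]
  have key : ∀ r : ℕ, ∃ x : E, q x = q d ^ r * w ^ r.choose 2 ∧
      ((ψ n' : normalizerIn S E) : Ω) ^ r = x * (m : Ω) ^ r := by
    intro r
    induction r with
    | zero => exact ⟨1, by simp, by simp⟩
    | succ r ih =>
      obtain ⟨x, hx1, hx2⟩ := ih
      refine ⟨x * conjAut E ((m ^ r : normalizerIn S E) : Ω) (m ^ r).2.2 d, ?_, ?_⟩
      · rw [map_mul, hx1, show q (conjAut E ((m ^ r : normalizerIn S E) : Ω) (m ^ r).2.2 d) =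
          act S E (m ^ r) (q d) from rfl, map_pow,
          (pow_apply_of_shift (act S E m) hwm hdm r).1, Nat.choose_succ_succ' r 1,
          Nat.choose_one_right, pow_add w, pow_succ (q d)]
        simp only [mul_assoc]
        rw [← mul_assoc (w ^ r.choose 2), h.comm_quot (w ^ r.choose 2) (q d), mul_assoc,
          h.comm_quot (w ^ r.choose 2) (w ^ r)]
      · rw [pow_succ, hx2, Subgroup.coe_mul, conjAut_apply, hd, SubgroupClass.coe_pow, pow_succ]
        group
  obtain ⟨x, hx1, hx2⟩ := key p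
  have hx0 : q x = 1 := by
    rw [hx1, show (q d) ^ p = 1 from h.exp_quot _,
      dvd_choose_of_lt (by norm_num) (by have := h.h5; omega) (h.exp_quot w), one_mul]
  have hpow : ((hh : MulAut E) v : Ω) = x * (v : Ω) ^ k := by
    rw [← hψE v, show (v : Ω) ^ k = (m : Ω) ^ p by
      rw [hm, SubgroupClass.coe_pow, ← pow_mul, ← pow_mul, mul_comm], ← hx2, ← SubgroupClass.coe_pow,
      ← map_pow]
    rfl
  have hq1 : phiAct E hh (q v) = q v ^ k := by
    rw [hqdef, QuotientGroup.mk'_apply, phiAct_mk,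
      show (hh : MulAut E) v = x * v ^ k from Subtype.ext (by simpa using hpow),
      QuotientGroup.mk_mul, QuotientGroup.mk_pow, show (QuotientGroup.mk x : E ⧸ frattini E) = 1 from hx0,
      one_mul]
  have hte : phiAct E hh (q e) = q e ^ α.val := by
    rw [hqdef, QuotientGroup.mk'_apply, phiAct_mk, ← QuotientGroup.mk_pow]
    exact (QuotientGroup.eq.2 hhe).symm
  have htz : phiAct E hh (q z) = q z := by
    rw [hqdef, QuotientGroup.mk'_apply, phiAct_mk]
    exact (QuotientGroup.eq.2 hhz).symm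
  have hcoef : q e ^ (i * ((α.val : ℤ) - k)) = q z ^ (j * ((k : ℤ) - 1)) := by
    rw [hij, map_mul, map_zpow, map_zpow, hte, htz, (show Commute (q e ^ i) (q z ^ j) from
      h.comm_quot _ _).mul_pow, ← zpow_natCast, ← zpow_natCast, ← zpow_natCast, ← zpow_mul, ← zpow_mul,
      ← zpow_mul] at hq1
    rw [mul_sub, mul_sub, mul_one, zpow_sub, zpow_sub, mul_inv_eq_iff_eq_mul, mul_assoc,
      ← (show Commute (q e ^ (i * (k : ℤ))) (q z ^ j)⁻¹ from h.comm_quot _ _).eq, ← mul_assoc,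
      eq_mul_inv_iff_mul_eq, mul_comm i, hq1]
    exact h.comm_quot _ _
  have hzne : (q z) ≠ 1 := fun h' => hze (Subgroup.mem_sup_left ((QuotientGroup.eq_one_iff z).1 h'))
  have hej : (p : ℤ) ∣ j * ((k : ℤ) - 1) := by
    by_contra hnd
    have hmem : q z ∈ Subgroup.zpowers (q e) := mem_of_zpow_mem
      (show (q z) ^ p ∈ _ by rw [h.exp_quot]; exact one_mem _) hnd (hcoef ▸ ⟨_, rfl⟩)
    rw [← MonoidHom.map_zpowers] at hmem
    obtain ⟨y, hy, hyz⟩ := hmem
    refine hze ?_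
    rw [← mul_inv_cancel_left y z]
    exact mul_mem (Subgroup.mem_sup_right hy) (Subgroup.mem_sup_left (QuotientGroup.eq.1 hyz))
  have hei : (p : ℤ) ∣ i * ((α.val : ℤ) - k) := dvd_of_zpow_eq_one (h.exp_quot _)
    (fun h' => he ((QuotientGroup.eq_one_iff e).1 h'))
    (hcoef.trans (zpow_mem_of_pow_mem (R := ⊥) (Subgroup.mem_bot.2 (h.exp_quot (q z))) hej |>
      Subgroup.mem_bot.1))
  have hcast : ∀ c : ℤ, (p : ℤ) ∣ c ↔ (c : ZMod p) = 0 := fun c =>
    (ZMod.intCast_zmod_eq_zero_iff_dvd c p).symm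
  have hpi : (p : ℤ) ∣ i := ((Nat.prime_iff_prime_int.1 hp.out).dvd_or_dvd hei).resolve_right fun h' => by
    rw [hcast] at h'
    push_cast at h'
    rw [hk, ZMod.natCast_zmod_val, ZMod.natCast_zmod_val, sub_eq_zero, sq] at h'
    exact ha1 (mul_left_cancel₀ ha0 (by rw [← h', mul_one])).symm
  have hpj : (p : ℤ) ∣ j := ((Nat.prime_iff_prime_int.1 hp.out).dvd_or_dvd hej).resolve_right fun h' => by
    rw [hcast] at h'
    push_cast at h'
    rw [hk, ZMod.natCast_zmod_val, sub_eq_zero] at h'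
    exact ha2 h'
  refine (mem_phi (x := v)).2 ((QuotientGroup.eq_one_iff v).1 (Subgroup.mem_bot.1 ?_))
  show q v ∈ (⊥ : Subgroup (E ⧸ frattini E))
  rw [hij]
  exact mul_mem (zpow_mem_of_pow_mem (Subgroup.mem_bot.2 (h.exp_quot _)) hpi)
    (zpow_mem_of_pow_mem (Subgroup.mem_bot.2 (h.exp_quot _)) hpj)

/-- Without quadratic action the Frattini quotient is irreducible. -/
theorem irreducible_lift {n : normalizerIn S E} (hn : (n : Ω) ∉ E) (hnq : ¬QuadAt E n)
    (U : Subgroup E) (hΦ : frattini E ≤ U) (hU : ∀ α ∈ F.autGroup E, ∀ x ∈ U, α x ∈ U) :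
    U = frattini E ∨ U = ⊤ := by
  haveI := h.finE
  haveI := h.finV
  letI : CommGroup (E ⧸ frattini E) := { (inferInstance : Group (E ⧸ frattini E)) with
    mul_comm := h.comm_quot }
  set u : img F E := ⟨act S E n, h.act_mem_img n⟩
  have hu1 : u ≠ 1 := fun h' => hn (h.mem_of_act_eq_one (congrArg Subtype.val h'))
  obtain ⟨Y, hY, huY⟩ := h.exists_spe_mem (h.isPGroup_zpowers_act n)
  have := irreducible h.exp_quot h.two (img F E).subtype Subtype.val_injective hY
    (h.isPGroup_zpowers_act n) hu1 huY h.card_quot (fun hh => hnq ((quadAt_iff n).2 hh))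
    (U.map (QuotientGroup.mk' _)) (by
      rintro ⟨_, α, hα, rfl⟩ _ ⟨x, hx, rfl⟩
      exact ⟨α x, hU α hα x hx, rfl⟩)
  rcases this with h' | h'
  · left
    refine le_antisymm (fun x hx => ?_) hΦ
    have : QuotientGroup.mk' (frattini E) x ∈ U.map (QuotientGroup.mk' _) := ⟨x, hx, rfl⟩
    rw [h', Subgroup.mem_bot] at this
    exact (QuotientGroup.eq_one_iff x).1 this
  · right
    refine eq_top_iff.2 fun x _ => (mk_mem_map hΦ x).1 ?_
    rw [h']
    exact Subgroup.mem_top _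

/-- The flag of a non-quadratic element. -/
theorem flag_of_not_quad {n : normalizerIn S E} (hn : (n : Ω) ∉ E) (hnq : ¬QuadAt E n)
    {F' : Subgroup E} (hΦ : frattini E ≤ F') (hidx : F'.index = p)
    (hF : ∀ x : E, x⁻¹ * conjAut E n n.2.2 x ∈ F') {y : E} (hy : y ∉ F') {w l : E}
    (hw : w = y⁻¹ * conjAut E n n.2.2 y) (hl : l = w⁻¹ * conjAut E n n.2.2 w) :
    l ∉ frattini E ∧ l⁻¹ * conjAut E n n.2.2 l ∈ frattini E := by
  haveI := h.finE
  haveI := h.finV
  letI : CommGroup (E ⧸ frattini E) := { (inferInstance : Group (E ⧸ frattini E)) with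
    mul_comm := h.comm_quot }
  set θ := conjAut E (n : Ω) n.2.2 with hθ
  set ν := act S E n with hν
  set q := QuotientGroup.mk' (frattini E) with hq
  have hqd : ∀ x : E, q (x⁻¹ * θ x) = moveHom ν (q x) := fun x => by
    rw [map_mul, map_inv, moveHom_apply, mul_comm]
    rfl
  set W := F'.map q with hW
  have hWinv : ∀ v ∈ W, ν v ∈ W := by
    rintro _ ⟨x, hx, rfl⟩
    refine ⟨x * (x⁻¹ * θ x), mul_mem hx (hF x), ?_⟩
    rw [mul_inv_cancel_left]
    rfl
  have hWi : W.index = p := by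
    rw [hW, Subgroup.index_map_eq _ (QuotientGroup.mk'_surjective _)
      (by rw [QuotientGroup.ker_mk']; exact hΦ), hidx]
  have hWc : Nat.card W ∣ p ^ 2 := by
    have := W.card_mul_index
    rw [hWi, h.card_quot, pow_succ p 2] at this
    exact dvd_of_eq (Nat.eq_of_mul_eq_mul_right hp.out.pos this)
  let uW : MulAut W := MulEquiv.ofBijective
    ((ν.toMonoidHom.comp W.subtype).codRestrict W fun v => hWinv v v.2)
    (Finite.injective_iff_bijective.1 fun a b hab =>
      Subtype.ext (ν.injective (congrArg Subtype.val hab)))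
  have huW : ∀ (r : ℕ) (v : W), (((uW ^ r) v : W) : E ⧸ frattini E) = (ν ^ r) v := fun r => by
    induction r with
    | zero => intro v; rfl
    | succ r ih => intro v; rw [pow_succ, pow_succ, MulAut.mul_apply, MulAut.mul_apply, ih]; rfl
  have huWp : IsPGroup p (Subgroup.zpowers uW) := by
    rintro ⟨_, i, rfl⟩
    refine ⟨1, Subtype.ext ?_⟩
    have : uW ^ p = 1 := MulEquiv.ext fun v => Subtype.ext (by rw [huW, h.act_pow]; rfl)
    show (uW ^ i) ^ p ^ 1 = 1
    rw [pow_one, ← zpow_natCast, ← zpow_mul, mul_comm, zpow_mul, zpow_natCast, this, one_zpow]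
  have hquadW : ∀ v ∈ W, moveHom ν (moveHom ν v) = 1 := fun v hv => by
    have := congrArg Subtype.val (quad_of_card_dvd_sq hWc (fun x => Subtype.ext (h.exp_quot x))
      huWp ⟨v, hv⟩)
    exact mul_inv_eq_one.2 this
  set K2 := ((moveHom ν).comp (moveHom ν)).ker with hK2
  have hyK : q y ∉ K2 := fun hyK => hnq ((quadAt_iff n).2 fun v => mul_inv_eq_one.1 (by
    have hlt : W < K2 := lt_of_le_not_ge hquadW fun hle => hy ((mk_mem_map hΦ y).1 (hle hyK))
    have hK : K2 = ⊤ := by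
      have e := Subgroup.relIndex_mul_index hlt.le
      rw [hWi] at e
      rcases hp.out.eq_one_or_self_of_dvd _ (Dvd.intro _ e) with h' | h'
      · exact absurd (Subgroup.relIndex_eq_one.1 h') hlt.not_ge
      · rw [h'] at e
        exact Subgroup.index_eq_one.1 (by simpa [hp.out.ne_zero] using e)
    exact MonoidHom.mem_ker.1 (show v ∈ K2 by rw [hK]; exact Subgroup.mem_top v)))
  have hqw : q w = moveHom ν (q y) := hw ▸ hqd y
  have hql : q l = moveHom ν (q w) := hl ▸ hqd w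
  refine ⟨fun h' => hyK ?_, ?_⟩
  · rw [hK2, MonoidHom.mem_ker, MonoidHom.comp_apply, ← hqw, ← hql]
    exact (QuotientGroup.eq_one_iff l).2 h'
  · refine (QuotientGroup.eq_one_iff _).1 ?_
    show q (l⁻¹ * θ l) = 1
    rw [hqd, hql]
    exact hquadW _ ⟨w, hw ▸ hF y, rfl⟩

end Setting

end CfsgLib.Jordan.RankThree
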