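import Cfsg.Agent.Lib.Jordan.RankThree.Layers
import Cfsg.Agent.Lib.FusionExamples.CentricExtension

/-!
# A mover seen on the layers of the normalizer
-/

set_option autoImplicit false
set_option linter.style.haveILetI false
set_option linter.unusedSectionVars false

open scoped commutatorElement

namespace CfsgLib.Jordan.RankThree

open Cfsg Cfsg.FusionSystem CfsgLib.Alperin

/-- The automorphisms preserving a subgroup. -/
def stabSub {G : Type*} [Group G] (A : Subgroup G) : Subgroup (MulAut G) where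
  carrier := {α | A.map α.toMonoidHom = A}
  one_mem' := Subgroup.map_id A
  mul_mem' := fun {α β} (hα : A.map α.toMonoidHom = A) (hβ : A.map β.toMonoidHom = A) => by
    show A.map (α * β).toMonoidHom = A
    rw [show (α * β).toMonoidHom = α.toMonoidHom.comp β.toMonoidHom from rfl, ← Subgroup.map_map,
      hβ, hα]
  inv_mem' := fun {α} (hα : A.map α.toMonoidHom = A) => by
    show A.map (α⁻¹).toMonoidHom = A
    conv_lhs => rw [← hα]
    rw [Subgroup.map_map, show (α⁻¹).toMonoidHom.comp α.toMonoidHom = (α⁻¹ * α).toMonoidHom from rfl,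
      inv_mul_cancel]
    exact Subgroup.map_id A

theorem mem_stabSub_of_le {G : Type*} [Group G] [Finite G] {A : Subgroup G} {α : MulAut G}
    (h : ∀ x ∈ A, α x ∈ A) : α ∈ stabSub A :=
  Subgroup.eq_of_le_of_card_ge (by rintro _ ⟨x, hx, rfl⟩; exact h x hx)
    (Subgroup.card_map_of_injective (MulEquiv.injective _)).ge

theorem apply_mem_stabSub {G : Type*} [Group G] {A : Subgroup G} {α : MulAut G} (h : α ∈ stabSub A)
    {x : G} (hx : x ∈ A) : α x ∈ A :=
  (show A.map α.toMonoidHom = A from h).le ⟨x, hx, rfl⟩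

/-- The action on the quotient by a preserved normal subgroup. -/
def stabAct {G : Type*} [Group G] (A : Subgroup G) [A.Normal] : stabSub A →* MulAut (G ⧸ A) where
  toFun α := QuotientGroup.congr A A (α : MulAut G) α.2
  map_one' := MulEquiv.ext fun x => by
    induction x using QuotientGroup.induction_on
    rfl
  map_mul' _ _ := MulEquiv.ext fun x => by
    induction x using QuotientGroup.induction_on
    rfl

theorem eq_one_of_pow_val_eq {p : ℕ} [hp : Fact p.Prime] {G : Type*} [Group G] {x : G}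
    (hx : x ^ p = 1) {a b : ZMod p} (hab : a ≠ b) (h : x ^ a.val = x ^ b.val) : x = 1 := by
  by_contra hne
  refine hab (ZMod.val_injective p ?_)
  have h2 := pow_eq_pow_iff_modEq.1 h
  rw [orderOf_eq_prime hx hne] at h2
  exact h2.eq_of_lt_of_lt (ZMod.val_lt a) (ZMod.val_lt b)

variable {Ω : Type*} [Group Ω] {S : Subgroup Ω} [Finite S] {p : ℕ} [hp : Fact p.Prime]
  {F : FusionSystem S} {E : Subgroup Ω}

namespace Setting

variable (h : Setting p F E)
include h

/-- An automorphism of the normalizer trivial on the layers is inner. -/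
theorem inner_of_layers {C1 C : Subgroup Ω} {b f : Ω} (L : Layers p F E C1 C b f)
    {γ : MulAut (normalizerIn S E)} (hγ : γ ∈ F.autGroup (normalizerIn S E))
    (h1 : ∀ x : normalizerIn S E, (x : Ω) ∈ C1 → ((x⁻¹ * γ x : normalizerIn S E) : Ω) ∈ phi E)
    (h2 : ∀ x : normalizerIn S E, (x : Ω) ∈ C → ((x⁻¹ * γ x : normalizerIn S E) : Ω) ∈ C1)
    (h3 : ∀ x : normalizerIn S E, (x : Ω) ∈ E → ((x⁻¹ * γ x : normalizerIn S E) : Ω) ∈ C) :
    ∃ n, γ = MulAut.conj n := by
  haveI := h.finE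
  haveI := h.finN
  haveI := h.finV
  letI : CommGroup (E ⧸ frattini E) := { (inferInstance : Group (E ⧸ frattini E)) with
    mul_comm := h.comm_quot }
  have hEN : E ≤ (normalizerIn S E) := le_normalizerIn h.le
  have hγE : ∀ x : (normalizerIn S E), (x : Ω) ∈ E → ((γ x : (normalizerIn S E)) : Ω) ∈ E := fun x hx => by
    have := E.mul_mem hx (L.CE (h3 x hx))
    simpa using this
  obtain ⟨α, hα, hαx⟩ := exists_aut_of_hom' F
    (restrict_mem ((mem_autGroup_iff F (normalizerIn_le S E)).1 hγ) hEN)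
    (fun x => hγE (Subgroup.inclusion hEN x) x.2)
  have hαv : ∀ x : E, ((α x : E) : Ω) = ((γ (Subgroup.inclusion hEN x) : (normalizerIn S E)) : Ω) := hαx
  set q := QuotientGroup.mk' (frattini E)
  set P := (C.subgroupOf E).map q with hP
  set L' := (C1.subgroupOf E).map q with hL'
  have hLP : L' ≤ P := Subgroup.map_mono fun x hx => L.C1C hx
  have hmv : ∀ (β : MulAut E) (x : E), phiAct E β (q x) * (q x)⁻¹ = q (x⁻¹ * β x) := fun β x => by
    rw [map_mul, map_inv, mul_comm]; rfl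
  have hq1 : ∀ x : E, (x : Ω) ∈ phi E → q x = 1 := fun x hx =>
    (QuotientGroup.eq_one_iff x).2 (mem_phi.1 hx)
  have hflag : ∀ β : MulAut E, (∀ x : E, (x : Ω) ∈ C1 → ((x⁻¹ * β x : E) : Ω) ∈ phi E) →
      (∀ x : E, (x : Ω) ∈ C → ((x⁻¹ * β x : E) : Ω) ∈ C1) →
      (∀ x : E, ((x⁻¹ * β x : E) : Ω) ∈ C) → phiAct E β ∈ flagStab L' P := by
    intro β k1 k2 k3
    refine mem_flagStab hLP ?_ ?_ ?_
    · rintro _ ⟨x, hx, rfl⟩
      rw [← mul_inv_eq_one, hmv]
      exact hq1 _ (k1 x hx)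
    · rintro _ ⟨x, hx, rfl⟩
      rw [hmv]
      exact ⟨_, k2 x hx, rfl⟩
    · intro v
      obtain ⟨x, rfl⟩ := QuotientGroup.mk'_surjective (frattini E) v
      rw [hmv]
      exact ⟨_, k3 x, rfl⟩
  have hbC : ∀ x : E, ((x⁻¹ * conjAut E b L.bN.2 x : E) : Ω) = ⁅(x : Ω)⁻¹, b⁆ := fun x => by
    simp [commutatorElement_def, mul_assoc]
  have hdiv : ∀ (x : E), (x : Ω)⁻¹ ∈ (normalizerIn S E) := fun x => (normalizerIn S E).inv_mem (hEN x.2)
  obtain ⟨n, hnN, hn⟩ := h.exists_conj_of_mem hα (isPGroup_flagStab h.two h.exp_quot L' P)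
    (hflag α (fun x hx => by simpa [hαv] using h1 (Subgroup.inclusion hEN x) hx)
      (fun x hx => by simpa [hαv] using h2 (Subgroup.inclusion hEN x) hx)
      (fun x => by simpa [hαv] using h3 (Subgroup.inclusion hEN x) x.2))
    (n₀ := ⟨b, L.bN⟩) L.bE
    (hflag (conjAut E b L.bN.2)
      (fun x hx => by
        rw [hbC, ← commutatorElement_inv]
        exact (phi E).inv_mem (L.commC b L.bN _ (L.C1C (C1.inv_mem hx))))
      (fun x _ => by rw [hbC]; exact L.commN _ (hdiv x) b L.bN)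
      (fun x => by rw [hbC]; exact L.C1C (L.commN _ (hdiv x) b L.bN)))
  set n' : (normalizerIn S E) := ⟨n, hnN⟩
  have hconj : MulAut.conj n' ∈ F.autGroup (normalizerIn S E) :=
    inn_le_autGroup F (normalizerIn_le S E) ⟨n', rfl⟩
  have hfix : ∀ x : (normalizerIn S E), (x : Ω) ∈ E → ((MulAut.conj n')⁻¹ * γ) x = x := fun x hx => by
    rw [MulAut.mul_apply]
    have e1 : γ x = MulAut.conj n' x := Subtype.ext (by
      have := hn ⟨x, hx⟩
      rw [hαv] at this
      exact this)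
    rw [e1, MulAut.inv_apply_self]
  obtain ⟨n₂, hn₂⟩ := FusionExamples.aut_fixing_centric_mem_inn h.hS h.hF (normalizerIn_le S E) hEN
    (inf_le_right : (normalizerIn S E) ≤ Subgroup.normalizer (E : Set Ω)) h.hE.1
    (mul_mem (inv_mem hconj) hγ) hfix
  exact ⟨n' * n₂, by rw [map_mul, hn₂, mul_inv_cancel_left]⟩

end Setting

/-- The image of the normalizer of `E` in the normalizer of the normalizer. -/
abbrev outerN (S E : Subgroup Ω) : Subgroup Ω := normalizerIn S (normalizerIn S E)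

theorem normalizer_le_outerN (S E : Subgroup Ω) : normalizerIn S E ≤ outerN S E :=
  le_inf inf_le_left Subgroup.le_normalizer

theorem Mover.mem_outerN {g : Ω} (hg : Mover S E g) : g ∈ outerN S E := ⟨hg.memS, hg.norm⟩

theorem Layers.outer_cases {x : Ω} (hx : x ∈ outerN S E) : x ∈ normalizerIn S E ∨ Mover S E x := by
  by_cases h' : x ∈ normalizerIn S E
  · exact Or.inl h'
  · exact Or.inr ⟨hx.1, hx.2, h'⟩

theorem Setting.normal_phi (h : Setting p F E) {C1 C : Subgroup Ω} {b f : Ω}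
    (L : Layers p F E C1 C b f) : ((phi E).subgroupOf (outerN S E)).Normal := ⟨fun x hx n => by
  rcases Layers.outer_cases n.2 with hn | hn
  · exact h.phi_conj hn.2 hx
  · exact (L.inv _ hn).1 _ hx⟩

namespace Setting

variable (h : Setting p F E) {C1 C : Subgroup Ω} {b f : Ω} (L : Layers p F E C1 C b f)
  [((phi E).subgroupOf (outerN S E)).Normal]
include h L

/-- The normalizer modulo the Frattini subgroup of `E`. -/
theorem core {g : Ω} (hg : Mover S E g) {α : ZMod p} (ha0 : α ≠ 0) (ha2 : α ^ 2 ≠ 1)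
    (ha5 : α ^ 5 ≠ 1) {ψ : MulAut (normalizerIn S E)}
    (hψA : ψ ∈ F.autGroup (normalizerIn S E))
    (hψΦ : ∀ x : normalizerIn S E, (x : Ω) ∈ phi E → ((ψ x : normalizerIn S E) : Ω) ∈ phi E)
    (hψ1 : ∀ x : normalizerIn S E, (x : Ω) ∈ C1 →
      ((x : Ω) ^ α.val)⁻¹ * (ψ x : normalizerIn S E) ∈ phi E)
    (hψC : ∀ x : normalizerIn S E, (x : Ω) ∈ C → (x : Ω)⁻¹ * (ψ x : normalizerIn S E) ∈ C1)
    (hψf : ∀ x : normalizerIn S E, (x : Ω) = f → (f ^ α⁻¹.val)⁻¹ * (ψ x : normalizerIn S E) ∈ C)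
    (hψN : ∀ m : normalizerIn S E,
      ((ψ m : normalizerIn S E) : Ω) * ((m : Ω) ^ (α ^ 2).val)⁻¹ ∈ E) :
    ∃ w : normalizerIn S E, (w : Ω) = ⁅g, f⁆ ∧
      (∀ x : normalizerIn S E, ∃ i j : ℤ, (f ^ i * (w : Ω) ^ j)⁻¹ * x ∈ C) ∧
      (∀ x ∈ E, ∃ i : ℤ, (f ^ i)⁻¹ * x ∈ C) ∧
      ((w : Ω) ^ (α ^ 2).val)⁻¹ * (ψ w : normalizerIn S E) ∈ C ∧
      (∀ x ∈ C, ⁅g, x⁆ ∈ phi E) ∧ ⁅g, (w : Ω)⁆ ∈ C1 ∧
      ∃ n' : normalizerIn S E, ψ * conjAut (normalizerIn S E) g hg.norm * ψ⁻¹ =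
        MulAut.conj n' * conjAut (normalizerIn S E) g hg.norm ^ (α ^ 3).val := by
  haveI := h.finE
  haveI := h.finN
  set mkR := QuotientGroup.mk' ((phi E).subgroupOf (outerN S E)) with hmkR
  set ν := mkR.comp (Subgroup.inclusion (normalizer_le_outerN S E)) with hν
  have hν1 : ∀ x : (normalizerIn S E), ν x = 1 ↔ (x : Ω) ∈ phi E := fun x => QuotientGroup.eq_one_iff _
  have hνeq : ∀ {x y : (normalizerIn S E)}, ν x = ν y ↔ ((x : Ω))⁻¹ * (y : Ω) ∈ phi E := fun {x y} => by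
    rw [← inv_mul_eq_one, ← map_inv, ← map_mul, hν1]; rfl
  have hEN : E ≤ (normalizerIn S E) := le_normalizerIn h.le
  have hCN : C ≤ (normalizerIn S E) := L.CE.trans hEN
  set ΦN := (phi E).subgroupOf (normalizerIn S E) with hΦN
  set C1N := C1.subgroupOf (normalizerIn S E) with hC1N
  set CN := C.subgroupOf (normalizerIn S E) with hCN'
  set EN := E.subgroupOf (normalizerIn S E) with hEN'
  haveI : ΦN.Normal := ⟨fun x hx n => h.phi_conj n.2.2 hx⟩
  haveI : C1N.Normal := ⟨fun x hx n => by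
    show (n : Ω) * x * (n : Ω)⁻¹ ∈ C1
    rw [show (n : Ω) * x * (n : Ω)⁻¹ = ⁅(n : Ω), (x : Ω)⁆ * x by simp [commutatorElement_def, mul_assoc]]
    exact mul_mem (L.phiC1 (L.commC n n.2 x (L.C1C hx))) hx⟩
  haveI : CN.Normal := ⟨fun x hx n => by
    show (n : Ω) * x * (n : Ω)⁻¹ ∈ C
    rw [show (n : Ω) * x * (n : Ω)⁻¹ = ⁅(n : Ω), (x : Ω)⁆ * x by simp [commutatorElement_def, mul_assoc]]
    exact mul_mem (L.C1C (L.phiC1 (L.commC n n.2 x hx))) hx⟩
  letI : CommGroup ((normalizerIn S E) ⧸ CN) := { (inferInstance : Group ((normalizerIn S E) ⧸ CN)) with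
    mul_comm := fun u v => by
      induction u using QuotientGroup.induction_on with
      | _ x =>
      induction v using QuotientGroup.induction_on with
      | _ y =>
        rw [← QuotientGroup.mk_mul, ← QuotientGroup.mk_mul, QuotientGroup.eq,
          show (x * y)⁻¹ * (y * x) = ⁅y⁻¹, x⁻¹⁆ by simp [commutatorElement_def, mul_assoc]]
        exact L.C1C (L.commN _ (y⁻¹).2 _ (x⁻¹).2) }
  set q := QuotientGroup.mk' CN with hq
  have hexp : ∀ v : (normalizerIn S E) ⧸ CN, v ^ p = 1 := fun v => by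
    obtain ⟨x, rfl⟩ := QuotientGroup.mk'_surjective CN v
    rw [← map_pow]
    exact (QuotientGroup.eq_one_iff _).2 (L.C1C (L.phiC1 (L.pow x x.2)))
  have hcard : Nat.card ((normalizerIn S E) ⧸ CN) = p ^ 2 := by
    rw [← Subgroup.index_eq_card, ← Subgroup.relIndex,
      ← Subgroup.relIndex_mul_relIndex C E (normalizerIn S E) L.CE hEN, L.r3, h.relIndex_eq, sq]
  -- the three stabilizers
  set P3 := stabSub ΦN ⊓ stabSub C1N ⊓ stabSub CN with hP3
  set cg := conjAut (normalizerIn S E) g hg.norm with hcg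
  obtain ⟨hi1, hi2, hi3⟩ := L.inv g hg
  have hcgP : cg ∈ P3 := ⟨⟨mem_stabSub_of_le fun x hx => hi1 _ hx,
    mem_stabSub_of_le fun x hx => hi2 _ hx⟩, mem_stabSub_of_le fun x hx => hi3 _ hx⟩
  have hψP : ψ ∈ P3 := by
    refine ⟨⟨mem_stabSub_of_le fun x hx => hψΦ x hx, mem_stabSub_of_le fun x hx => ?_⟩,
      mem_stabSub_of_le fun x hx => ?_⟩
    · have := mul_mem (pow_mem (show (x : Ω) ∈ C1 from hx) α.val) (L.phiC1 (hψ1 x hx))
      rwa [mul_inv_cancel_left] at this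
    · have := mul_mem (show (x : Ω) ∈ C from hx) (L.C1C (hψC x hx))
      rwa [mul_inv_cancel_left] at this
  obtain ⟨r, hr⟩ := FusionModels.Pearl.exists_pow_conjAut (p := p) h.hS hg.memS hg.norm
  have hsec : ∀ γ ∈ P3, γ ^ p ^ r = 1 →
      (∀ x ∈ C1N, x⁻¹ * γ x ∈ ΦN) ∧ ∀ x ∈ CN, x⁻¹ * γ x ∈ C1N := fun γ hγ hγr =>
    ⟨FusionModels.Pearl.fixes_prime_section
        (by rw [Subgroup.relIndex_subgroupOf (L.C1C.trans hCN)]; exact L.r1) γ hγr
        (fun x hx => apply_mem_stabSub hγ.1.2 hx) (fun x hx => apply_mem_stabSub hγ.1.1 hx),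
      FusionModels.Pearl.fixes_prime_section
        (by rw [Subgroup.relIndex_subgroupOf hCN]; exact L.r2) γ hγr
        (fun x hx => apply_mem_stabSub hγ.2 hx) (fun x hx => apply_mem_stabSub hγ.1.2 hx)⟩
  have hcgA : cg ∈ F.autGroup (normalizerIn S E) :=
    autInducedBy_le_autGroup F (normalizerIn_le S E) (conjAut_mem hg.memS hg.norm)
  -- the action on `(normalizerIn S E) / C`
  let π : P3 →* MulAut ((normalizerIn S E) ⧸ CN) :=
    (stabAct CN).comp (Subgroup.inclusion (inf_le_right : P3 ≤ stabSub CN))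
  have hπ : ∀ (γ : P3) (x : (normalizerIn S E)), π γ (q x) = q ((γ : MulAut (normalizerIn S E)) x) := fun γ x => rfl
  set G2 := π ⟨cg, hcgP⟩ with hG2
  set P2 := π ⟨ψ, hψP⟩ with hP2
  set fN : (normalizerIn S E) := ⟨f, hEN L.fE⟩ with hfN
  set a := q fN with ha
  set wN : (normalizerIn S E) := cg fN * fN⁻¹ with hwN
  set w := q wN with hw
  have hGa : G2 a = a * w := by
    rw [hw, hwN, map_mul, map_inv, mul_comm (q (cg fN)), ← hπ ⟨cg, hcgP⟩, ← hG2, ← ha,
      mul_inv_cancel_left]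
  have hGp : IsPGroup p (Subgroup.zpowers G2) := by
    rintro ⟨_, i, rfl⟩
    refine ⟨r, Subtype.ext ?_⟩
    have : G2 ^ p ^ r = 1 := by
      rw [hG2, ← map_pow, show (⟨cg, hcgP⟩ : P3) ^ p ^ r = 1 from Subtype.ext hr, map_one]
    show (G2 ^ i) ^ p ^ r = 1
    rw [← zpow_natCast, ← zpow_mul, mul_comm, zpow_mul, zpow_natCast, this, one_zpow]
  have hGw : G2 w = w := by
    have := quad_of_card_dvd_sq hcard.dvd hexp hGp a
    rwa [hGa, mul_comm a w, mul_inv_cancel_right] at this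
  have hEle : ∀ x ∈ EN, q x ∈ Subgroup.zpowers a := by
    have hlt : CN < CN ⊔ Subgroup.zpowers fN := left_lt_sup.2 fun h' => L.fC (h' (Subgroup.mem_zpowers _))
    have hle : CN ⊔ Subgroup.zpowers fN ≤ EN :=
      sup_le (fun x hx => L.CE hx) (Subgroup.zpowers_le.2 L.fE)
    have e := Subgroup.relIndex_mul_relIndex CN _ EN hlt.le hle
    rw [show CN.relIndex EN = p by rw [Subgroup.relIndex_subgroupOf hEN]; exact L.r3] at e
    have heq : CN ⊔ Subgroup.zpowers fN = EN := by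
      rcases hp.out.eq_one_or_self_of_dvd _ (Dvd.intro _ e) with h1 | h1
      · exact absurd (Subgroup.relIndex_eq_one.1 h1) hlt.not_ge
      · rw [h1] at e
        exact le_antisymm hle (Subgroup.relIndex_eq_one.1 (by simpa [hp.out.ne_zero] using e))
    intro x hx
    rw [← heq] at hx
    have := Subgroup.mem_map_of_mem q hx
    rwa [Subgroup.map_sup, hq, QuotientGroup.map_mk'_self, bot_sup_eq, MonoidHom.map_zpowers] at this
  have hwa : w ∉ Subgroup.zpowers a := by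
    intro hwa
    have haa : ∀ v ∈ Subgroup.zpowers a, G2 v ∈ Subgroup.zpowers a := by
      rintro _ ⟨i, rfl⟩
      rw [map_zpow, hGa]
      exact zpow_mem (mul_mem (Subgroup.mem_zpowers a) hwa) i
    refine h.cj_not_le hg ?_
    rintro _ ⟨x, hx, rfl⟩
    have h1 : q (cg ⟨x, hEN hx⟩) ∈ (EN.map q) := by
      rw [← hπ ⟨cg, hcgP⟩]
      have hle : Subgroup.zpowers a ≤ EN.map q := Subgroup.zpowers_le.2 ⟨fN, L.fE, rfl⟩
      exact hle (haa _ (hEle _ hx))
    exact (mk_mem_map (fun y hy => L.CE hy : CN ≤ EN) (cg ⟨x, hEN hx⟩)).1 h1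
  have hspan : ∀ v : (normalizerIn S E) ⧸ CN, ∃ i j : ℤ, v = a ^ i * w ^ j := by
    have ha1 : a ≠ 1 := fun h' => L.fC ((QuotientGroup.eq_one_iff fN).1 h')
    have hlt : Subgroup.zpowers a < Subgroup.zpowers a ⊔ Subgroup.zpowers w :=
      left_lt_sup.2 fun h' => hwa (h' (Subgroup.mem_zpowers w))
    have hG : IsPGroup p ((normalizerIn S E) ⧸ CN) := IsPGroup.of_card hcard
    have b1 := mul_relIndex_le hG le_rfl
      (bot_lt_iff_ne_bot.2 (Subgroup.zpowers_ne_bot.2 ha1) : ⊥ < Subgroup.zpowers a)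
    have b2 := mul_relIndex_le hG bot_le hlt
    rw [Subgroup.relIndex_self, mul_one] at b1
    rw [Subgroup.relIndex_bot_left (Subgroup.zpowers a ⊔ Subgroup.zpowers w)] at b2
    have htop : Subgroup.zpowers a ⊔ Subgroup.zpowers w = ⊤ := by
      refine Subgroup.eq_top_of_card_eq _ (le_antisymm ?_ ?_)
      · exact Nat.le_of_dvd Nat.card_pos (Subgroup.card_subgroup_dvd_card _)
      · rw [hcard, sq]
        exact (Nat.mul_le_mul_left p b1).trans b2
    intro v
    obtain ⟨_, ⟨i, rfl⟩, _, ⟨j, rfl⟩, hv⟩ :=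
      Subgroup.mem_sup_of_normal_left.1 (htop.symm ▸ Subgroup.mem_top v)
    exact ⟨i, j, hv.symm⟩
  -- the torus
  have hPa : P2 a = a ^ α⁻¹.val := by
    rw [hP2, ha, hπ, ← map_pow, hq, QuotientGroup.mk'_apply, QuotientGroup.mk'_apply, eq_comm,
      QuotientGroup.eq]
    exact hψf fN rfl
  set k := (α ^ 2).val with hk
  obtain ⟨s, hPw⟩ : ∃ s : ℤ, P2 w = a ^ s * w ^ k := by
    obtain ⟨s, hs⟩ := hEle (ψ wN * (wN ^ k)⁻¹) (hψN wN)
    refine ⟨s, ?_⟩
    simp only at hs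
    rw [hs, map_mul, map_inv, map_pow, inv_mul_cancel_right]
    rfl
  set v := P2 w with hv
  set dl := ψ * cg * ψ⁻¹ with hdl
  have hdlP : dl ∈ P3 := mul_mem (mul_mem hψP hcgP) (inv_mem hψP)
  have hdlA : dl ∈ F.autGroup (normalizerIn S E) := mul_mem (mul_mem hψA hcgA) (inv_mem hψA)
  have hdlr : dl ^ p ^ r = 1 := by rw [hdl, conj_pow, hr, mul_one, mul_inv_cancel]
  set D2 := π ⟨dl, hdlP⟩ with hD2
  have hD2P : ∀ x, D2 (P2 x) = P2 (G2 x) := fun x => by
    rw [← MulAut.mul_apply, ← MulAut.mul_apply, hD2, hP2, hG2, ← map_mul, ← map_mul]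
    congr 2
    exact Subtype.ext (by simp [hdl])
  have hDv : D2 v = v := by rw [hv, hD2P, hGw]
  have haα : a = P2 (a ^ α.val) := by
    rw [map_pow, hPa, ← pow_mul, pow_val_eq (hexp a) (k := (1 : ZMod p)), ZMod.val_one, pow_one]
    simp [ha0]
  have hDa : D2 a = a * v ^ α.val := by
    conv_lhs => rw [haα]
    rw [hD2P, map_pow, hGa, mul_pow, map_mul, ← haα, map_pow, ← hv]
  have hps : (p : ℤ) ∣ s := by
    by_contra hps
    have hsz : (s : ZMod p) ≠ 0 := fun h' => hps ((ZMod.intCast_zmod_eq_zero_iff_dvd s p).1 h')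
    set j := ((α * (s : ZMod p))⁻¹).val with hj
    set β : P3 := ⟨dl, hdlP⟩ ^ j with hβ
    have hβA : (β : MulAut (normalizerIn S E)) ∈ F.autGroup (normalizerIn S E) := by
      rw [hβ, SubgroupClass.coe_pow]; exact pow_mem hdlA j
    set γ : P3 := β * ⟨cg, hcgP⟩ * β⁻¹ with hγ
    have hβw : π β (w ^ k) = a ^ (-s) := by
      obtain ⟨e1, e2⟩ := pow_apply_of_shift D2 (show D2 (v ^ α.val) = v ^ α.val by rw [map_pow, hDv]) hDa j
      have e3 : (D2 ^ j) v = v := (pow_apply_of_shift D2 (map_one _)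
        (show D2 v = v * 1 by rw [mul_one, hDv]) j).1.trans (by simp)
      rw [hβ, map_pow π, ← hD2, show w ^ k = (a ^ s)⁻¹ * v by rw [hPw, inv_mul_cancel_left], map_mul,
        map_inv, map_zpow, e1, e3, mul_zpow, ← zpow_natCast (v ^ α.val), ← zpow_mul, ← zpow_natCast,
        ← zpow_mul, mul_inv, ← zpow_neg, ← zpow_neg, mul_assoc, mul_eq_left]
      have hd : (p : ℤ) ∣ -((α.val : ℤ) * ((j : ℤ) * s)) + 1 := by
        rw [← ZMod.intCast_zmod_eq_zero_iff_dvd]
        push_cast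
        rw [hj, ZMod.natCast_zmod_val, ZMod.natCast_zmod_val]
        field_simp
        ring
      have h1 := Subgroup.mem_bot.1
        (zpow_mem_of_pow_mem (R := ⊥) (Subgroup.mem_bot.2 (hexp v)) hd)
      rwa [zpow_add, zpow_one] at h1
    have hGk : G2 (w ^ k) = w ^ k := by rw [map_pow, hGw]
    have hγa : π γ a = a := by
      have hfix : π γ (a ^ (-s)) = a ^ (-s) := by
        have hinv : (π β)⁻¹ (a ^ (-s)) = w ^ k := by rw [← hβw, MulAut.inv_apply_self]
        rw [hγ, map_mul, map_mul, map_inv, MulAut.mul_apply, MulAut.mul_apply, hinv, ← hG2, hGk, hβw]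
      exact mem_of_zpow_mem (p := p) (R := (π γ).toMonoidHom.eqLocus (MonoidHom.id _))
        (show (π γ) (a ^ p) = a ^ p by rw [hexp, map_one]) (k := -s) (by simpa using hps) hfix
    have hγr : (γ : MulAut (normalizerIn S E)) ^ p ^ r = 1 := by
      rw [← SubgroupClass.coe_pow, hγ, conj_pow, show (⟨cg, hcgP⟩ : P3) ^ p ^ r = 1 from Subtype.ext hr,
        mul_one, mul_inv_cancel]
      rfl
    obtain ⟨t1, t2⟩ := hsec _ γ.2 hγr
    have hγA : (γ : MulAut (normalizerIn S E)) ∈ F.autGroup (normalizerIn S E) := mul_mem (mul_mem hβA hcgA) (inv_mem hβA)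
    obtain ⟨n, hn⟩ := h.inner_of_layers L hγA t1 t2 fun x hx => by
      show x⁻¹ * (γ : MulAut (normalizerIn S E)) x ∈ CN
      refine QuotientGroup.eq.1 ?_
      show q x = π γ (q x)
      obtain ⟨i, hi⟩ := hEle x hx
      rw [← hi, map_zpow, hγa]
    have hγ1 : π γ = 1 := by
      refine MulEquiv.ext fun u => ?_
      obtain ⟨x, rfl⟩ := QuotientGroup.mk'_surjective CN u
      rw [← hq, hπ, hn, MulAut.conj_apply, map_mul, map_mul, map_inv, mul_comm (q n), mul_inv_cancel_right,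
        MulAut.one_apply]
    rw [hγ, map_mul, map_mul, map_inv, mul_inv_eq_one, mul_eq_left, ← hG2] at hγ1
    refine hwa ?_
    have : a * w = a * 1 := by rw [← hGa, hγ1, MulAut.one_apply, mul_one]
    rw [mul_left_cancel this]
    exact one_mem _
  have hPw' : P2 w = w ^ k := by
    rw [← hv, hPw, Subgroup.mem_bot.1 (zpow_mem_of_pow_mem (R := ⊥) (Subgroup.mem_bot.2 (hexp a)) hps),
      one_mul]
  -- the identity
  set m := (α ^ 3).val with hm
  set η := (cg ^ m)⁻¹ with hη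
  have hηP : η ∈ P3 := inv_mem (pow_mem hcgP m)
  have hηr : η ^ p ^ r = 1 := by rw [hη, inv_pow, ← pow_mul, mul_comm, pow_mul, hr, one_pow, inv_one]
  obtain ⟨η1, η2⟩ := hsec η hηP hηr
  obtain ⟨d1, d2⟩ := hsec dl hdlP hdlr
  have hGm : π ⟨η, hηP⟩ = (G2 ^ m)⁻¹ := by
    rw [hG2, ← map_pow, ← map_inv]; rfl
  have hDw : D2 w = w := by
    have hwk : D2 (w ^ k) = w ^ k := by rw [← hPw']; exact hDv
    have hk0 : ¬(p : ℤ) ∣ (k : ℤ) := fun hd => by
      rw [← ZMod.intCast_zmod_eq_zero_iff_dvd] at hd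
      push_cast at hd
      rw [hk, ZMod.natCast_zmod_val] at hd
      exact pow_ne_zero 2 ha0 hd
    exact mem_of_zpow_mem (p := p) (R := D2.toMonoidHom.eqLocus (MonoidHom.id _))
      (show D2 (w ^ p) = w ^ p by rw [hexp, map_one]) hk0 (by rw [zpow_natCast]; exact hwk)
  have hDG : D2 = G2 ^ m := by
    obtain ⟨e1, e2⟩ := pow_apply_of_shift G2 hGw hGa m
    have hda : D2 a = a * w ^ m := by
      rw [hDa, hv, hPw', ← pow_mul, pow_val_eq (hexp w) (k := α ^ 3)]
      rw [hk]; push_cast; rw [ZMod.natCast_zmod_val, ZMod.natCast_zmod_val]; ring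
    refine MulEquiv.ext fun u => ?_
    obtain ⟨i, j, rfl⟩ := hspan u
    rw [map_mul, map_mul, map_zpow, map_zpow, map_zpow, map_zpow, hda, hDw, e1, e2]
  have hγπ : π ⟨dl * η, mul_mem hdlP hηP⟩ = 1 := by
    rw [show (⟨dl * η, mul_mem hdlP hηP⟩ : P3) = ⟨dl, hdlP⟩ * ⟨η, hηP⟩ from rfl, map_mul, ← hD2, hGm,
      hDG, mul_inv_cancel]
  have htriv : ∀ (A B : Subgroup (normalizerIn S E)), (∀ x ∈ A, η x ∈ A) → (∀ x ∈ A, x⁻¹ * η x ∈ B) →
      (∀ x ∈ A, x⁻¹ * dl x ∈ B) → ∀ x ∈ A, x⁻¹ * (dl * η) x ∈ B := by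
    intro A B hA h1 h2 x hx
    have := B.mul_mem (h1 x hx) (h2 _ (hA x hx))
    rw [mul_assoc, mul_inv_cancel_left] at this
    exact this
  obtain ⟨n', hn'⟩ := h.inner_of_layers L
    (mul_mem hdlA (inv_mem (pow_mem hcgA m)) : dl * η ∈ F.autGroup (normalizerIn S E))
    (htriv C1N ΦN (fun x hx => apply_mem_stabSub hηP.1.2 hx) η1 d1)
    (htriv CN C1N (fun x hx => apply_mem_stabSub hηP.2 hx) η2 d2)
    (fun x _ => by
      show x⁻¹ * (dl * η) x ∈ CN
      refine QuotientGroup.eq.1 ?_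
      show q x = π ⟨dl * η, mul_mem hdlP hηP⟩ (q x)
      rw [hγπ, MulAut.one_apply])
  have hδ : dl = MulAut.conj n' * cg ^ m := by
    rw [← hn', hη, inv_mul_cancel_right]
  -- consequences modulo the Frattini subgroup
  set G : outerN S E ⧸ (phi E).subgroupOf (outerN S E) := mkR ⟨g, hg.mem_outerN⟩ with hG
  have hνcg : ∀ x : (normalizerIn S E), ν (cg x) = G * ν x * G⁻¹ := fun x => by
    rw [hG, hν, MonoidHom.comp_apply, MonoidHom.comp_apply, ← map_inv, ← map_mul, ← map_mul]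
    exact congrArg mkR (Subtype.ext rfl)
  obtain ⟨c1, c2⟩ := hsec cg hcgP hr
  have hG1 : ∀ x ∈ C1N, Commute G (ν x) := fun x hx => by
    refine mul_inv_eq_iff_eq_mul.1 ?_
    rw [← hνcg, eq_comm, hνeq]
    exact c1 x hx
  have hcen : ∀ (n x : (normalizerIn S E)), x ∈ CN → Commute (ν n) (ν x) := fun n x hx =>
    commutatorElement_eq_one_iff_mul_comm.1 (by
      rw [← map_commutatorElement, hν1]
      exact L.commC n n.2 x hx)
  have hshift : ∀ x d : (normalizerIn S E), ν (cg x) = ν x * ν d → Commute G (ν d) →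
      ∀ i : ℕ, ν ((cg ^ i) x) = ν x * ν d ^ i := by
    intro x d hxd hc i
    induction i with
    | zero => simp
    | succ i ih =>
      rw [pow_succ', MulAut.mul_apply, hνcg, ih, ← conj_mul, ← hνcg x, hxd,
        (hc.pow_right i).eq, mul_inv_cancel_right, mul_assoc, ← pow_succ']
  have hψν : ∀ x ∈ C1N, ν (ψ x) = ν x ^ α.val := fun x hx => by
    rw [← map_pow, eq_comm, hνeq]
    exact hψ1 x hx
  have hmain : ∀ x : (normalizerIn S E), ν (ψ (cg x)) = ν n' * ν ((cg ^ m) (ψ x)) * (ν n')⁻¹ := fun x => by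
    rw [← map_inv, ← map_mul, ← map_mul]
    congr 1
    have := DFunLike.congr_fun hδ (ψ x)
    simpa [hdl] using this
  have hαm : α ≠ α ^ 3 := fun e => ha2 (mul_left_cancel₀ ha0 (by
    rw [mul_one, ← pow_succ', ← e]))
  have hGC : ∀ x ∈ CN, Commute G (ν x) := by
    intro x hx
    set d := x⁻¹ * cg x with hd
    have hd1 : d ∈ C1N := c2 x hx
    have hxd : ν (cg x) = ν x * ν d := by rw [hd, map_mul, map_inv, mul_inv_cancel_left]
    set c := x⁻¹ * ψ x with hc
    have hc1 : c ∈ C1N := hψC x hx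
    have e1 : ν (ψ (cg x)) = ν x * ν c * ν d ^ α.val := by
      rw [show cg x = x * d by rw [hd, mul_inv_cancel_left], map_mul, map_mul, hψν d hd1, ← map_mul ν x c, hc, mul_inv_cancel_left]
    have hcd : ν (cg c) = ν c * ν 1 := by
      rw [map_one, mul_one, hνcg, (hG1 c hc1).eq, mul_inv_cancel_right]
    have e2 : ν ((cg ^ m) (ψ x)) = ν x * ν d ^ m * ν c := by
      rw [show ψ x = x * c by rw [hc, mul_inv_cancel_left], map_mul, map_mul,
        hshift x d hxd (hG1 d hd1) m, hshift c 1 hcd (by rw [map_one]; exact Commute.one_right G) m,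
        map_one, one_pow, mul_one]
    have hψxC : ψ x ∈ CN := apply_mem_stabSub hψP.2 hx
    have e3 := hmain x
    rw [(hcen n' _ (apply_mem_stabSub (pow_mem hcgP m).2 hψxC)).eq, mul_inv_cancel_right, e1, e2,
      mul_assoc, mul_assoc, (hcen c d (L.C1C hd1) |>.pow_right _).eq, ← mul_assoc, ← mul_assoc] at e3
    have hd0 : ν d = 1 := eq_one_of_pow_val_eq
      (by rw [← map_pow, hν1]; exact L.pow d d.2) hαm (mul_left_cancel (mul_right_cancel e3))
    refine mul_inv_eq_iff_eq_mul.1 ?_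
    rw [← hνcg, hxd, hd0, mul_one]
  have hGw : wN⁻¹ * cg wN ∈ C1N := by
    set c := wN⁻¹ * cg wN with hc
    have hcC : c ∈ CN := by
      refine QuotientGroup.eq.1 ?_
      show q wN = π ⟨cg, hcgP⟩ (q wN)
      exact hGw.symm
    set c' := (wN ^ k)⁻¹ * ψ wN with hc'
    have hc'C : c' ∈ CN := by
      refine QuotientGroup.eq.1 ?_
      show q (wN ^ k) = P2 (q wN)
      rw [map_pow, ← hw, hPw']
    set Γ1 := C1N.map ν with hΓ1
    have hmemΓ : ∀ x : (normalizerIn S E), ν x ∈ Γ1 → x ∈ C1N := fun x hx => by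
      obtain ⟨y, hy, hyx⟩ := hx
      rw [hνeq] at hyx
      have h3 : y * (y⁻¹ * x) ∈ C1N := mul_mem hy (L.phiC1 hyx)
      rwa [mul_inv_cancel_left] at h3
    have hc'd : ν (cg c') = ν c' * ν 1 := by
      rw [map_one, mul_one, hνcg, (hGC c' hc'C).eq, mul_inv_cancel_right]
    have e2 : ν ((cg ^ m) (ψ wN)) = ν wN ^ k * ν c ^ (m * k) * ν c' := by
      rw [show ψ wN = wN ^ k * c' by rw [hc', mul_inv_cancel_left], map_mul, map_mul, map_pow,
        map_pow, hshift wN c (by rw [hc, ← map_mul, mul_inv_cancel_left]) (hGC c hcC) m,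
        hshift c' 1 hc'd (by rw [map_one]; exact Commute.one_right G) m, map_one, one_pow, mul_one,
        ((hcen wN c hcC).pow_right m).mul_pow, ← pow_mul]
    have e1 : ν (ψ (cg wN)) = ν wN ^ k * ν c' * ν (ψ c) := by
      rw [show cg wN = wN * c by rw [hc, mul_inv_cancel_left], map_mul, map_mul,
        show ψ wN = wN ^ k * c' by rw [hc', mul_inv_cancel_left], map_mul, map_pow]
    have hY : ν ⁅n', (cg ^ m) (ψ wN)⁆ ∈ Γ1 := ⟨_, L.commN _ n'.2 _ (Subtype.prop _), rfl⟩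
    set y := ⁅n', (cg ^ m) (ψ wN)⁆ with hy
    have hyC : y ∈ CN := L.C1C (L.commN _ n'.2 _ (Subtype.prop _))
    have e3 := hmain wN
    rw [show ν n' * ν ((cg ^ m) (ψ wN)) * (ν n')⁻¹ = ν y * ν ((cg ^ m) (ψ wN)) by
      rw [hy, map_commutatorElement, commutatorElement_def]; group, e1, e2] at e3
    have hrhs : ν y * (ν wN ^ k * ν c ^ (m * k) * ν c') =
        ν wN ^ k * ν c' * (ν c ^ (m * k) * ν y) := by
      rw [← ((((hcen wN y hyC).pow_left k).mul_left ((hcen c y hyC).pow_left (m * k))).mul_left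
        (hcen c' y hyC)).eq, mul_assoc (ν wN ^ k), ((hcen c c' hc'C).pow_left (m * k)).eq]
      simp only [mul_assoc]
    rw [hrhs] at e3
    have e4 := mul_left_cancel e3
    -- `ν (ψ c) = ν c ^ (m * k) * ν y`
    have hcψ : ν c⁻¹ * ν (ψ c) ∈ Γ1 := ⟨c⁻¹ * ψ c, hψC c hcC, map_mul ν _ _⟩
    rw [e4, map_inv, ← mul_assoc] at hcψ
    have hpow := (Γ1.mul_mem_cancel_right hY).1 hcψ
    refine hmemΓ c (mem_of_zpow_mem (p := p) (k := ((m * k : ℕ) : ℤ) - 1) ?_ ?_ ?_)
    · rw [← map_pow, (hν1 _).2 (L.pow c c.2)]; exact one_mem _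
    · intro hd
      rw [← ZMod.intCast_zmod_eq_zero_iff_dvd] at hd
      push_cast at hd
      rw [hm, hk, ZMod.natCast_zmod_val, ZMod.natCast_zmod_val, sub_eq_zero, ← pow_add] at hd
      exact ha5 hd
    · rw [zpow_sub, zpow_natCast, zpow_one, ← ((Commute.refl (ν c)).pow_right (m * k)).inv_left.eq]
      exact hpow
  refine ⟨wN, ?_, fun x => ?_, fun x hx => ?_, ?_, fun x hx => ?_, ?_, n', hδ⟩
  · show g * f * g⁻¹ * f⁻¹ = ⁅g, f⁆
    rw [commutatorElement_def]
  · obtain ⟨i, j, hij⟩ := hspan (q x)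
    refine ⟨i, j, ?_⟩
    have : (fN ^ i * wN ^ j)⁻¹ * x ∈ CN := QuotientGroup.eq.1 (by
      show q (fN ^ i * wN ^ j) = q x
      rw [map_mul, map_zpow, map_zpow, hij, ha, hw])
    simpa [hCN', hfN, Subgroup.mem_subgroupOf] using this
  · obtain ⟨i, hi⟩ := hEle ⟨x, hEN hx⟩ hx
    refine ⟨i, ?_⟩
    have : (fN ^ i)⁻¹ * ⟨x, hEN hx⟩ ∈ CN := QuotientGroup.eq.1 (by
      show q (fN ^ i) = q _
      rw [map_zpow]; exact hi)
    simpa [hCN', hfN, Subgroup.mem_subgroupOf] using this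
  · have : (wN ^ k)⁻¹ * ψ wN ∈ CN := QuotientGroup.eq.1 (by
      show q (wN ^ k) = P2 (q wN)
      rw [map_pow, ← hw, hPw'])
    simpa [hCN', Subgroup.mem_subgroupOf] using this
  · set x' : (normalizerIn S E) := ⟨x, hCN hx⟩
    refine (hν1 (cg x' * x'⁻¹)).1 ?_
    rw [map_mul, map_inv, hνcg, (hGC x' hx).eq, mul_inv_cancel_right, mul_inv_cancel]
  · have h1 : cg wN * wN⁻¹ ∈ C1N := by
      have := (inferInstance : C1N.Normal).conj_mem _ hGw wN
      rwa [mul_inv_cancel_left] at this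
    exact h1

end Setting

end CfsgLib.Jordan.RankThree
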