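import Cfsg.Agent.Lib.StronglyPEmbedded.Basic
import Mathlib.GroupTheory.Nilpotent
import Mathlib.GroupTheory.GroupAction.Basic

/-!
# Unipotent automorphisms of a group of order `p ^ 3` and exponent `p`

A group of automorphisms with a strongly `p`-embedded subgroup of such a group has Sylow
`p`-subgroups of order `p`, and its transvections with different axes are in general position.
-/

set_option autoImplicit false
set_option linter.style.haveILetI false
set_option linter.unusedSectionVars false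

namespace CfsgLib.Jordan.RankThree

open Cfsg

variable {V : Type*} [CommGroup V] {p : ℕ}

theorem eq_one_of_pow_eq_one {G : Type*} [Group G] [hp : Fact p.Prime] {d : G} (hd : d ^ p = 1)
    {n : ℕ} (hn : d ^ n = 1) (hnp : ¬ p ∣ n) : d = 1 := by
  have h := Nat.Coprime.gcd_eq_one ((hp.out.coprime_iff_not_dvd).2 hnp)
  have := pow_gcd_eq_one.2 ⟨hd, hn⟩
  rwa [h, pow_one] at this

/-- The automorphisms acting trivially on every layer of the flag `1 ≤ L ≤ P ≤ V`. -/
def flagStab (L P : Subgroup V) : Subgroup (MulAut V) where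
  carrier := {α | (∀ x ∈ L, α x = x) ∧ (∀ x ∈ P, α x * x⁻¹ ∈ L) ∧ (∀ v, α v * v⁻¹ ∈ P) ∧ L ≤ P}
    ∪ {1}
  one_mem' := Or.inr rfl
  mul_mem' := by
    rintro α β (⟨a1, a2, a3, h⟩ | rfl) (⟨b1, b2, b3, h'⟩ | rfl)
    · have hP : ∀ v, v ∈ P → β v ∈ P := fun v hv => by
        simpa using P.mul_mem (b3 v) hv
      refine Or.inl ⟨fun x hx => ?_, fun x hx => ?_, fun v => ?_, h⟩
      · rw [MulAut.mul_apply, b1 x hx, a1 x hx]
      · have := L.mul_mem (a2 _ (hP x hx)) (b2 x hx)
        simpa [mul_assoc] using this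
      · have := P.mul_mem (a3 (β v)) (b3 v)
        simpa [mul_assoc] using this
    · exact Or.inl ⟨a1, a2, a3, h⟩
    · exact Or.inl (by simpa using ⟨b1, b2, b3, h'⟩)
    · exact Or.inr (one_mul 1)
  inv_mem' := by
    rintro α (⟨a1, a2, a3, h⟩ | rfl)
    · have hP : ∀ v, v ∈ P → α⁻¹ v ∈ P := fun v hv => by
        have := P.mul_mem (P.inv_mem (a3 (α⁻¹ v))) hv
        simpa [mul_comm] using this
      refine Or.inl ⟨fun x hx => ?_, fun x hx => ?_, fun v => ?_, h⟩
      · conv_lhs => rw [← a1 x hx]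
        simp
      · have := L.inv_mem (a2 _ (hP x hx))
        simpa [mul_comm] using this
      · have := P.inv_mem (a3 (α⁻¹ v))
        simpa [mul_comm] using this
    · exact Or.inr (by simp)

theorem mem_flagStab {L P : Subgroup V} {α : MulAut V} (h : L ≤ P) (h1 : ∀ x ∈ L, α x = x)
    (h2 : ∀ x ∈ P, α x * x⁻¹ ∈ L) (h3 : ∀ v, α v * v⁻¹ ∈ P) : α ∈ flagStab L P :=
  Or.inl ⟨h1, h2, h3, h⟩

/-- A flag stabilizer has exponent dividing `p` for odd `p`. -/
theorem pow_eq_one_of_mem_flagStab [hp : Fact p.Prime] (hp2 : p ≠ 2) (hexp : ∀ v : V, v ^ p = 1)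
    {L P : Subgroup V} {α : MulAut V} (h : α ∈ flagStab L P) : α ^ p = 1 := by
  rcases h with ⟨a1, a2, a3, -⟩ | h
  swap
  · rw [Set.mem_singleton_iff.1 h, one_pow]
  refine MulEquiv.ext fun v => ?_
  set q := α v * v⁻¹ with hq
  set d := α q * q⁻¹ with hd
  have hαd : α d = d := a1 d (a2 q (a3 v))
  have key : ∀ k : ℕ, (α ^ k) v = v * q ^ k * d ^ k.choose 2 := by
    intro k
    induction k with
    | zero => simp
    | succ k ih =>
      rw [pow_succ', MulAut.mul_apply, ih, map_mul, map_mul, map_pow, map_pow, hαd]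
      have e1 : α v = v * q := by rw [hq, mul_left_comm, mul_inv_cancel, mul_one]
      have e2 : α q = q * d := by rw [hd, mul_left_comm, mul_inv_cancel, mul_one]
      rw [e1, e2, Nat.choose_succ_succ', Nat.choose_one_right, mul_pow, pow_succ, pow_add]
      ac_rfl
  rw [key, hexp, mul_one, MulAut.one_apply]
  obtain ⟨c, hc⟩ := hp.out.dvd_choose_self (k := 2) (by norm_num)
    (lt_of_le_of_ne hp.out.two_le (Ne.symm hp2))
  rw [hc, pow_mul, hexp, one_pow, mul_one]

theorem isPGroup_flagStab [Fact p.Prime] (hp2 : p ≠ 2) (hexp : ∀ v : V, v ^ p = 1)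
    (L P : Subgroup V) : IsPGroup p (flagStab L P) := fun α =>
  ⟨1, Subtype.ext (by simpa using pow_eq_one_of_mem_flagStab hp2 hexp α.2)⟩

/-- `α` fixes `P` pointwise and moves everything inside `L`. -/
def IsTrans (α : MulAut V) (L P : Subgroup V) : Prop :=
  (∀ x ∈ P, α x = x) ∧ ∀ v, α v * v⁻¹ ∈ L

theorem IsTrans.conj {α : MulAut V} {L P : Subgroup V} (h : IsTrans α L P) (γ : MulAut V) :
    IsTrans (γ * α * γ⁻¹) (L.map γ.toMonoidHom) (P.map γ.toMonoidHom) := by
  refine ⟨?_, fun v => ⟨_, h.2 (γ⁻¹ v), ?_⟩⟩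
  · rintro _ ⟨x, hx, rfl⟩
    simp [h.1 x hx]
  · simp

section Embedded

variable [Finite V] [hp : Fact p.Prime] (hp2 : p ≠ 2) (hexp : ∀ v : V, v ^ p = 1)
  {X : Type*} [Group X] [Finite X] (ρ : X →* MulAut V) (hρ : Function.Injective ρ)
  {M : Subgroup X} (hM : IsStronglyPEmbedded p M)

include hM in
/-- A `p`-subgroup meeting `M` nontrivially lies in `M`. -/
theorem le_of_inf_ne_bot {H : Subgroup X} (hH : IsPGroup p H) (h : H ⊓ M ≠ ⊥) : H ≤ M := by
  obtain ⟨T, hT⟩ := hH.exists_le_sylow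
  exact hT.trans (StronglyPEmbedded.sylow_le_of_inf_ne_bot hM T fun h0 =>
    h (le_bot_iff.1 (h0 ▸ inf_le_inf_right M hT)))

include hM in
/-- A `p`-element in `M` whose conjugate lies in `M` is conjugated by an element of `M`. -/
theorem mem_of_conj_mem {x g : X} (hx : IsPGroup p (Subgroup.zpowers x)) (hx1 : x ≠ 1)
    (hxM : x ∈ M) (hgx : g * x * g⁻¹ ∈ M) : g ∈ M := by
  by_contra hg
  refine StronglyPEmbedded.not_dvd_card_inf_conj hM hg ?_
  set Z := Subgroup.zpowers (g * x * g⁻¹) with hZ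
  have hne : Z ≠ ⊥ := by simpa [hZ, conj_eq_one_iff] using hx1
  have hle : Z ≤ M ⊓ M.map (MulAut.conj g).toMonoidHom :=
    Subgroup.zpowers_le.2 ⟨hgx, x, hxM, rfl⟩
  have hp' : IsPGroup p Z := by
    have e : Z = (Subgroup.zpowers x).map (MulAut.conj g).toMonoidHom := by
      rw [MonoidHom.map_zpowers]; rfl
    rw [e]
    exact hx.map _
  rcases hp'.card_eq_or_dvd with h | h
  · exact absurd (Subgroup.card_eq_one.1 h) hne
  · exact h.trans (Subgroup.card_dvd_of_le hle)

include hp2 hexp hρ hM in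
/-- A transvection of `M` and one outside cannot have a centre on the axis of the other. -/
theorem not_le_axis {τ τ' : X} {L P L' P' : Subgroup V} (hτ : IsTrans (ρ τ) L P)
    (hτ' : IsTrans (ρ τ') L' P') (hLP : L ≤ P) (hLP' : L' ≤ P') (hτ1 : τ ≠ 1) (hτM : τ ∈ M)
    (hτ'M : τ' ∉ M) : ¬ L' ≤ P := fun h => by
  have hU : IsPGroup p ((flagStab L' P).comap ρ) :=
    (isPGroup_flagStab hp2 hexp L' P).comap_of_injective ρ hρ
  have h1 : τ ∈ (flagStab L' P).comap ρ :=
    mem_flagStab h (fun x hx => hτ.1 x (h hx)) (fun x hx => by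
      rw [hτ.1 x hx, mul_inv_cancel]; exact L'.one_mem) fun v => hLP (hτ.2 v)
  have h2 : τ' ∈ (flagStab L' P).comap ρ :=
    mem_flagStab h (fun x hx => hτ'.1 x (hLP' hx)) (fun x _ => hτ'.2 x) fun v => h (hτ'.2 v)
  refine hτ'M (le_of_inf_ne_bot hM hU (fun h0 => hτ1 ?_) h2)
  have : τ ∈ (flagStab L' P).comap ρ ⊓ M := ⟨h1, hτM⟩
  rwa [h0, Subgroup.mem_bot] at this

/-- In a group of exponent `p` a subgroup of order `p` inside one of index `p` is trivially
stabilized by a `p`-group of automorphisms stabilizing it. -/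
theorem fixed_of_card_prime {W : Type*} [Group W] [Finite W] (hW : Nat.card W = p)
    {T : Type*} [Group T] [Finite T] (hT : IsPGroup p T) (f : T →* MulAut W) (t : T) : f t = 1 := by
  letI : MulAction T W :=
    { smul := fun t w => f t w
      one_smul := fun w => show f 1 w = w by rw [map_one]; rfl
      mul_smul := fun s t w => show f (s * t) w = f s (f t w) by rw [map_mul]; rfl }
  obtain ⟨w, hw, hw1⟩ := hT.exists_fixed_point_of_prime_dvd_card_of_fixed_point W
    (a := 1) (hW ▸ dvd_rfl) (fun t => map_one (f t))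
  refine MulEquiv.ext fun x => ?_
  haveI : IsCyclic W := isCyclic_of_prime_card hW
  have htop : Subgroup.zpowers w = ⊤ := zpowers_eq_top_of_prime_card hW (Ne.symm hw1)
  obtain ⟨k, rfl⟩ := Subgroup.mem_zpowers_iff.1 (htop ▸ Subgroup.mem_top x)
  rw [map_zpow]
  exact congrArg (· ^ k) (hw t)

include hexp in
theorem card_zpowers_eq {a : V} (ha : a ≠ 1) : Nat.card (Subgroup.zpowers a) = p := by
  rw [Nat.card_zpowers, orderOf_eq_prime (hexp a) ha]

include hexp in
/-- A `p`-group of automorphisms of a group of order `p ^ 3` stabilizes a flag. -/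
theorem exists_flag (hV : Nat.card V = p ^ 3) {T : Subgroup (MulAut V)} (hT : IsPGroup p T) :
    ∃ L P : Subgroup V, Nat.card L = p ∧ Nat.card P = p ^ 2 ∧ L ≤ P ∧ T ≤ flagStab L P := by
  haveI : Finite (MulAut V) := Finite.of_injective (fun a : MulAut V => (a : V → V))
    fun _ _ h => MulEquiv.ext (congrFun h)
  letI : MulAction T V :=
    { smul := fun t w => (t : MulAut V) w
      one_smul := fun _ => rfl
      mul_smul := fun _ _ _ => rfl }
  obtain ⟨l, hl, hl1⟩ := hT.exists_fixed_point_of_prime_dvd_card_of_fixed_point V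
    (a := 1) (hV ▸ dvd_pow_self p (by norm_num)) (fun t => map_one (t : MulAut V))
  set L := Subgroup.zpowers l with hL
  have hLcard : Nat.card L = p := card_zpowers_eq hexp (Ne.symm hl1)
  have hLfix : ∀ t : T, ∀ x ∈ L, (t : MulAut V) x = x := by
    intro t x hx
    obtain ⟨k, rfl⟩ := Subgroup.mem_zpowers_iff.1 hx
    rw [map_zpow]
    exact congrArg (· ^ k) (hl t)
  have hLmap : ∀ t : T, L ≤ L.comap ((t : MulAut V).toMonoidHom) := fun t x hx => by
    show (t : MulAut V) x ∈ L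
    rwa [hLfix t x hx]
  letI : MulAction T (V ⧸ L) :=
    { smul := fun t => QuotientGroup.map L L ((t : MulAut V).toMonoidHom) (hLmap t)
      one_smul := fun w => by induction w using QuotientGroup.induction_on; rfl
      mul_smul := fun s t w => by induction w using QuotientGroup.induction_on; rfl }
  have hQ : Nat.card (V ⧸ L) = p ^ 2 := by
    have h := L.card_eq_card_quotient_mul_card_subgroup
    rw [hV, hLcard, pow_succ] at h
    exact Nat.eq_of_mul_eq_mul_right hp.out.pos h.symm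
  obtain ⟨m, hm, hm1⟩ := hT.exists_fixed_point_of_prime_dvd_card_of_fixed_point (V ⧸ L)
    (a := 1) (hQ ▸ dvd_pow_self p (by norm_num)) (fun t => map_one _)
  set P := (Subgroup.zpowers m).comap (QuotientGroup.mk' L) with hP
  have hLP : L ≤ P := fun x hx => by
    show QuotientGroup.mk' L x ∈ Subgroup.zpowers m
    rw [show QuotientGroup.mk' L x = 1 from (QuotientGroup.eq_one_iff x).2 hx]
    exact one_mem _
  have hPcard : Nat.card P = p ^ 2 := by
    have hm' : m ^ p = 1 := by
      induction m using QuotientGroup.induction_on with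
      | H x => rw [← QuotientGroup.mk_pow, hexp]; rfl
    have h := Subgroup.index_comap_of_surjective (Subgroup.zpowers m) (QuotientGroup.mk'_surjective L)
    have h1 := (Subgroup.zpowers m).card_mul_index
    rw [Nat.card_zpowers, orderOf_eq_prime hm' (Ne.symm hm1), hQ, sq] at h1
    have h2 := P.card_mul_index
    rw [hP, h, Nat.eq_of_mul_eq_mul_left hp.out.pos h1, hV] at h2
    exact Nat.eq_of_mul_eq_mul_right hp.out.pos (h2.trans (pow_succ p 2))
  have hPfix : ∀ t : T, ∀ x ∈ P, (t : MulAut V) x * x⁻¹ ∈ L := by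
    intro t x hx
    obtain ⟨k, hk⟩ := Subgroup.mem_zpowers_iff.1 hx
    rw [← QuotientGroup.eq_one_iff, QuotientGroup.mk_mul, QuotientGroup.mk_inv, mul_inv_eq_one]
    show t • (QuotientGroup.mk' L x) = QuotientGroup.mk' L x
    rw [← hk]
    show QuotientGroup.map L L _ (hLmap t) (m ^ k) = m ^ k
    rw [map_zpow]
    exact congrArg (· ^ k) (hm t)
  refine ⟨L, P, hLcard, hPcard, hLP, fun t ht => mem_flagStab hLP (hLfix ⟨t, ht⟩) (hPfix ⟨t, ht⟩) fun v => ?_⟩
  have hPmap : ∀ t : T, P ≤ P.comap ((t : MulAut V).toMonoidHom) := fun t x hx => by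
    simpa using P.mul_mem (hLP (hPfix t x hx)) hx
  have hVP : Nat.card (V ⧸ P) = p := by
    have h := P.card_eq_card_quotient_mul_card_subgroup
    rw [hV, hPcard, pow_succ'] at h
    exact Nat.eq_of_mul_eq_mul_right (pow_pos hp.out.pos 2) h.symm
  let f : T →* MulAut (V ⧸ P) := MonoidHom.mk'
    (fun t => QuotientGroup.congr P P (t : MulAut V) (Subgroup.eq_of_le_of_card_ge
      (by rintro _ ⟨x, hx, rfl⟩; exact hPmap t hx)
      (by rw [Subgroup.card_map_of_injective (MulEquiv.injective _)])))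
    fun s t => by
      refine MulEquiv.ext fun w => ?_
      induction w using QuotientGroup.induction_on
      rfl
  have h := DFunLike.congr_fun (fixed_of_card_prime hVP hT f ⟨t, ht⟩) (QuotientGroup.mk v)
  rw [← QuotientGroup.eq_one_iff, QuotientGroup.mk_mul, QuotientGroup.mk_inv, mul_inv_eq_one]
  exact h

include hp2 hexp hρ hM in
/-- The Sylow subgroups have order `p`. -/
theorem card_sylow (hV : Nat.card V = p ^ 3) (S : Sylow p X) : Nat.card S = p := by
  obtain ⟨T, hTM, -⟩ := StronglyPEmbedded.exists_sylow_le hM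
  rw [S.card_eq_multiplicity, ← T.card_eq_multiplicity]
  by_contra hne
  have hT2 : p ^ 2 ≤ Nat.card T := by
    obtain ⟨k, hk⟩ := T.2.exists_card_eq
    rcases k with _ | _ | k
    · exact absurd (Subgroup.card_eq_one.1 (by simpa using hk)) (T.ne_bot_of_dvd_card hM.1)
    · exact absurd (by simpa using hk) hne
    · rw [hk]; exact Nat.pow_le_pow_right hp.out.pos (by omega)
  obtain ⟨L, P, hL, hP, hLP, hflag⟩ := exists_flag hexp hV (T.2.map ρ)
  have hTf : ∀ t ∈ T, ρ t ∈ flagStab L P := fun t ht => hflag ⟨t, ht, rfl⟩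
  have hTfix : ∀ t ∈ T, ∀ x ∈ L, ρ t x = x := fun t ht x hx => by
    rcases hTf t ht with ⟨h1, -⟩ | h
    · exact h1 x hx
    · rw [Set.mem_singleton_iff.1 h]; rfl
  obtain ⟨m, hm, hmL⟩ := SetLike.exists_of_lt (lt_of_le_of_ne hLP fun h => by
    rw [h, hP, sq] at hL
    exact absurd hL (by nlinarith [hp.out.two_le]))
  obtain ⟨n, -, hnP⟩ := SetLike.exists_of_lt (lt_of_le_of_ne le_top fun h => by
    rw [h, Subgroup.card_top, hV] at hP
    exact absurd (Nat.pow_right_injective hp.out.two_le hP) (by norm_num) : P < ⊤)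
  have hPgen : ∀ x ∈ P, ∃ i : ℤ, x * (m ^ i)⁻¹ ∈ L := by
    have hle : L ⊔ Subgroup.zpowers m ≤ P := sup_le hLP (Subgroup.zpowers_le.2 hm)
    have hd := Subgroup.card_dvd_of_le (le_sup_left : L ≤ L ⊔ Subgroup.zpowers m)
    have hd' := Subgroup.card_dvd_of_le hle
    rw [hP] at hd'
    obtain ⟨k, hk2, hk⟩ := (Nat.dvd_prime_pow hp.out).1 hd'
    have hk1 : 2 ≤ k := by
      by_contra h
      have : Nat.card (L ⊔ Subgroup.zpowers m : Subgroup V) ≤ p := by
        rw [hk]; exact (Nat.pow_le_pow_right hp.out.pos (by omega : k ≤ 1)).trans (pow_one p).le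
      have e := Subgroup.eq_of_le_of_card_ge (le_sup_left : L ≤ L ⊔ Subgroup.zpowers m)
        (this.trans hL.ge)
      exact hmL (e ▸ Subgroup.mem_sup_right (Subgroup.mem_zpowers m))
    have e := Subgroup.eq_of_le_of_card_ge hle (by
      rw [hP, hk]; exact Nat.pow_le_pow_right hp.out.pos hk1)
    intro x hx
    rw [← e, Subgroup.mem_sup] at hx
    obtain ⟨y, hy, z, hz, rfl⟩ := hx
    obtain ⟨i, rfl⟩ := Subgroup.mem_zpowers_iff.1 hz
    exact ⟨i, by simpa using hy⟩
  have hTP : ∀ t ∈ T, ∀ x ∈ P, ρ t x * x⁻¹ ∈ L := fun t ht x hx => by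
    rcases hTf t ht with ⟨-, h2, -⟩ | h
    · exact h2 x hx
    · rw [Set.mem_singleton_iff.1 h]; simp
  have hTV : ∀ t ∈ T, ∀ v, ρ t v * v⁻¹ ∈ P := fun t ht v => by
    rcases hTf t ht with ⟨-, -, h3, -⟩ | h
    · exact h3 v
    · rw [Set.mem_singleton_iff.1 h]; simp
  let a : (T : Subgroup X) →* L := MonoidHom.mk' (fun t => ⟨ρ t m * m⁻¹, hTP t t.2 m hm⟩)
    fun s t => Subtype.ext (by
      show ρ ((s : X) * t) m * m⁻¹ = ρ s m * m⁻¹ * (ρ t m * m⁻¹)
      have e : ρ t m = ρ t m * m⁻¹ * m := by group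
      rw [map_mul, MulAut.mul_apply]
      conv_lhs => rw [e, map_mul, hTfix s s.2 _ (hTP t t.2 m hm)]
      ac_rfl)
  let b : (T : Subgroup X) →* P ⧸ L.subgroupOf P :=
    MonoidHom.mk' (fun t => QuotientGroup.mk ⟨ρ t n * n⁻¹, hTV t t.2 n⟩) fun s t => by
      rw [← QuotientGroup.mk_mul, QuotientGroup.eq_iff_div_mem, Subgroup.mem_subgroupOf]
      show ρ ((s : X) * t) n * n⁻¹ / (ρ s n * n⁻¹ * (ρ t n * n⁻¹)) ∈ L
      have h := hTP s s.2 _ (hTV t t.2 n)
      rw [map_mul, MulAut.mul_apply]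
      rw [map_mul, map_inv] at h
      convert h using 1
      refine Additive.ofMul.injective ?_
      simp only [ofMul_div, ofMul_mul, ofMul_inv]
      abel
  -- a transvection in `T`
  obtain ⟨τ, hτT, hτ1, hτ⟩ : ∃ τ ∈ T, τ ≠ 1 ∧ IsTrans (ρ τ) L P := by
    by_contra hcon
    push Not at hcon
    have hinj : Function.Injective (a.prod b) := by
      refine (injective_iff_map_eq_one _).2 fun t ht => ?_
      obtain ⟨ha, hb⟩ := Prod.ext_iff.1 ht
      by_contra ht1
      refine hcon t t.2 (fun h => ht1 (Subtype.ext h)) ⟨fun x hx => ?_, fun v => ?_⟩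
      · obtain ⟨i, hi⟩ := hPgen x hx
        have hm' : ρ t m = m := mul_inv_eq_one.1 (congrArg Subtype.val ha)
        have e : x = x * (m ^ i)⁻¹ * m ^ i := by group
        rw [e, map_mul, map_zpow, hm', hTfix t t.2 _ hi]
      · -- everything moves inside `L`
        have hnb : ρ t n * n⁻¹ ∈ L := Subgroup.mem_subgroupOf.1 ((QuotientGroup.eq_one_iff _).1 hb)
        let d : V →* V := MonoidHom.mk' (fun v => ρ t v * v⁻¹) fun x y => by
          rw [map_mul, mul_inv_rev]; ac_rfl
        have hPd : P ≤ L.comap d := fun x hx => hTP t t.2 x hx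
        have htop : L.comap d = ⊤ := by
          by_contra hne'
          have hd' := Subgroup.card_subgroup_dvd_card (L.comap d)
          rw [hV] at hd'
          obtain ⟨k, hk3, hk⟩ := (Nat.dvd_prime_pow hp.out).1 hd'
          have hk2 : k ≤ 2 := by
            by_contra h
            exact hne' (Subgroup.eq_top_of_card_eq _ (by rw [hk, hV, show k = 3 by omega]))
          have e := Subgroup.eq_of_le_of_card_ge hPd (by
            rw [hk, hP]; exact Nat.pow_le_pow_right hp.out.pos hk2)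
          exact hnP (e ▸ (show n ∈ L.comap d from hnb))
        exact (htop ▸ Subgroup.mem_top v : v ∈ L.comap d)
    haveI : Fintype (T : Subgroup X) := Fintype.ofFinite _
    have hc : ∀ s t : (T : Subgroup X), s * t = t * s := fun s t => hinj (by
      rw [map_mul, map_mul]
      refine Prod.ext (mul_comm _ _) ?_
      exact mul_comm _ _)
    have hbij : Function.Surjective (a.prod b) := by
      refine ((Nat.bijective_iff_injective_and_card _).2 ⟨hinj, le_antisymm
        (Nat.card_le_card_of_injective _ hinj) ?_⟩).2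
      rw [Nat.card_prod, hL]
      have := (L.subgroupOf P).card_eq_card_quotient_mul_card_subgroup
      rw [hP, Nat.card_congr (Subgroup.subgroupOfEquivOfLe hLP).toEquiv, hL, sq] at this
      rw [← Nat.eq_of_mul_eq_mul_right hp.out.pos this]
      exact (sq p).symm ▸ hT2
    haveI : Nontrivial L := Finite.one_lt_card_iff_nontrivial.1 (hL.symm ▸ hp.out.one_lt)
    obtain ⟨lz, hlz⟩ := exists_ne (1 : L)
    obtain ⟨t1, ht1⟩ := hbij (lz, 1)
    obtain ⟨t2, ht2⟩ := hbij (1, QuotientGroup.mk ⟨m, hm⟩)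
    obtain ⟨ha1, hb1⟩ := Prod.ext_iff.1 ht1
    obtain ⟨ha2, hb2⟩ := Prod.ext_iff.1 ht2
    have e1 : ρ t1 n * n⁻¹ ∈ L := Subgroup.mem_subgroupOf.1 ((QuotientGroup.eq_one_iff _).1 hb1)
    have e2 : (ρ t2 n * n⁻¹) / m ∈ L := by
      have := QuotientGroup.eq_iff_div_mem.1 hb2
      exact Subgroup.mem_subgroupOf.1 this
    set l1 := ρ t1 n * n⁻¹
    set l2 := (ρ t2 n * n⁻¹) / m
    have f1 : ρ t1 n = l1 * n := by simp [l1, mul_assoc]
    have f2 : ρ t2 n = l2 * m * n := by simp [l2, mul_assoc]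
    have g1 : ρ t1 m = lz * m := by
      rw [← show ρ t1 m * m⁻¹ = (lz : V) from congrArg Subtype.val ha1]
      simp [mul_assoc]
    have := congrArg (fun s : (T : Subgroup X) => ρ s n) (hc t1 t2)
    simp only [Subgroup.coe_mul, map_mul, MulAut.mul_apply, f1, f2] at this
    rw [g1, hTfix t1 t1.2 _ e2, hTfix t2 t2.2 _ e1] at this
    refine hlz (Subtype.ext (mul_right_cancel (b := l2 * m * (l1 * n)) ?_))
    rw [OneMemClass.coe_one, one_mul]
    calc (lz : V) * (l2 * m * (l1 * n)) = l2 * (lz * m) * (l1 * n) := by ac_rfl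
      _ = l1 * (l2 * m * n) := this
      _ = l2 * m * (l1 * n) := by ac_rfl
  -- the orbit of a centre outside `M`
  obtain ⟨g, -, hg⟩ := SetLike.exists_of_lt (lt_top_iff_ne_top.2 hM.2.1)
  have hτp : IsPGroup p (Subgroup.zpowers τ) := T.2.to_le (Subgroup.zpowers_le.2 hτT)
  have htr : ∀ h : X, IsTrans (ρ (h * τ * h⁻¹)) (L.map (ρ h).toMonoidHom)
      (P.map (ρ h).toMonoidHom) := fun h => by
    rw [map_mul, map_mul, map_inv]; exact hτ.conj _
  have key : ∀ h : X, L.map (ρ h).toMonoidHom ≤ P → h ∈ M := fun h hh => by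
    by_contra hhM
    exact not_le_axis hp2 hexp ρ hρ hM hτ (htr h) hLP (Subgroup.map_mono hLP) hτ1 (hTM hτT)
      (fun h1 => hhM (mem_of_conj_mem hM hτp hτ1 (hTM hτT) h1)) hh
  set L' := L.map (ρ g).toMonoidHom with hL'def
  have hL' : Nat.card L' = p := by
    rw [hL'def, Subgroup.card_map_of_injective (MulEquiv.injective _), hL]
  have hLg : ∀ x ∈ L', x ≠ 1 → x ∉ P := fun x hx hx1 hxP => hg (key g (by
    have hz : Subgroup.zpowers x = L' := Subgroup.eq_of_le_of_card_ge (Subgroup.zpowers_le.2 hx)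
      (by rw [hL', card_zpowers_eq hexp hx1])
    rw [← hL'def, ← hz]
    exact Subgroup.zpowers_le.2 hxP))
  have hfree : ∀ t ∈ T, ∀ x ∈ L', x ≠ 1 → ρ t x ∈ P.map (ρ g).toMonoidHom → t = 1 := by
    intro t ht x hx hx1 hxt
    obtain ⟨y, hy, rfl⟩ := hx
    obtain ⟨z, hz, hzx⟩ := hxt
    have hmem : g⁻¹ * t * g ∈ M := key _ (by
      have hy1 : y ≠ 1 := fun h => hx1 (by simp [h])
      have hzy : Subgroup.zpowers y = L := Subgroup.eq_of_le_of_card_ge (Subgroup.zpowers_le.2 hy)
        (by rw [hL, card_zpowers_eq hexp hy1])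
      rw [← hzy, MonoidHom.map_zpowers, Subgroup.zpowers_le]
      show ρ (g⁻¹ * t * g) y ∈ P
      rw [map_mul, map_mul, MulAut.mul_apply, MulAut.mul_apply, map_inv,
        show ρ t (ρ g y) = ρ g z from hzx.symm]
      simpa using hz)
    by_contra ht1
    refine hg (mem_of_conj_mem hM (x := g⁻¹ * t * g) ?_ ?_ hmem (by simpa [mul_assoc] using hTM ht))
    · have e : Subgroup.zpowers (g⁻¹ * t * g) =
          (Subgroup.zpowers t).map (MulAut.conj g⁻¹).toMonoidHom := by
        rw [MonoidHom.map_zpowers]; simp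
      rw [e]
      exact (T.2.to_le (Subgroup.zpowers_le.2 ht)).map _
    · intro h
      exact ht1 (by simpa [mul_assoc] using congrArg (fun z => g * z * g⁻¹) h)
  let Φ : ↥(T : Subgroup X) × {x : L' // x ≠ 1} → {v : V // v ∉ P} := fun q =>
    ⟨ρ q.1 q.2.1, fun h => by
      have h1 := hTV q.1 q.1.2 (q.2.1 : V)
      refine hLg _ q.2.1.2 (fun h2 => q.2.2 (Subtype.ext h2)) ?_
      simpa using P.mul_mem (P.inv_mem h1) h⟩
  have hLgP : L' ≤ P.map (ρ g).toMonoidHom := Subgroup.map_mono hLP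
  have hΦ : Function.Injective Φ := by
    rintro ⟨t, x⟩ ⟨s, y⟩ h
    have h' : ρ t x.1 = ρ s y.1 := congrArg Subtype.val h
    have hts : s⁻¹ * t = 1 := Subtype.ext (hfree _ (T.toSubgroup.mul_mem (T.toSubgroup.inv_mem s.2) t.2)
      x.1 x.1.2 (fun h2 => x.2 (Subtype.ext h2)) (by
        rw [show ρ ((s⁻¹ * t : (T : Subgroup X)) : X) x.1 = (ρ s)⁻¹ (ρ t x.1) by
          rw [Subgroup.coe_mul, Subgroup.coe_inv, map_mul, map_inv]; rfl, h']
        exact hLgP (by simpa using y.1.2)))
    obtain rfl := inv_mul_eq_one.1 hts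
    exact Prod.ext rfl (Subtype.ext (Subtype.ext ((ρ s).injective h')))
  have hcards : Nat.card {v : V // v ∉ P} = p ^ 3 - p ^ 2 ∧
      Nat.card {x : L' // x ≠ 1} = p - 1 := by
    haveI := Fintype.ofFinite V
    classical
    constructor
    · rw [Nat.card_eq_fintype_card, Fintype.card_subtype_compl, ← Nat.card_eq_fintype_card,
        ← Nat.card_eq_fintype_card, hV]
      exact congrArg _ hP
    · rw [Nat.card_eq_fintype_card, Fintype.card_subtype_compl, ← Nat.card_eq_fintype_card,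
        hL', Fintype.card_subtype_eq]
  have hsurj : Function.Surjective Φ := by
    refine ((Nat.bijective_iff_injective_and_card _).2 ⟨hΦ, le_antisymm
      (Nat.card_le_card_of_injective _ hΦ) ?_⟩).2
    rw [Nat.card_prod, hcards.1, hcards.2,
      show p ^ 3 - p ^ 2 = p ^ 2 * (p - 1) by rw [Nat.mul_sub, mul_one, ← pow_succ]]
    exact Nat.mul_le_mul_right _ hT2
  obtain ⟨y, hy, hy1⟩ : ∃ y ∈ L', y ≠ 1 := by
    obtain ⟨z, hz⟩ := Subgroup.ne_bot_iff_exists_ne_one.1 (fun h : L' = ⊥ => hp.out.ne_one (by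
      rw [← hL', h, Subgroup.card_bot]))
    exact ⟨z, z.2, fun h => hz (Subtype.ext h)⟩
  obtain ⟨w, ⟨hwP, hwg⟩, hw1⟩ : ∃ w, w ∈ P ⊓ P.map (ρ g).toMonoidHom ∧ w ≠ 1 := by
    by_contra h
    push Not at h
    have hinj : Function.Injective
        (fun q : P × P.map (ρ g).toMonoidHom => (q.1 : V) * (q.2 : V)) := by
      rintro ⟨⟨a, ha⟩, ⟨b, hb⟩⟩ ⟨⟨c, hc⟩, ⟨d, hd⟩⟩ hq
      simp only at hq
      have e : a / c = d / b := by rw [div_eq_div_iff_mul_eq_mul, hq, mul_comm]
      have h1 : a / c = 1 := h _ ⟨P.div_mem ha hc, e ▸ Subgroup.div_mem _ hd hb⟩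
      obtain rfl := div_eq_one.1 h1
      obtain rfl : b = d := mul_left_cancel hq
      rfl
    have := Nat.card_le_card_of_injective _ hinj
    rw [Nat.card_prod, Subgroup.card_map_of_injective (MulEquiv.injective _), hP, hV] at this
    nlinarith [pow_pos hp.out.pos 3, hp.out.two_le]
  have hyw : y * w ∉ P := fun h => hLg y hy hy1 (by simpa using P.mul_mem h (P.inv_mem hwP))
  obtain ⟨⟨t, x⟩, htx⟩ := hsurj ⟨_, hyw⟩
  have htx' : ρ t x.1 = y * w := congrArg Subtype.val htx
  have ht : t = 1 := Subtype.ext (hfree t t.2 x.1 x.1.2 (fun h2 => x.2 (Subtype.ext h2)) (by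
    rw [htx']; exact Subgroup.mul_mem _ (hLgP hy) hwg))
  subst ht
  rw [Subgroup.coe_one, map_one, MulAut.one_apply] at htx'
  have hwL : w ∈ L' := by
    have := L'.mul_mem (L'.inv_mem hy) (htx' ▸ x.1.2)
    simpa using this
  exact hLg w hwL hw1 hwP

end Embedded

end CfsgLib.Jordan.RankThree
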